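import Cfsg.Agent.Lib.M24Order.Keys57Defs

/-!
# Simple groups of order 244823040: computations for the blocks of the primes 5 and 7
-/

set_option autoImplicit false
set_option Elab.async false
set_option maxHeartbeats 4000000

namespace CfsgLib.M24Order

open CfsgLib.BrauerTuan CfsgLib.OrderBlocks

/-- The triples left for the prime `5`. -/
def trips57five : List (ℕ × ℕ × ℕ) :=
  (trips 244823040 5 [1024, 27, 5, 7, 11, 23]).filter fun t =>
    decide (t.2.2 % 23 ≠ 0) && decide (t.2.2 % 11 ≠ 0) && decide (t.2.2 % 2 = 0)

/-- The triples left for the prime `7`. -/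
def trips57seven : List (ℕ × ℕ × ℕ) :=
  (trips 244823040 7 [1024, 27, 5, 7, 11, 23]).filter fun t =>
    decide (t.2.2 % 23 ≠ 0) && decide (t.2.2 % 11 ≠ 0) && decide (t.2.2 % 5 ≠ 0)

/-- A check on a list from a segment and the rest. -/
theorem all_drop_step {α : Type} {L : List α} {f : α → Bool} {a : ℕ} (n : ℕ)
    (h : ((L.drop a).take n).all f = true) (h' : (L.drop (a + n)).all f = true) : (L.drop a).all f = true := by
  rw [← List.take_append_drop n (L.drop a), List.all_append, h, List.drop_drop, h']
  rfl

theorem seg57five_0 : (((trips57five.drop 0).take 6).all fun t =>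
    check57five t.1 t.2.1 t.2.2) = true := by
  decide +kernel

theorem seg57five_6 : (((trips57five.drop 6).take 6).all fun t =>
    check57five t.1 t.2.1 t.2.2) = true := by
  decide +kernel

theorem seg57five_12 : (((trips57five.drop 12).take 6).all fun t =>
    check57five t.1 t.2.1 t.2.2) = true := by
  decide +kernel

theorem seg57five_18 : (((trips57five.drop 18).take 6).all fun t =>
    check57five t.1 t.2.1 t.2.2) = true := by
  decide +kernel

theorem seg57five_24 : (((trips57five.drop 24).take 6).all fun t =>
    check57five t.1 t.2.1 t.2.2) = true := by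
  decide +kernel

theorem seg57five_30 : ((trips57five.drop 30).all fun t =>
    check57five t.1 t.2.1 t.2.2) = true := by
  decide +kernel

theorem key_trips57five : (((trips 244823040 5 [1024, 27, 5, 7, 11, 23]).filter fun t =>
      decide (t.2.2 % 23 ≠ 0) && decide (t.2.2 % 11 ≠ 0) && decide (t.2.2 % 2 = 0)).all fun t =>
    check57five t.1 t.2.1 t.2.2) = true := by
  have h : ((trips57five.drop 0).all fun t => check57five t.1 t.2.1 t.2.2) = true :=
    all_drop_step (a := 0) 6 seg57five_0 (all_drop_step (a := 6) 6 seg57five_6 (all_drop_step (a := 12) 6 seg57five_12 (all_drop_step (a := 18) 6 seg57five_18 (all_drop_step (a := 24) 6 seg57five_24 (seg57five_30)))))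
  rw [List.drop_zero] at h
  exact h

theorem seg57seven_0 : (((trips57seven.drop 0).take 3).all fun t =>
    check57seven t.1 t.2.1 t.2.2) = true := by
  decide +kernel

theorem seg57seven_3 : (((trips57seven.drop 3).take 3).all fun t =>
    check57seven t.1 t.2.1 t.2.2) = true := by
  decide +kernel

theorem seg57seven_6 : (((trips57seven.drop 6).take 3).all fun t =>
    check57seven t.1 t.2.1 t.2.2) = true := by
  decide +kernel

theorem seg57seven_9 : (((trips57seven.drop 9).take 3).all fun t =>
    check57seven t.1 t.2.1 t.2.2) = true := by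
  decide +kernel

theorem seg57seven_12 : ((trips57seven.drop 12).all fun t =>
    check57seven t.1 t.2.1 t.2.2) = true := by
  decide +kernel

theorem key_trips57seven : (((trips 244823040 7 [1024, 27, 5, 7, 11, 23]).filter fun t =>
      decide (t.2.2 % 23 ≠ 0) && decide (t.2.2 % 11 ≠ 0) && decide (t.2.2 % 5 ≠ 0)).all fun t =>
    check57seven t.1 t.2.1 t.2.2) = true := by
  have h : ((trips57seven.drop 0).all fun t => check57seven t.1 t.2.1 t.2.2) = true :=
    all_drop_step (a := 0) 3 seg57seven_0 (all_drop_step (a := 3) 3 seg57seven_3 (all_drop_step (a := 6) 3 seg57seven_6 (all_drop_step (a := 9) 3 seg57seven_9 (seg57seven_12))))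
  rw [List.drop_zero] at h
  exact h

end CfsgLib.M24Order
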