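import Cfsg.Agent.Lib.M24Order.Keys57Defs

/-!
# Simple groups of order 244823040: computations, the values at an involution for three lists
-/

set_option autoImplicit false
set_option maxHeartbeats 4000000

namespace CfsgLib.M24Order

open CfsgLib.BrauerTuan CfsgLib.OrderBlocks

theorem key_dead57 : [([32, 12, 2], [736, 1771, 3036, -5544]), ([32, 2], [736, -2024, -5544, 6831]),
    ([32, 2], [-5544, 5796, 6831, -7084])].all dead57 = true := by
  decide +kernel

end CfsgLib.M24Order
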