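import Cfsg.Agent.Lib.M24Order.FiveSevenVals
import Cfsg.Agent.Lib.M24Order.Keys57
import Cfsg.Agent.Lib.M24Order.Keys57Vals

/-!
# Simple groups of order 244823040: the principal blocks for 5 and 7
-/

set_option autoImplicit false
set_option linter.unusedSectionVars false
set_option linter.style.haveILetI false
set_option maxHeartbeats 1000000

namespace CfsgLib.M24Order

open Cfsg
open scoped ComplexConjugate CfsgLib.Char
open CfsgLib CfsgLib.BrauerTuan CfsgLib.OrderBlocks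
open scoped _root_.Classical

universe u

variable {G : Type u} [Group G] [Fintype G] [IsSimpleGroup G]

theorem iv_one (χ : IrrCharacter G) : iv χ 1 = (deg χ : ℤ) :=
  iv_eq (by rw [value_one']; push_cast; rfl)

theorem cC_one (hn : Nat.card G = 244823040) : cC (1 : G) = 244823040 := by
  rw [cC, show Subgroup.centralizer ({1} : Set G) = ⊤ from
    eq_top_iff.mpr fun x _ => Subgroup.mem_centralizer_singleton_iff.mpr (by simp), Subgroup.card_top, hn]

variable [Fact (Nat.Prime 5)] [Fact (Nat.Prime 7)]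

/-- The first list is impossible against the prime `7`. -/
theorem false_of_list1 {k : ℕ} {o' : Opt} (B : Blk G 5 ⟨5, k, 4, [506, -759, -5544, 5796], none⟩)
    (B' : Blk G 7 o') (hX : ∀ χ ∈ B'.xl, (7 : ℤ) ∣ B'.σ χ * (deg χ : ℤ) - 1) (h7 : ¬ 7 ∣ k) : False := by
  have hq : (B.xl.map fun χ => B.σ χ * (deg χ : ℤ)).Perm [506, -759, -5544, 5796] := List.Perm.of_eq B.xs_eq.symm
  have hempty : inX B B' = [] := List.eq_nil_iff_forall_not_mem.mpr fun χ hχ => by
    have hx := x_mem B hq (mem_inX.mp hχ).1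
    simp only [List.mem_cons, List.not_mem_nil, or_false] at hx
    rcases inX_residue hX hχ with ⟨-, h⟩ | ⟨-, h⟩ <;> rcases hx with e | e | e | e <;> rw [e] at h <;>
      norm_num at h
  have hY : inY B B' ≠ [] := by
    refine (cross_cases B rfl B' (by norm_num) h7).resolve_left ?_
    rintro ⟨χ, h1, h2, -⟩
    exact List.not_mem_nil (hempty ▸ mem_inX.mpr ⟨h1, h2⟩)
  obtain ⟨ψ, hψ⟩ := List.exists_mem_of_ne_nil _ hY
  obtain ⟨hψB, hψY⟩ := mem_inY.mp hψ
  have hsingle : inY B B' = [ψ] := by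
    have huniq : ∀ ξ ∈ inY B B', ξ = ψ := fun ξ hξ => by
      obtain ⟨h1, h2⟩ := mem_inY.mp hξ
      refine xl_eq_of_x B hq (by decide) h1 hψB ?_
      have hd : deg ξ = deg ψ := by
        cases hy : o'.y with
        | none => rw [B'.yl_none hy] at h2; exact absurd h2 List.not_mem_nil
        | some w => rw [(B'.yl_some w hy).2.1 ξ h2, (B'.yl_some w hy).2.1 ψ hψY]
      have e1 := x_mem B hq h1
      have e2 := x_mem B hq hψB
      have a1 := (B.sgn_eq h1).2
      have a2 := (B.sgn_eq hψB).2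
      simp only [List.mem_cons, List.not_mem_nil, or_false] at e1 e2
      omega
    have hnd' : (inY B B').Nodup :=
      ((List.nodup_append.mp (List.nodup_cons.mp B.nodup).2).1).filter _
    rcases h : inY B B' with _ | ⟨a, _ | ⟨b, l⟩⟩
    · exact absurd h hY
    · rw [huniq a (h ▸ List.mem_cons_self)]
    · rw [h] at hnd' huniq
      exact absurd ((huniq a (by simp)).trans (huniq b (by simp)).symm) (by
        intro e; subst e; simp at hnd')
  obtain ⟨hdvd, -⟩ := cross_single B rfl B' (by norm_num) h7 hsingle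
  rw [hempty, List.map_nil, List.sum_nil, add_zero, mul_one] at hdvd
  have hx := x_mem B hq hψB
  simp only [List.mem_cons, List.not_mem_nil, or_false] at hx
  rcases B.σ_unit hψB with e | e <;> rw [e] at hdvd hx <;> omega

variable [Fact (Nat.Prime 11)] [Fact (Nat.Prime 23)]

theorem kp2_of {T23 : Ctx G 23 1} (he23 : T23.D.e = 11) {T11 : Ctx G 11 1} (he11 : T11.D.e = 10) {s : ℤ}
    (hs : s = 1 ∨ s = -1) (χ : IrrCharacter G) : kp2 (s * (deg χ : ℤ)) = true := by
  rcases hs with rfl | rfl <;> simp [kp2, g2_deg T23 he23 T11 he11 χ]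

theorem dead57_2 : dead57 ([32, 12, 2], [736, 1771, 3036, -5544]) = true :=
  List.all_eq_true.mp key_dead57 _ List.mem_cons_self

theorem dead57_3 : dead57 ([32, 2], [736, -2024, -5544, 6831]) = true :=
  List.all_eq_true.mp key_dead57 _ (List.mem_cons_of_mem _ List.mem_cons_self)

theorem dead57_5 : dead57 ([32, 2], [-5544, 5796, 6831, -7084]) = true :=
  List.all_eq_true.mp key_dead57 _ (List.mem_cons_of_mem _ (List.mem_cons_of_mem _ List.mem_cons_self))

/-- **The principal blocks for `5` and `7` and their common member of degree `2024`.** -/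
theorem exists_five_seven (hn : Nat.card G = 244823040) (T23 : Ctx G 23 1) (he23 : T23.D.e = 11)
    (T11 : Ctx G 11 1) (he11 : T11.D.e = 10) :
    ∃ k5 ∈ ks5, ∃ (B5 : Blk G 5 ⟨5, k5, 4, [1771, -2024, -5544, 5796], none⟩) (χ : IrrCharacter G),
      χ ∈ B5.xl ∧ B5.σ χ = -1 ∧ deg χ = 2024 ∧
      ((∃ k7 ∈ [384, 48, 6], ∃ B7 : Blk G 7 ⟨7, k7, 3, [-1035, 2024], some 990⟩, χ ∈ B7.xl ∧ B7.σ χ = 1) ∨
        (∃ r ∈ six7, ∃ k7 ∈ r.1, ∃ B7 : Blk G 7 ⟨7, k7, 6, r.2, none⟩, χ ∈ B7.xl ∧ B7.σ χ = 1)) := by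
  obtain ⟨z, hz, h5z⟩ := exists_invol_five T11 he11
  -- the prime 5
  obtain ⟨k5, T5, hmem5⟩ := exists_ctx (p := 5) hn [1024, 27, 5, 7, 11, 23] (by norm_num) (by norm_num) (by norm_num)
  obtain ⟨h2k, -⟩ := exists_five T5 hz h5z
  have h5_11 : k5 % 11 ≠ 0 := fun h => by
    have := dvd_of_dvd_k T5 T11 (Nat.dvd_of_mod_eq_zero h)
    norm_num at this
  have h5_23 : k5 % 23 ≠ 0 := fun h => by
    have := dvd_of_dvd_k T5 T23 (Nat.dvd_of_mod_eq_zero h)
    norm_num at this
  obtain ⟨c5, hc5⟩ : ∃ c, 1 + T5.D.n * 5 = c := ⟨_, rfl⟩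
  rw [hc5] at hmem5
  have hkey5 := List.all_eq_true.mp key_trips57five _ (List.mem_filter.mpr ⟨hmem5, by
    simp only [Bool.and_eq_true, decide_eq_true_eq]
    omega⟩)
  obtain ⟨xs5, y5, hf5, ⟨B5'⟩⟩ := exists_blk T5 (e := T5.D.e) rfl hc5 kp2
    fun χ _ _ s hs => kp2_of he23 he11 hs χ
  simp only [check57five, forceL_eq] at hkey5
  have he5 : T5.D.e = 2 ∨ T5.D.e = 4 := by
    have h1 := T5.D.het
    have h2 := T5.D.two_le_e
    have h4 : T5.D.e * T5.D.t = 4 := by omega
    have h3 : T5.D.e ∣ 4 := ⟨_, h4.symm⟩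
    have := Nat.le_of_dvd (by norm_num) h3
    interval_cases h : T5.D.e <;> omega
  rcases he5 with he5 | he5 <;> rw [he5] at hf5 B5' hkey5
  · exfalso
    rw [if_pos rfl, List.all_eq_true] at hkey5
    obtain ⟨y, -, hy, hlen, hys⟩ := hf5.more (by norm_num)
    obtain ⟨x, hx⟩ := List.length_eq_one_iff.mp hlen
    have h := hkey5 x (hf5.mem x (hx ▸ List.mem_cons_self))
    rw [show 1 + x = y by rw [hys, hx]; simp, List.contains_iff_mem.mpr hy] at h
    exact Bool.noConfusion h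
  rw [if_neg (by norm_num), List.all_eq_true] at hkey5
  obtain ⟨rfl, hlen5, hsum5⟩ := hf5.one (by norm_num)
  obtain ⟨s, hs, hsp⟩ := exists_mem_combos _ xs5 hf5.mem
  rw [hlen5] at hs
  have h := hkey5 s hs
  rw [hsp.sum_eq, hsum5] at h
  simp only [ne_eq, not_true, decide_false, Bool.false_or, List.any_eq_true, Bool.and_eq_true,
    List.contains_iff_mem, List.isPerm_iff] at h
  obtain ⟨⟨ks, q⟩, hr, hkks, hqs⟩ := h
  simp only at hkks hqs
  obtain ⟨B, -, -, -, -⟩ := exists_reorder B5' (hqs.trans hsp)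
  have hk5 : k5 ∈ ks5 := by
    simp only [table57, ks5, List.mem_cons, Prod.mk.injEq, List.not_mem_nil, or_false] at hr
    rcases hr with ⟨rfl, -⟩ | ⟨rfl, -⟩ | ⟨rfl, -⟩ | ⟨rfl, -⟩ | ⟨rfl, -⟩ <;>
      simp only [ks5, List.mem_cons, List.not_mem_nil, or_false] at hkks ⊢ <;> omega
  have h57 : ¬ 7 ∣ k5 := by
    simp only [ks5, List.mem_cons, List.not_mem_nil, or_false] at hk5
    rcases hk5 with rfl | rfl | rfl | rfl <;> norm_num
  -- the prime 7
  obtain ⟨k7, T7, hmem7⟩ := exists_ctx (p := 7) hn [1024, 27, 5, 7, 11, 23] (by norm_num) (by norm_num) (by norm_num)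
  have h7_5 : k7 % 5 ≠ 0 := fun h => by
    rcases (Nat.Prime.dvd_mul (by norm_num : Nat.Prime 7)).mp (dvd_of_dvd_k T7 T5 (Nat.dvd_of_mod_eq_zero h))
      with h' | h'
    · norm_num at h'
    · exact h57 h'
  have h7_11 : k7 % 11 ≠ 0 := fun h => by
    have := dvd_of_dvd_k T7 T11 (Nat.dvd_of_mod_eq_zero h)
    norm_num at this
  have h7_23 : k7 % 23 ≠ 0 := fun h => by
    have := dvd_of_dvd_k T7 T23 (Nat.dvd_of_mod_eq_zero h)
    norm_num at this
  obtain ⟨c7, hc7⟩ : ∃ c, 1 + T7.D.n * 7 = c := ⟨_, rfl⟩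
  rw [hc7] at hmem7
  have hkey7 := List.all_eq_true.mp key_trips57seven _ (List.mem_filter.mpr ⟨hmem7, by
    simp only [Bool.and_eq_true, decide_eq_true_eq]
    omega⟩)
  obtain ⟨xs7, y7, hf7, ⟨B7⟩⟩ := exists_blk T7 (e := T7.D.e) rfl hc7 kp2
    fun χ _ _ s hs => kp2_of he23 he11 hs χ
  obtain ⟨e7, he7⟩ : ∃ e, T7.D.e = e := ⟨_, rfl⟩
  have he7' : e7 = 2 ∨ e7 = 3 ∨ e7 = 6 := by
    have h1 := T7.D.het
    have h2 := T7.D.two_le_e
    rw [he7] at h1 h2
    have h4 : e7 * T7.D.t = 6 := by omega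
    have h3 : e7 ∣ 6 := ⟨_, h4.symm⟩
    have := Nat.le_of_dvd (by norm_num) h3
    interval_cases e7 <;> omega
  rw [he7] at hf7 B7 hkey7
  simp only [check57seven, forceL_eq] at hkey7
  have hX7 : ∀ χ ∈ B7.xl, (7 : ℤ) ∣ B7.σ χ * (deg χ : ℤ) - 1 := fun χ hχ =>
    fastX_mod (List.mem_filter.mp (hf7.mem _ ((congrArg (fun l : List ℤ => B7.σ χ * (deg χ : ℤ) ∈ l) B7.xs_eq).mpr
      (List.mem_map.mpr ⟨χ, hχ, rfl⟩)))).1
  simp only [table57, ks5, List.mem_cons, Prod.mk.injEq, List.not_mem_nil, or_false] at hr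
  rcases hr with ⟨rfl, rfl⟩ | ⟨rfl, rfl⟩ | ⟨rfl, rfl⟩ | ⟨rfl, rfl⟩ | ⟨rfl, rfl⟩
  · exact (false_of_list1 B B7 hX7 h57).elim
  · exact (false_of_dead57 T23 T11 he11 B rfl (by decide) hkks dead57_2).elim
  · exact (false_of_dead57 T23 T11 he11 B rfl (by decide) hkks dead57_3).elim
  swap
  · exact (false_of_dead57 T23 T11 he11 B rfl (by decide) hkks dead57_5).elim
  refine ⟨k5, hk5, B, ?_⟩
  have hq : (B.xl.map fun χ => B.σ χ * (deg χ : ℤ)).Perm [1771, -2024, -5544, 5796] := List.Perm.of_eq B.xs_eq.symm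
  -- no exceptional character of degree 2024
  have hnoY : ∀ y, y7 = some y → y.natAbs ≠ 2024 := fun y hy => by
    have hne : e7 + 1 ≠ 7 := fun h => by
      obtain ⟨hn', -⟩ := hf7.one h
      rw [hn'] at hy
      exact absurd hy (by simp)
    obtain ⟨y', hy', hyY, hlen, hys⟩ := hf7.more hne
    rw [hy, Option.some.injEq] at hy'
    subst hy'
    rw [if_neg (by omega), List.all_eq_true] at hkey7
    obtain ⟨t, ht, htp⟩ := exists_mem_combos _ xs7 hf7.mem
    rw [hlen] at ht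
    have h := hkey7 t ht
    rw [htp.sum_eq, ← hys, List.contains_iff_mem.mpr hyY, Bool.not_true, Bool.false_or, Bool.and_eq_true,
      decide_eq_true_eq] at h
    exact h.1
  obtain ⟨χ, hχ5, hχ7, hσ⟩ : ∃ χ ∈ B.xl, χ ∈ B7.xl ∧ B.σ χ * B7.σ χ = -1 := by
    refine (cross_cases B rfl B7 (by norm_num) h57).resolve_right fun hne => ?_
    obtain ⟨ψ, hψ⟩ := List.exists_mem_of_ne_nil _ hne
    obtain ⟨h1, h2⟩ := mem_inY.mp hψ
    cases hy : y7 with
    | none =>
      have h' := B7.yl_none hy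
      rw [h'] at h2
      exact List.not_mem_nil h2
    | some w =>
      have hd := (B7.yl_some w hy).2.1 ψ h2
      have hw := hnoY w hy
      have hne' : e7 + 1 ≠ 7 := fun h => by
        obtain ⟨hn', -⟩ := hf7.one h
        rw [hn'] at hy
        exact absurd hy (by simp)
      obtain ⟨y', hy', hyY, -, -⟩ := hf7.more hne'
      rw [hy, Option.some.injEq] at hy'
      subst hy'
      have hm := fastY_mod (List.mem_filter.mp hyY).1
      have hx := x_mem B hq h1
      have hda := (B.sgn_eq h1).2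
      rw [hd] at hda hx
      simp only [List.mem_cons, List.not_mem_nil, or_false] at hx
      rcases B.σ_unit h1 with a | a <;> rw [a] at hda hx <;> omega
  have hχ : B.σ χ = -1 ∧ deg χ = 2024 ∧ B7.σ χ = 1 := by
    have hx := x_mem B hq hχ5
    have hm := hX7 χ hχ7
    simp only [List.mem_cons, List.not_mem_nil, or_false] at hx
    rcases B.σ_unit hχ5 with a | a <;> rcases B7.σ_unit hχ7 with b | b <;> rw [a, b] at hσ <;> rw [a] at hx <;>
      rw [b] at hm <;> refine ⟨?_, ?_, ?_⟩ <;> omega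
  obtain ⟨hσ5, hdeg, hσ7⟩ := hχ
  refine ⟨χ, hχ5, hσ5, hdeg, ?_⟩
  have h2024 : (2024 : ℤ) ∈ xs7 :=
    (congrArg (fun l : List ℤ => (2024 : ℤ) ∈ l) B7.xs_eq).mpr (List.mem_map.mpr ⟨χ, hχ7, by rw [hσ7, hdeg]; rfl⟩)
  by_cases h6 : e7 = 6
  · right
    subst h6
    rw [if_pos rfl, Bool.or_eq_true, List.contains_iff_mem.mpr (hf7.mem _ h2024), Bool.not_true,
      List.all_eq_true] at hkey7
    obtain ⟨rfl, hlen, hsum⟩ := hf7.one (by norm_num)
    obtain ⟨t, ht, htp⟩ := exists_mem_combos _ (xs7.erase 2024) fun a ha => hf7.mem a (List.mem_of_mem_erase ha)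
    rw [List.length_erase_of_mem h2024, hlen] at ht
    have hp : (2024 :: t).Perm xs7 := (htp.cons _).trans (List.perm_cons_erase h2024).symm
    have h := hkey7.resolve_left (by simp) t ht
    have hs : 2024 + t.sum = -1 := by rw [← hsum, ← hp.sum_eq, List.sum_cons]
    have hsq : 1 + 2024 * 2024 + (t.map fun x => x * x).sum ≤ (244823040 : ℤ) := by
      have hb := sum_sq_le (l := Blocks.trivIrr G :: B7.xl) (g := (1 : G))
        (by have h := B7.nodup; rw [B7.yl_none rfl, List.append_nil] at h; exact h)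
        fun φ _ => iv_spec φ (one_mul 1)
      rw [List.map_cons, List.sum_cons, iv_triv, cC_one hn] at hb
      have he : (B7.xl.map fun φ => iv φ 1 * iv φ 1).sum = (xs7.map fun x => x * x).sum := by
        refine Eq.trans ?_ (congrArg (fun l : List ℤ => (l.map fun x => x * x).sum) B7.xs_eq).symm
        rw [List.map_map]
        refine congrArg List.sum (List.map_congr_left fun φ hφ => ?_)
        rw [iv_one, Function.comp_apply]
        rcases B7.σ_unit hφ with a | a <;> rw [a] <;> ring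
      rw [he, ← (hp.map fun x : ℤ => x * x).sum_eq, List.map_cons, List.sum_cons] at hb
      push_cast at hb
      linarith
    simp only [hs, ne_eq, not_true, decide_false, Bool.false_or, Bool.or_eq_true, decide_eq_true_eq,
      List.any_eq_true, Bool.and_eq_true, List.contains_iff_mem, List.isPerm_iff] at h
    rcases h with h | ⟨r, hr, hk, hperm⟩
    · exact absurd h (not_lt.mpr hsq)
    obtain ⟨B7', -, hmem', -, hσ'⟩ := exists_reorder B7 (hperm.trans hp)
    exact ⟨r, hr, k7, hk, B7', (hmem' χ).mpr hχ7, (hσ' χ hχ7).trans hσ7⟩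
  · left
    obtain ⟨y, rfl, hyY, hlen, hys⟩ := hf7.more (by omega)
    rw [if_neg h6, List.all_eq_true] at hkey7
    obtain ⟨t, ht, htp⟩ := exists_mem_combos _ xs7 hf7.mem
    rw [hlen] at ht
    have h := hkey7 t ht
    rw [htp.sum_eq, ← hys, List.contains_iff_mem.mpr hyY, List.contains_iff_mem.mpr (htp.symm.subset h2024)] at h
    simp only [Bool.not_true, Bool.false_or, Bool.and_eq_true, decide_eq_true_eq, List.contains_iff_mem,
      List.isPerm_iff] at h
    obtain ⟨-, ⟨⟨rfl, hk⟩, hperm⟩, rfl⟩ := h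
    obtain ⟨B7', -, hmem', -, hσ'⟩ := exists_reorder B7 (hperm.trans htp)
    exact ⟨k7, hk, B7', (hmem' χ).mpr hχ7, (hσ' χ hχ7).trans hσ7⟩

end CfsgLib.M24Order
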