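import Cfsg.Agent.Lib.M24Order.Octads
import Cfsg.Agent.Lib.Steiner.Witt

/-!
# Simple groups of order 244823040 with the core data of M24 are M24
-/

set_option autoImplicit false
set_option linter.unusedSectionVars false
set_option linter.style.haveILetI false

namespace CfsgLib.M24Order

open Cfsg CfsgLib
open scoped Pointwise
open CfsgLib.M23Order (order_conj)

universe u

variable {G : Type u} [Group G] [Finite G]

theorem exists_act (F : Core G) [IsSimpleGroup G] : ∃ M : Subgroup G, Act G (G ⧸ M) := by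
  obtain ⟨M, h24⟩ := exists_index F
  exact ⟨M, ⟨F, h24, inferInstance⟩⟩

/-- A simple group with the Sylow data and the character of the largest Mathieu group is that group. -/
theorem isoM24_of_core (F : Core G) [IsSimpleGroup G] : Nonempty (G ≃* Cfsg.M24) := by
  classical
  obtain ⟨M, A⟩ := exists_act F
  letI : Fintype (G ⧸ M) := Fintype.ofFinite _
  have hX : Fintype.card (G ⧸ M) = 24 := by rw [← Nat.card_eq_fintype_card]; exact A.card_X
  set B : Set (Finset (G ⧸ M)) :=
    {b | ∃ u : G, orderOf u = 2 ∧ (fixSet (G ⧸ M) u).Nonempty ∧ (b : Set (G ⧸ M)) = fixSet (G ⧸ M) u} with hB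
  have hsteiner : IsSteinerSystem 5 8 B := by
    refine ⟨?_, fun s hs => ?_⟩
    · rintro b ⟨u, hu, ⟨q, hq⟩, e⟩
      rw [← Set.ncard_coe_finset, e]
      exact (fix_vals A (x := q) hq).1 hu
    · obtain ⟨q, hq⟩ := Finset.card_pos.mp (show 0 < s.card by omega)
      obtain ⟨u, hu, hsu⟩ := (octads_at A q).2 (s : Set (G ⧸ M)) (by rw [Set.ncard_coe_finset, hs]) hq
      refine ⟨(fixSet (G ⧸ M) u).toFinset,
        ⟨⟨u, hu, ⟨q, hsu hq⟩, Set.coe_toFinset _⟩, fun y hy => Set.mem_toFinset.mpr (hsu hy)⟩, ?_⟩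
      rintro b ⟨⟨w, hw, -, e⟩, hsb⟩
      refine Finset.coe_injective ?_
      rw [e, Set.coe_toFinset]
      by_contra hne
      have hsw : (s : Set (G ⧸ M)) ⊆ fixSet (G ⧸ M) w := fun y hy => e ▸ hsb hy
      have h4 := (octads_at A q).1 w u hw hu (hsw hq) (hsu hq) hne
      have h5 := Set.ncard_le_ncard (Set.subset_inter hsw hsu) (Set.toFinite _)
      rw [Set.ncard_coe_finset, hs] at h5
      omega
  -- the action
  let P := MulAction.toPermHom G (G ⧸ M)
  have hP : ∀ g, P g ∈ setSystemAut B := by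
    have hmap : ∀ (g : G) (b : Finset (G ⧸ M)), b ∈ B → P g • b ∈ B := by
      rintro g b ⟨u, hu, ⟨q, hq⟩, e⟩
      have hset : fixSet (G ⧸ M) (g * u * g⁻¹) = g • fixSet (G ⧸ M) u := by
        ext y
        rw [Set.mem_smul_set_iff_inv_smul_mem]
        show (g * u * g⁻¹) • y = y ↔ u • g⁻¹ • y = g⁻¹ • y
        rw [mul_smul, mul_smul, ← eq_inv_smul_iff]
      refine ⟨g * u * g⁻¹, (order_conj g u).trans hu, ⟨g • q, hset ▸ Set.smul_mem_smul_set hq⟩, ?_⟩
      rw [hset, ← e, Finset.coe_smul_finset]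
      rfl
    intro g
    rw [MulAction.mem_stabilizer_iff]
    ext b
    rw [Set.mem_smul_set_iff_inv_smul_mem]
    constructor
    · intro h
      have := hmap g _ h
      rwa [smul_inv_smul] at this
    · intro h
      have := hmap g⁻¹ b h
      rwa [map_inv] at this
  let Φ := P.codRestrict (setSystemAut B) hP
  have hinj : Function.Injective Φ := by
    rw [injective_iff_map_eq_one]
    intro g hg
    exact eq_one_of_fix A fun y => Equiv.ext_iff.mp (congrArg Subtype.val hg) y
  obtain ⟨φ, hφ⟩ := Steiner.exists_octad_label hX hsteiner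
  have hM : setSystemAut octads = M24 := CfsgLib.Golay.M24_eq_octad_aut.symm
  let e : setSystemAut B ≃* M24 :=
    (MulEquiv.subgroupCongr (by rw [hφ])).trans ((Steiner.autEquiv φ octads).trans (MulEquiv.subgroupCongr hM))
  have hbij : Function.Bijective Φ := (Nat.bijective_iff_injective_and_card Φ).mpr
    ⟨hinj, by rw [F.card, Nat.card_congr e.toEquiv, CfsgLib.Golay.natCard_M24]⟩
  exact ⟨(MulEquiv.ofBijective Φ hbij).trans e⟩

end CfsgLib.M24Order
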