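import Cfsg.Agent.Lib.M24Order.CoreOf
import Cfsg.Agent.Lib.M24Order.CharFiveSeven
import Cfsg.Agent.Lib.M24Order.Iso

/-!
# Simple groups of order 244823040: a character of degree 23 identifies the largest Mathieu group
-/

set_option autoImplicit false
set_option linter.unusedSectionVars false
set_option linter.style.haveILetI false

namespace CfsgLib.M24Order

open Cfsg
open CfsgLib CfsgLib.BrauerTuan CfsgLib.OrderBlocks

universe u

variable {G : Type u} [Group G] [Fintype G] [IsSimpleGroup G]

/-- The character input of the local analysis, from a character of degree 23. -/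
theorem core_of_deg (hn : Nat.card G = 244823040) (h : ∃ χ : IrrCharacter G, deg χ = 23) : Core G := by
  haveI : Fact (Nat.Prime 5) := ⟨by norm_num⟩
  haveI : Fact (Nat.Prime 7) := ⟨by norm_num⟩
  haveI : Fact (Nat.Prime 11) := ⟨by norm_num⟩
  haveI : Fact (Nat.Prime 23) := ⟨by norm_num⟩
  obtain ⟨χ, hd⟩ := h
  obtain ⟨T23, he23⟩ := exists_twentythree hn
  obtain ⟨T11, he11⟩ := exists_eleven hn T23 he23
  obtain ⟨k5, -, B5, -⟩ := exists_five_seven hn T23 he23 T11 he11
  exact core_of_char hn T23 he23 T11 he11 B5.T B5.e_eq hd

/-- A simple group of order 244823040 with a character of degree 23 is the largest Mathieu group. -/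
theorem isoM24_of_deg (hn : Nat.card G = 244823040) (h : ∃ χ : IrrCharacter G, deg χ = 23) :
    Nonempty (G ≃* Cfsg.M24) :=
  isoM24_of_core (core_of_deg hn h)

end CfsgLib.M24Order
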