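import Cfsg.Agent.Lib.M24Order.Keys11Defs

/-!
# Simple groups of order 244823040: the computations for the blocks of the primes 5 and 7, definitions
-/

set_option autoImplicit false

namespace CfsgLib.M24Order

open CfsgLib.BrauerTuan CfsgLib.OrderBlocks

/-- The residue filter for `23` and `11` on signed degrees. -/
def kp2 (x : ℤ) : Bool := g2 x.natAbs

/-- The values of `|C(P₅) : P₅|` left. -/
def ks5 : List ℕ := [192, 32, 12, 2]

/-- The lists left for the prime `5`, with the values of `|C(P₅) : P₅|`. -/
def table57 : List (List ℕ × List ℤ) :=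
  [(ks5, [506, -759, -5544, 5796]), ([32, 12, 2], [736, 1771, 3036, -5544]), ([32, 2], [736, -2024, -5544, 6831]),
   (ks5, [1771, -2024, -5544, 5796]), ([32, 2], [-5544, 5796, 6831, -7084])]

/-- The lists left for the prime `7` with one class of exceptional characters, with the values of
`|C(P₇) : P₇|`. -/
def six7 : List (List ℕ × List ℤ) :=
  [([192, 24, 3], [22, -230, 253, -1035, -1035, 2024]), ([24, 3], [22, -230, 736, -1035, -1518, 2024]),
   ([192, 24, 3], [22, 253, 253, -1035, -1518, 2024]), ([24, 3], [22, 253, 736, -1518, -1518, 2024]),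
   ([24, 3], [22, 253, 736, 2024, 2024, -5060]), ([24, 3], [22, 253, 736, 2024, 9108, -12144]),
   ([192, 24, 3], [22, 253, -1035, 2024, 3795, -5060]), ([24, 3], [22, 736, -1035, 2024, 3312, -5060]),
   ([24, 3], [22, 736, -1518, 2024, 3795, -5060]), ([192, 24, 3], [22, -1035, -1518, -1518, 2024, 2024]),
   ([192, 24, 3], [22, -1035, 2024, 2024, 2024, -5060]), ([192, 24, 3], [22, -1035, 2024, 2024, 9108, -12144]),
   ([192, 24, 3], [22, -1035, 2024, -5060, -5060, 9108]), ([24, 3], [-230, 253, 736, 736, 2024, -3520]),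
   ([24, 3], [-230, 736, -1035, 2024, 2024, -3520]), ([24, 3], [-230, -1035, -1035, 2024, -3520, 3795]),
   ([24, 3], [253, 253, 253, 736, 2024, -3520]), ([24, 3], [253, 253, -1035, 2024, 2024, -3520]),
   ([24, 3], [253, 736, -1518, 2024, 2024, -3520]), ([24, 3], [253, -1035, -1035, 2024, 3312, -3520]),
   ([24, 3], [253, -1035, -1518, 2024, -3520, 3795]), ([24, 3], [736, -1035, -1518, 2024, 3312, -3520]),
   ([24, 3], [736, -1518, -1518, 2024, -3520, 3795]), ([24, 3], [736, 2024, 2024, -3520, 3795, -5060]),
   ([24, 3], [-1035, -1518, 2024, 2024, 2024, -3520]), ([24, 3], [-1035, -1518, 2024, -3520, -5060, 9108]),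
   ([24, 3], [-1035, -1518, 2024, 6336, 6336, -12144]), ([24, 3], [-1035, 2024, -3520, 3795, 3795, -5060])]

/-- The lists for the prime `5`. -/
def check57five (c e k : ℕ) : Bool :=
  forceL ((fastX 5 k (e * c)).filter kp2) fun X =>
    if e = 2 then forceL ((fastY 5 k (e * c) e).filter kp2) fun Y => X.all fun x => !Y.contains (1 + x)
    else (combos X 4).all fun s =>
      decide (s.sum ≠ -1) || table57.any fun r => r.1.contains k && r.2.isPerm s

/-- The lists for the prime `7` with a member of signed degree `2024`, and no exceptional degree `2024`. -/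
def check57seven (c e k : ℕ) : Bool :=
  forceL ((fastX 7 k (e * c)).filter kp2) fun X =>
    if e = 6 then !X.contains 2024 || (combos X 5).all fun s => decide (2024 + s.sum ≠ -1) ||
      decide (244823040 < 1 + 2024 * 2024 + (s.map fun x => x * x).sum) ||
      (six7.any fun r => r.1.contains k && r.2.isPerm (2024 :: s))
    else forceL ((fastY 7 k (e * c) e).filter kp2) fun Y => (combos X (e - 1)).all fun s =>
      !Y.contains (1 + s.sum) || (decide ((1 + s.sum).natAbs ≠ 2024) && (!s.contains 2024 ||
        (decide (e = 3) && [384, 48, 6].contains k && [-1035, 2024].isPerm s && decide (1 + s.sum = 990))))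

/-- The orders of centralisers divisible by `10` and prime to `11` and `23`. -/
def cents10 : List ℕ := (divs [512, 27, 7]).map (10 * ·)

/-- No values at an involution of `C(P₅)` fit a list of four. -/
def noVals57 (ks : List ℕ) (C : ℕ) : List ℤ → Bool
  | [x₁, x₂, x₃, x₄] =>
    forceN (244823040 / C) fun i => forceN (lim14 C) fun s =>
    forceL (opts5 i s x₁) fun l₁ => l₁.isEmpty || forceL (opts5 i s x₂) fun l₂ => l₂.isEmpty ||
    forceL (opts5 i s x₃) fun l₃ => l₁.all fun A₁ => l₂.all fun A₂ => l₃.all fun A₃ =>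
      forceI (-sgn x₄ * (1 + sgn x₁ * A₁ + sgn x₂ * A₂ + sgn x₃ * A₃)) fun A₄ =>
        !val5 C x₄ A₄ ||
        decide ((C : ℤ) < 1 + A₁ * A₁ + A₂ * A₂ + A₃ * A₃ + A₄ * A₄) ||
        ks.all fun k => (let r := fracSum [x₁, x₂, x₃, x₄] [A₁, A₂, A₃, A₄]
         forceI (((244823040 * k * 5 : ℕ) : ℤ) * r.1 * r.2) fun v => forceI ((C : ℤ) * r.2) fun w =>
           decide (v < 0) || decide (v % (w * w) ≠ 0) || !isSq v.natAbs)
  | _ => false

/-- The three lists killed by the values at an involution. -/
def dead57 (r : List ℕ × List ℤ) : Bool := cents10.all fun C => noVals57 r.1 C r.2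

end CfsgLib.M24Order
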