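import Cfsg.Agent.Lib.M24Order.Dfs4Defs
import Cfsg.Agent.Lib.M24Order.Keys57Defs

/-!
# Simple groups of order 244823040: the computations for `|N(P₇) : C(P₇)| = 3`, definitions

The members of the principal blocks for 23 and 11 and their values at an involution `s` inverting `P₁₁` with
`5` in the order of its centraliser, at an involution `z` with `7` there, and at an element of order 5.
-/

set_option autoImplicit false

namespace CfsgLib.M24Order.E3

open CfsgLib.M24Order CfsgLib.OrderBlocks CfsgLib.BrauerTuan

/-- A member or a pair of exceptional members: the signed degree in the sum of the block for 23, and the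
number of characters. -/
abbrev Ent := ℤ × ℕ

/-- The order. -/
def order : ℕ := 244823040

/-- The sign in the block for `11`. -/
def delta (d : ℕ) : ℤ := if d % 11 = 1 then 1 else if d % 11 = 10 then -1 else 0

/-- The budget for the squares of the degrees of the free members. -/
def budget : ℤ := 244823040 - (1 + 1771 * 1771 + 2024 * 2024 + 5544 * 5544 + 5796 * 5796 + 1035 * 1035 + 2 * 990 * 990)

/-- The signed degrees in the block for `23`. -/
def xs23 : List ℤ := [-22, -45, 231, -252, -528, 990, -1540, 3520, -3840, 5544, -10395, -12672]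

/-- The signed degrees of its exceptional members. -/
def ys23 : List ℤ := [-12, 264, -495, 540, 770, -1024, -1760, -2772, 3024, 6336, -9856, -11880]

/-- The signed degrees in the block for `11` that are multiples of `23`, other than `23`. -/
def free11 : List ℤ :=
  [15456, -12880, 12420, -8832, 7360, -5796, 4830, 3312, -2760, 1288, -1242, 1035, -736, -483, 276, -230]

/-- A common multiple of the degrees. -/
def lcmEs : List Ent → ℕ
  | [] => Nat.lcm 5544 990
  | e :: es => Nat.lcm e.1.natAbs (lcmEs es)

/-- The values at an involution with centraliser of order `C`; `spec`: the involution inverts `P₁₁`. -/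
def opts (C : ℕ) (spec : Bool) (d : ℕ) : List ℤ :=
  forceN (d / Nat.gcd (order / C) d) fun q => forceI (((d : ℤ) + 10 * delta d) / 11) fun f =>
    forceN (if spec then min (min (d - 1) (lim14 C)) f.toNat else min (d - 1) (lim14 C)) fun l =>
      forceN (l / q) fun m =>
        ((List.range (2 * m + 1)).map fun i : ℕ => (q : ℤ) * ((i : ℤ) - (m : ℤ))).filter fun A =>
          decide (((d : ℤ) - A) % 4 = 0) && (!spec || decide ((f - A) % 2 = 0)) &&
            (!(decide (C % 5 = 0) && decide (d % 5 = 0)) || decide (A % 5 = 0))

/-- The values at an element of order 5 with centraliser of order `5 k`. -/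
def opts5 (k d : ℕ) : List ℤ :=
  forceN (d / Nat.gcd (order / (5 * k)) d) fun q =>
    forceN (min (min (d - 1) (lim14 (5 * k))) ((((d : ℤ) + 10 * delta d) / 11).toNat)) fun l =>
      forceN (l / q) fun m =>
        ((List.range (2 * m + 1)).map fun i : ℕ => (q : ℤ) * ((i : ℤ) - (m : ℤ))).filter fun A =>
          decide ((A - (d : ℤ)) % 5 = 0) && (decide (d % 5 ≠ 0) || decide (A = 0))

/-- The orders of the centralisers of involutions divisible by `m`. -/
def centsP (m : ℕ) : List ℕ := ((divs [256, 27, 5, 7]).map fun q => 4 * q).filter fun C => decide (C % m = 0)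

/-- The values of the members of the blocks for 5 and 7. -/
structure Tup where
  a : ℤ
  b : ℤ
  c : ℤ
  d : ℤ
  e : ℤ
  y : ℤ
deriving DecidableEq

/-- The sum of the squares, with the trivial character. -/
def Tup.sq (t : Tup) : ℤ := 1 + t.a * t.a + t.b * t.b + t.c * t.c + t.d * t.d + t.e * t.e + 2 * (t.y * t.y)

def lcm5 : ℕ := Nat.lcm (Nat.lcm 1771 2024) (Nat.lcm 5544 5796)

def lcm7 : ℕ := Nat.lcm (Nat.lcm 1035 2024) 990

/-- The sum of the block for `5`, scaled. -/
def sum5 (t : Tup) : ℤ :=
  (lcm5 : ℤ) + t.a * t.a * ((lcm5 : ℤ) / 1771) - t.b * t.b * ((lcm5 : ℤ) / 2024) -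
    t.c * t.c * ((lcm5 : ℤ) / 5544) + t.d * t.d * ((lcm5 : ℤ) / 5796)

/-- The sum of the block for `7`, scaled. -/
def sum7 (b e y : ℤ) : ℤ :=
  (lcm7 : ℤ) - e * e * ((lcm7 : ℤ) / 1035) + b * b * ((lcm7 : ℤ) / 2024) - y * y * ((lcm7 : ℤ) / 990)

/-- A value congruent to `s` modulo 5, if 5 divides the order of the centraliser. -/
def opts55 (C : ℕ) (spec : Bool) (d : ℕ) (s : ℤ) : List ℤ :=
  (opts C spec d).filter fun A => !decide (C % 5 = 0) || decide ((A - s) % 5 = 0)

/-- The number is a square times the scale. -/
def sqOK (C k : ℕ) (t : Tup) : Bool :=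
  forceI (244823040 * (k : ℤ) * 5 * sum5 t) fun nu => forceN (lcm5 * C * C) fun de =>
    decide (0 ≤ nu) && decide (nu % (de : ℤ) = 0) && isSq (nu.toNat / de)

/-- All tuples of values are in the table. -/
def checkTups (k : ℕ) (spec : Bool) (m : ℕ) (table : List (ℕ × Tup)) : Bool :=
  (centsP m).all fun C => forceL (opts55 C spec 1771 1) fun la => forceL (opts55 C spec 5544 (-1)) fun lc =>
    forceL (opts55 C spec 5796 1) fun ld => forceL (opts C spec 990) fun ly =>
      (opts55 C spec 2024 (-1)).all fun b => (opts C spec 1035).all fun e => forceI (1 - e + b) fun y =>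
        !(ly.contains y && decide (1 + b * b + e * e + 2 * (y * y) ≤ (C : ℤ)) && decide (sum7 b e y = 0)) ||
          la.all fun a => lc.all fun c => forceI (-1 - a + b + c) fun d =>
            !(decide ((Tup.mk a b c d e y).sq ≤ (C : ℤ)) && ld.contains d && sqOK C k ⟨a, b, c, d, e, y⟩) ||
              table.contains (C, ⟨a, b, c, d, e, y⟩)

/-- The values at a class: the order of the centraliser, the blocks for 5 and 7, the other members. -/
structure Sol where
  C : ℕ
  t : Tup
  vs : List ℤ
deriving DecidableEq

/-- The unknowns of a column; the list `us` scales the second linear condition. -/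
def vars (C : ℕ) (spec dd : Bool) (L : ℕ) : Option Ent → List Ent → List ℤ → List Var
  | _, [], _ => []
  | p, e :: es, us =>
    ⟨dd && decide (p = some e), sgn e.1, (L : ℤ) / e.1, (L : ℤ) / e.1 * us.headD 0, e.2, opts C spec e.1.natAbs⟩ ::
      vars C spec dd L (some e) es us.tail

/-- The scaled sum over the members for two classes. -/
def pairSum (L : ℕ) : List Ent → List ℤ → List ℤ → ℤ
  | e :: es, p :: ps, q :: qs => (L : ℤ) / e.1 * (p * q) + pairSum L es ps qs
  | _, _, _ => 0

/-- The start of the second linear condition. -/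
def uStart (L : ℕ) (ref : Option Sol) (t : Tup) : ℤ :=
  match ref with
  | none => 0
  | some s => (L : ℤ) + s.t.c * t.c * ((L : ℤ) / 5544) + 2 * (s.t.y * t.y) * ((L : ℤ) / 990)

/-- The search in a column. -/
def searchCol (C : ℕ) (spec dd : Bool) (es : List Ent) (table : List (ℕ × Tup)) (us : List ℤ) (ref : Option Sol)
    (fin : Sol → Bool) : Bool :=
  forceN (lcmEs es) fun L =>
    search 0 true (vars C spec dd L none es us) ((table.filter fun p => decide (p.1 = C)).map fun p =>
      ⟨((C : ℤ) - p.2.sq).toNat, 1 + p.2.c + 2 * p.2.y,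
        (L : ℤ) + p.2.c * p.2.c * ((L : ℤ) / 5544) + 2 * (p.2.y * p.2.y) * ((L : ℤ) / 990),
        uStart L ref p.2, fun vs => fin ⟨C, p.2, vs⟩⟩)

/-- The unknowns at an element of order 5. -/
def vars5 (k L : ℕ) : List Ent → List Var
  | [] => []
  | e :: es => ⟨false, sgn e.1, 244823040 * ((L : ℤ) / e.1), 0, e.2, opts5 k e.1.natAbs⟩ :: vars5 k L es

/-- The scale at an element of order 5. -/
def mod5 (k L : ℕ) : ℕ := L * (5 * k) * (5 * k) * 23

/-- All value lists at an element of order 5 pass. -/
def searchY (k : ℕ) (es : List Ent) (fin : List ℤ → Bool) : Bool :=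
  forceN (lcmEs es) fun L =>
    search (mod5 k L) false (vars5 k L es) [⟨5 * k - 5, 0, 244823040 * ((L : ℤ) + (L : ℤ) / 5544), 0, fin⟩]

/-- The class multiplication with an element of order 5 fits. -/
def compat (k : ℕ) (es : List Ent) (s : Sol) (cur : List ℤ) : Bool :=
  forceN (lcmEs es) fun L => forceI ((L : ℤ) - s.t.c * ((L : ℤ) / 5544) + pairSum L es s.vs cur) fun X =>
    decide (0 ≤ X) && decide ((244823040 * X) % ((L * s.C * (5 * k) * 23 : ℕ) : ℤ) = 0)

/-- Two classes of involutions fit. -/
def compat2 (k : ℕ) (es : List Ent) (ry : List (List ℤ)) (s z : Sol) : Bool :=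
  (forceN (lcmEs es) fun L => decide ((L : ℤ) + s.t.c * z.t.c * ((L : ℤ) / 5544) +
    2 * (s.t.y * z.t.y) * ((L : ℤ) / 990) + pairSum L es s.vs z.vs = 0)) &&
    ry.any fun cur => compat k es s cur && compat k es z cur

/-- The number of members of the block for `11` among the members. -/
def fixedNum : List Ent → ℕ
  | [] => 0
  | e :: es => (if delta e.1.natAbs = 0 then 0 else e.2) + fixedNum es

/-- The signed degrees in the block for `11` of the members, added up. -/
def fixedSum : List Ent → ℤ
  | [] => 0
  | e :: es => (e.2 : ℤ) * delta e.1.natAbs * (e.1.natAbs : ℤ) + fixedSum es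

/-- The squares of the degrees, added up. -/
def sqSum : List Ent → ℤ
  | [] => 0
  | e :: es => (e.2 : ℤ) * (e.1 * e.1) + sqSum es

/-- The share of the members in the sums of the block for `11`: linear, quadratic, squares. -/
def shared11 (L : ℕ) : List Ent → List ℤ → ℤ × ℤ × ℤ
  | e :: es, A :: As =>
    let r := shared11 L es As
    ((e.2 : ℤ) * delta e.1.natAbs * A + r.1,
      (e.2 : ℤ) * delta e.1.natAbs * (A * A) * ((L / e.1.natAbs : ℕ) : ℤ) + r.2.1,
      (e.2 : ℤ) * (A * A) + r.2.2)
  | _, _ => (0, 0, 0)

def minI : List ℤ → ℤ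
  | [] => 0
  | a :: l => match l with
    | [] => a
    | _ :: _ => min a (minI l)

def maxI : List ℤ → ℤ
  | [] => 0
  | a :: l => match l with
    | [] => a
    | _ :: _ => max a (maxI l)

/-- All multisets from the list with given size, sum and bound for the squares pass. -/
def allM : List ℤ → ℕ → ℤ → ℤ → List ℤ → (List ℤ → Bool) → Bool
  | [], n, t, b, cur, P => !(decide (n = 0) && decide (t = 0) && decide (0 ≤ b)) || P cur
  | x :: F, n, t, b, cur, P =>
    if n = 0 then !(decide (t = 0) && decide (0 ≤ b)) || P cur
    else decide (b < (n : ℤ) * minI ((x :: F).map fun a => a * a)) || decide (t < (n : ℤ) * minI (x :: F)) ||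
      decide ((n : ℤ) * maxI (x :: F) < t) ||
      (List.range (n + 1)).all fun j => forceN j fun j => forceI (t - (j : ℤ) * x) fun t' =>
        forceI (b - (j : ℤ) * (x * x)) fun b' => allM F (n - j) t' b' (cur ++ List.replicate j x) P

/-- All lists of further members of the block for `11` pass. -/
def allMs (es : List Ent) (P : List ℤ → Bool) : Bool :=
  decide (8 < fixedNum es) ||
    allM free11 (8 - fixedNum es) (-1 + 5796 - 1035 - fixedSum es) (budget - sqSum es) [] P

/-- The unknowns in the block for `11`. -/
def vars11 (C : ℕ) (spec : Bool) (L : ℕ) : Option ℤ → List ℤ → List Var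
  | _, [] => []
  | p, x :: ms =>
    ⟨decide (p = some x), sgn x, 244823040 * ((L : ℤ) / x), 0, 1, opts C spec x.natAbs⟩ ::
      vars11 C spec L (some x) ms

/-- No values in the block for `11` at a class; `T`: the number of sections that are hit. -/
def noB11 (spec : Bool) (T : ℕ) (es : List Ent) (s : Sol) (ms : List ℤ) : Bool :=
  forceN (Nat.lcm (lcmEs (es ++ ms.map fun x => (x, 1))) (Nat.lcm 5796 1035)) fun L =>
    forceI (shared11 L es s.vs).1 fun u => forceI (shared11 L es s.vs).2.1 fun w =>
      forceI (shared11 L es s.vs).2.2 fun q =>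
        search 0 false (vars11 s.C spec L none ms)
          [⟨((s.C : ℤ) - s.t.sq - q).toNat, 1 - s.t.d + s.t.e + u,
            244823040 * ((L : ℤ) - s.t.d * s.t.d * ((L : ℤ) / 5796) + s.t.e * s.t.e * ((L : ℤ) / 1035) + w) -
              (T : ℤ) * 11 * ((s.C : ℤ) * (s.C : ℤ)) * (L : ℤ), 0, fun _ => false⟩]

/-- What is computed for one list of members. -/
structure Plan where
  base : List Ent
  es : List Ent
  ry : List (List ℤ)
  sols : List Sol
  byZ : Bool
  useX : Bool
  zp : List ℕ
  zi : List ℕ
  pairs : List (Sol × Sol)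
deriving DecidableEq

/-- The list of entries in another order. -/
def pick {α : Type*} (l : List α) (d : α) (ix : List ℕ) : List α := ix.map fun i => l.getD i d

/-- The values at an element of order 5. -/
def okY (k : ℕ) (P : Plan) : Bool := searchY k P.es fun cur => P.ry.contains cur

/-- The values at the involution inverting `P₁₁`. -/
def okS (k : ℕ) (table : List (ℕ × Tup)) (P : Plan) : Bool :=
  P.ry.isEmpty || (centsP 5).all fun C => searchCol C true true P.es table [] none fun s =>
    P.sols.contains s || !(P.ry.any fun cur => compat k P.es s cur)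

/-- A value list in the order of the entries. -/
def unpick (P : Plan) (z : Sol) : Sol := ⟨z.C, z.t, pick z.vs 0 P.zi⟩

/-- The values at the involution in `C(P₇)`. -/
def okZ (k : ℕ) (table : List (ℕ × Tup)) (P : Plan) : Bool :=
  !P.byZ || (P.es.length == P.zp.length && P.zp.isPerm (List.range P.es.length) &&
    pick P.zp 0 P.zi == List.range P.es.length && P.zi.all (fun i => decide (i < P.es.length)) &&
    (centsP 7).all fun C => forceN C fun C =>
      if P.useX then
        P.sols.all fun s => searchCol C false false (pick P.es (0, 0) P.zp) table (pick s.vs 0 P.zp) (some s)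
          fun z => !(compat2 k P.es P.ry s (unpick P z)) || P.pairs.contains (s, unpick P z)
      else searchCol C false false (pick P.es (0, 0) P.zp) table [] none fun z =>
        P.sols.all fun s => !(compat2 k P.es P.ry s (unpick P z)) || P.pairs.contains (s, unpick P z))

/-- The block for `11`. -/
def okM (P : Plan) : Bool :=
  if P.byZ then
    P.pairs.all fun p => allMs P.es fun ms =>
      noB11 true 1 P.es p.1 ms || (decide (p.2 ≠ p.1) && noB11 false 0 P.es p.2 ms)
  else P.sols.all fun s => allMs P.es fun ms => noB11 true 1 P.es s ms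

/-- All lists of free members of the block for `23` are in the table. -/
def allL : List ℤ → ℕ → ℤ → List ℤ → (List ℤ → Bool) → Bool
  | [], n, b, cur, P => !(decide (n = 0) && decide (0 ≤ b)) || P cur
  | x :: F, n, b, cur, P =>
    if n = 0 then !decide (0 ≤ b) || P cur
    else decide (b < 0) ||
      (List.range (n + 1)).all fun j => forceN j fun j => forceI (b - (j : ℤ) * (x * x)) fun b' =>
        allL F (n - j) b' (cur ++ List.replicate j x) P

/-- The lists of free members. -/
def checkLists (canon : List (List Ent)) : Bool :=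
  allL xs23 7 budget [] fun cur => forceI (1 + 5544 + 1980 + cur.sum) fun y =>
    !(ys23.contains y) || decide (budget < (cur.map fun x => x * x).sum + 2 * (y * y)) ||
      canon.contains (cur.map (fun x => (x, 1)) ++ [(-y, 2)])

/-- The degrees left by the residues. -/
def checkDegs : Bool :=
  (((fastX 23 1 (11 * 967680)).filter kp2).all fun x => xs23.contains x) &&
    (((fastY 23 1 (11 * 967680) 11).filter kp2).all fun x => ys23.contains x) &&
    (((fastX 11 1 (10 * 2225664)).filter kp2).all fun x =>
      decide (x.natAbs % 23 ≠ 0) || decide (x.natAbs = 23) || free11.contains x)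

end CfsgLib.M24Order.E3
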