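import Cfsg.Agent.Lib.M24Order.Dfs4
import Cfsg.Agent.Lib.M24Order.Keys4Defs
import Cfsg.Agent.Lib.OrderBlocks.Block

/-!
# The computations for the columns, in terms of sums over lists
-/

set_option autoImplicit false
set_option linter.unusedSectionVars false

namespace CfsgLib.M24Order.E3

open CfsgLib.M24Order CfsgLib.OrderBlocks

variable {α : Type*}

/-- Equal entries that follow each other have ascending keys. -/
def Asc {β : Type*} (f : α → β) (key : α → ℤ) : List α → Prop
  | a :: b :: l => (f a = f b → key a ≤ key b) ∧ Asc f key (b :: l)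
  | _ => True

theorem exists_asc_aux {β : Type*} [DecidableEq α] (f : α → β) (key : α → ℤ) : ∀ (n : ℕ) (l : List α), l.length = n →
    ∃ l' : List α, l'.Perm l ∧ l'.map f = l.map f ∧ Asc f key l'
  | 0, l, h => ⟨l, List.Perm.refl _, rfl, by rw [List.eq_nil_of_length_eq_zero h]; trivial⟩
  | n + 1, [], h => by simp at h
  | n + 1, a :: l, h => by
    classical
    -- the least key among the entries of the first
    obtain ⟨m, hm, hmin⟩ := Finset.exists_min_image ((a :: l).toFinset.filter fun x => f x = f a) key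
      ⟨a, by simp⟩
    rw [Finset.mem_filter, List.mem_toFinset] at hm
    have hp : (a :: l).Perm (m :: (a :: l).erase m) := List.perm_cons_erase hm.1
    obtain ⟨l1, hl1, hmap1⟩ := exists_perm_map f (l.map f) ((a :: l).erase m) (by
      have := hp.map f
      simp only [List.map_cons, hm.2] at this
      exact this.cons_inv)
    obtain ⟨l', hl', hmap', hasc⟩ := exists_asc_aux f key n l1 (by
      rw [hl1.length_eq, List.length_erase_of_mem hm.1, h]; omega)
    refine ⟨m :: l', ((hl'.trans hl1).cons m).trans hp.symm, by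
      simp only [List.map_cons, hm.2, hmap', hmap1], ?_⟩
    cases l' with
    | nil => trivial
    | cons b l'' =>
      refine ⟨fun hb => hmin b ?_, hasc⟩
      rw [Finset.mem_filter, List.mem_toFinset]
      exact ⟨hp.symm.subset (List.mem_cons_of_mem _ ((hl'.trans hl1).subset List.mem_cons_self)), by rw [← hb, hm.2]⟩

theorem exists_asc {β : Type*} (f : α → β) (key : α → ℤ) (l : List α) :
    ∃ l' : List α, l'.Perm l ∧ l'.map f = l.map f ∧ Asc f key l' := by
  classical
  exact exists_asc_aux f key l.length l rfl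

variable (f : α → Ent) (A : α → ℤ)

theorem mem_vars {C : ℕ} {spec dd : Bool} {L : ℕ} : ∀ (p : Option Ent) (l : List α) (us : List ℤ),
    (∀ a ∈ l, A a ∈ opts C spec (f a).1.natAbs) → Mem (vars C spec dd L p (l.map f) us) (l.map A)
  | _, [], _, _ => List.Forall₂.nil
  | p, a :: l, us, h => List.Forall₂.cons (h a List.mem_cons_self)
      (mem_vars (some (f a)) l us.tail fun b hb => h b (List.mem_cons_of_mem _ hb))

theorem vars_pos {C : ℕ} {spec dd : Bool} {L : ℕ} : ∀ (p : Option Ent) (l : List α) (us : List ℤ),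
    (∀ a ∈ l, 0 < (f a).2) → ∀ U ∈ vars C spec dd L p (l.map f) us, 0 < U.m
  | _, [], _, _, U, hU => by simp [vars] at hU
  | p, a :: l, us, h, U, hU => by
    simp only [List.map_cons, vars] at hU
    rcases List.mem_cons.mp hU with rfl | hU
    · exact h a List.mem_cons_self
    · exact vars_pos (some (f a)) l us.tail (fun b hb => h b (List.mem_cons_of_mem _ hb)) U hU

theorem vsum_vars {C : ℕ} {spec dd : Bool} {L : ℕ} : ∀ (p : Option Ent) (l : List α) (us : List ℤ),
    vsum (vars C spec dd L p (l.map f) us) (l.map A) = (l.map fun a => sgn (f a).1 * A a).sum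
  | _, [], _ => rfl
  | p, a :: l, us => by simp only [List.map_cons, vars, vsum, vsum_vars (some (f a)) l us.tail, List.sum_cons]

theorem wsum_vars {C : ℕ} {spec dd : Bool} {L : ℕ} : ∀ (p : Option Ent) (l : List α) (us : List ℤ),
    wsum (vars C spec dd L p (l.map f) us) (l.map A) = (l.map fun a => (L : ℤ) / (f a).1 * (A a * A a)).sum
  | _, [], _ => rfl
  | p, a :: l, us => by simp only [List.map_cons, vars, wsum, wsum_vars (some (f a)) l us.tail, List.sum_cons]

theorem usum_vars_nil {C : ℕ} {spec dd : Bool} {L : ℕ} : ∀ (p : Option Ent) (l : List α),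
    usum (vars C spec dd L p (l.map f) []) (l.map A) = 0
  | _, [] => rfl
  | p, a :: l => by
    simp only [List.map_cons, vars, usum, List.tail_nil, usum_vars_nil (some (f a)) l, List.headD_nil]
    ring

theorem usum_vars {C : ℕ} {spec dd : Bool} {L : ℕ} (B : α → ℤ) : ∀ (p : Option Ent) (l : List α),
    usum (vars C spec dd L p (l.map f) (l.map B)) (l.map A) =
      (l.map fun a => (L : ℤ) / (f a).1 * (B a * A a)).sum
  | _, [] => rfl
  | p, a :: l => by
    simp only [List.map_cons, vars, usum, List.tail_cons, List.headD_cons, usum_vars B (some (f a)) l, List.sum_cons]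
    ring

theorem msum_vars {C : ℕ} {spec dd : Bool} {L : ℕ} : ∀ (p : Option Ent) (l : List α) (us : List ℤ),
    (msum (vars C spec dd L p (l.map f) us) (l.map A) : ℤ) =
      (l.map fun a => ((f a).2 : ℤ) * (A a * A a)).sum
  | _, [], _ => rfl
  | p, a :: l, us => by
    simp only [List.map_cons, vars, msum, List.sum_cons, Nat.cast_add, Nat.cast_mul, sq_toNat]
    rw [msum_vars (some (f a)) l us.tail]

theorem ord_false {C : ℕ} {spec : Bool} {L : ℕ} : ∀ (p : Option Ent) (prev : ℕ) (l : List α) (us : List ℤ),
    OrdFrom prev (vars C spec false L p (l.map f) us) (l.map A)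
  | _, _, [], _ => trivial
  | p, prev, a :: l, us =>
    ⟨fun h => by simp at h, ord_false (some (f a)) _ l us.tail⟩

theorem ord_asc {C : ℕ} {spec : Bool} {L : ℕ} : ∀ (a : α) (l : List α),
    Asc f (fun b => sgn (f b).1 * A b) (a :: l) → (∀ b ∈ a :: l, A b ∈ opts C spec (f b).1.natAbs) →
      ∀ (p : Option Ent) (prev : ℕ), (p = some (f a) →
        (prev : ℤ) ≤ (maxL ((opts C spec (f a).1.natAbs).map fun z => (sgn (f a).1 * z).natAbs) : ℤ) + sgn (f a).1 * A a) →
        OrdFrom prev (vars C spec true L p ((a :: l).map f) []) ((a :: l).map A)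
  | a, l, hasc, hA, p, prev, h => by
    refine ⟨fun hs => h (of_decide_eq_true (by simpa [vars] using hs)), ?_⟩
    cases l with
    | nil => trivial
    | cons b l =>
      refine ord_asc b l hasc.2 (fun x hx => hA x (List.mem_cons_of_mem _ hx)) (some (f a)) _ fun he => ?_
      rw [Option.some.injEq] at he
      have h0 : 0 ≤ (maxL ((opts C spec (f a).1.natAbs).map fun z => (sgn (f a).1 * z).natAbs) : ℤ) + sgn (f a).1 * A a :=
        natAbs_le_bias (f := fun z => sgn (f a).1 * z) (hA a List.mem_cons_self)
      show ((((maxL ((opts C spec (f a).1.natAbs).map fun z => (sgn (f a).1 * z).natAbs) : ℕ) : ℤ) +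
        sgn (f a).1 * A a).toNat : ℤ) ≤ _
      rw [Int.toNat_of_nonneg h0, ← he]
      have := hasc.1 he
      simp only [← he] at this
      linarith

theorem ord_vars {C : ℕ} {spec : Bool} {L : ℕ} : ∀ (l : List α), Asc f (fun b => sgn (f b).1 * A b) l →
    (∀ b ∈ l, A b ∈ opts C spec (f b).1.natAbs) → OrdFrom 0 (vars C spec true L none (l.map f) []) (l.map A)
  | [], _, _ => trivial
  | a :: l, h, hA => ord_asc f A a l h hA none 0 fun he => absurd he (by simp)

theorem mem_vars5 {k L : ℕ} : ∀ (l : List α), (∀ a ∈ l, A a ∈ opts5 k (f a).1.natAbs) →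
    Mem (vars5 k L (l.map f)) (l.map A)
  | [], _ => List.Forall₂.nil
  | a :: l, h => List.Forall₂.cons (h a List.mem_cons_self) (mem_vars5 l fun b hb => h b (List.mem_cons_of_mem _ hb))

theorem sums_vars5 {k L : ℕ} : ∀ (l : List α),
    vsum (vars5 k L (l.map f)) (l.map A) = (l.map fun a => sgn (f a).1 * A a).sum ∧
      wsum (vars5 k L (l.map f)) (l.map A) = 244823040 * (l.map fun a => (L : ℤ) / (f a).1 * (A a * A a)).sum ∧
      usum (vars5 k L (l.map f)) (l.map A) = 0 ∧
      (msum (vars5 k L (l.map f)) (l.map A) : ℤ) = (l.map fun a => ((f a).2 : ℤ) * (A a * A a)).sum ∧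
      (∀ prev, OrdFrom prev (vars5 k L (l.map f)) (l.map A))
  | [] => ⟨rfl, rfl, rfl, rfl, fun _ => trivial⟩
  | a :: l => by
    obtain ⟨h1, h2, h3, h4, h5⟩ := sums_vars5 (k := k) (L := L) l
    simp only [List.map_cons, vars5, vsum, wsum, usum, msum, List.sum_cons, h1, h2, h3, Nat.cast_add, Nat.cast_mul,
      sq_toNat, h4]
    exact ⟨trivial, by ring, by ring, trivial, fun prev => ⟨fun h => by simp at h, h5 _⟩⟩

theorem vars5_pos {k L : ℕ} : ∀ (l : List α), (∀ a ∈ l, 0 < (f a).2) → ∀ U ∈ vars5 k L (l.map f), 0 < U.m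
  | [], _, U, hU => by simp [vars5] at hU
  | a :: l, h, U, hU => by
    simp only [List.map_cons, vars5] at hU
    rcases List.mem_cons.mp hU with rfl | hU
    · exact h a List.mem_cons_self
    · exact vars5_pos l (fun b hb => h b (List.mem_cons_of_mem _ hb)) U hU

theorem pairSum_map {L : ℕ} (B : α → ℤ) : ∀ (l : List α),
    pairSum L (l.map f) (l.map A) (l.map B) = (l.map fun a => (L : ℤ) / (f a).1 * (A a * B a)).sum
  | [] => rfl
  | a :: l => by simp only [List.map_cons, pairSum, pairSum_map B l, List.sum_cons]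

theorem shared11_map {L : ℕ} : ∀ (l : List α),
    (shared11 L (l.map f) (l.map A)).1 = (l.map fun a => ((f a).2 : ℤ) * delta (f a).1.natAbs * A a).sum ∧
      (shared11 L (l.map f) (l.map A)).2.1 = (l.map fun a => ((f a).2 : ℤ) * delta (f a).1.natAbs * (A a * A a) *
        ((L / (f a).1.natAbs : ℕ) : ℤ)).sum ∧
      (shared11 L (l.map f) (l.map A)).2.2 = (l.map fun a => ((f a).2 : ℤ) * (A a * A a)).sum
  | [] => ⟨rfl, rfl, rfl⟩
  | a :: l => by
    obtain ⟨h1, h2, h3⟩ := shared11_map (L := L) l
    simp only [List.map_cons, shared11, List.sum_cons, h1, h2, h3, and_self]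

theorem fixedNum_map : ∀ (l : List α),
    (fixedNum (l.map f) : ℤ) = (l.map fun a => if delta (f a).1.natAbs = 0 then 0 else ((f a).2 : ℤ)).sum
  | [] => rfl
  | a :: l => by
    simp only [List.map_cons, fixedNum, List.sum_cons, Nat.cast_add, fixedNum_map l]
    split_ifs <;> simp

theorem fixedSum_map : ∀ (l : List α), fixedSum (l.map f) =
    (l.map fun a => ((f a).2 : ℤ) * delta (f a).1.natAbs * ((f a).1.natAbs : ℤ)).sum
  | [] => rfl
  | a :: l => by simp only [List.map_cons, fixedSum, List.sum_cons, fixedSum_map l]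

theorem sqSum_map : ∀ (l : List α),
    sqSum (l.map f) = (l.map fun a => ((f a).2 : ℤ) * ((f a).1 * (f a).1)).sum
  | [] => rfl
  | a :: l => by simp only [List.map_cons, sqSum, List.sum_cons, sqSum_map l]

theorem dvd_lcmEs : ∀ {es : List Ent},
    (∀ e ∈ es, (e.1.natAbs : ℤ) ∣ (lcmEs es : ℤ)) ∧ (5544 : ℤ) ∣ (lcmEs es : ℤ) ∧ (990 : ℤ) ∣ (lcmEs es : ℤ)
  | [] => ⟨by simp, by exact_mod_cast Nat.dvd_lcm_left 5544 990, by exact_mod_cast Nat.dvd_lcm_right 5544 990⟩
  | e :: es => by
    obtain ⟨h1, h2, h3⟩ := @dvd_lcmEs es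
    have hr : (lcmEs es : ℤ) ∣ (lcmEs (e :: es) : ℤ) := Int.natCast_dvd_natCast.mpr (Nat.dvd_lcm_right _ _)
    refine ⟨fun x hx => ?_, h2.trans hr, h3.trans hr⟩
    rcases List.mem_cons.mp hx with rfl | hx
    · exact Int.natCast_dvd_natCast.mpr (Nat.dvd_lcm_left _ _)
    · exact (h1 x hx).trans hr

section Eleven

variable (g : α → ℤ)

theorem mem_vars11 {C : ℕ} {spec : Bool} {L : ℕ} : ∀ (p : Option ℤ) (l : List α),
    (∀ a ∈ l, A a ∈ opts C spec (g a).natAbs) → Mem (vars11 C spec L p (l.map g)) (l.map A)
  | _, [], _ => List.Forall₂.nil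
  | p, a :: l, h => List.Forall₂.cons (h a List.mem_cons_self)
      (mem_vars11 (some (g a)) l fun b hb => h b (List.mem_cons_of_mem _ hb))

theorem sums_vars11 {C : ℕ} {spec : Bool} {L : ℕ} : ∀ (p : Option ℤ) (l : List α),
    vsum (vars11 C spec L p (l.map g)) (l.map A) = (l.map fun a => sgn (g a) * A a).sum ∧
      wsum (vars11 C spec L p (l.map g)) (l.map A) = 244823040 * (l.map fun a => (L : ℤ) / g a * (A a * A a)).sum ∧
      usum (vars11 C spec L p (l.map g)) (l.map A) = 0 ∧
      (msum (vars11 C spec L p (l.map g)) (l.map A) : ℤ) = (l.map fun a => A a * A a).sum ∧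
      (∀ U ∈ vars11 C spec L p (l.map g), 0 < U.m)
  | _, [] => ⟨rfl, rfl, rfl, rfl, fun U hU => by simp [vars11] at hU⟩
  | p, a :: l => by
    obtain ⟨h1, h2, h3, h4, h5⟩ := sums_vars11 (C := C) (spec := spec) (L := L) (some (g a)) l
    simp only [List.map_cons, vars11, vsum, wsum, usum, msum, List.sum_cons, h1, h2, h3, Nat.cast_add, Nat.cast_mul,
      sq_toNat, h4]
    refine ⟨trivial, by ring, by ring, by ring, fun U hU => ?_⟩
    rcases List.mem_cons.mp hU with rfl | hU
    · exact Nat.one_pos
    · exact h5 U hU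

theorem ord_asc11 {C : ℕ} {spec : Bool} {L : ℕ} : ∀ (a : α) (l : List α),
    Asc g (fun b => sgn (g b) * A b) (a :: l) → (∀ b ∈ a :: l, A b ∈ opts C spec (g b).natAbs) →
      ∀ (p : Option ℤ) (prev : ℕ), (p = some (g a) →
        (prev : ℤ) ≤ (maxL ((opts C spec (g a).natAbs).map fun z => (sgn (g a) * z).natAbs) : ℤ) + sgn (g a) * A a) →
        OrdFrom prev (vars11 C spec L p ((a :: l).map g)) ((a :: l).map A)
  | a, l, hasc, hA, p, prev, h => by
    refine ⟨fun hs => h (of_decide_eq_true (by simpa [vars11] using hs)), ?_⟩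
    cases l with
    | nil => trivial
    | cons b l =>
      refine ord_asc11 b l hasc.2 (fun x hx => hA x (List.mem_cons_of_mem _ hx)) (some (g a)) _ fun he => ?_
      rw [Option.some.injEq] at he
      have h0 : 0 ≤ (maxL ((opts C spec (g a).natAbs).map fun z => (sgn (g a) * z).natAbs) : ℤ) + sgn (g a) * A a :=
        natAbs_le_bias (f := fun z => sgn (g a) * z) (hA a List.mem_cons_self)
      show ((((maxL ((opts C spec (g a).natAbs).map fun z => (sgn (g a) * z).natAbs) : ℕ) : ℤ) +
        sgn (g a) * A a).toNat : ℤ) ≤ _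
      rw [Int.toNat_of_nonneg h0, ← he]
      have := hasc.1 he
      simp only [← he] at this
      linarith

theorem ord_vars11 {C : ℕ} {spec : Bool} {L : ℕ} : ∀ (l : List α), Asc g (fun b => sgn (g b) * A b) l →
    (∀ b ∈ l, A b ∈ opts C spec (g b).natAbs) → OrdFrom 0 (vars11 C spec L none (l.map g)) (l.map A)
  | [], _, _ => trivial
  | a :: l, h, hA => ord_asc11 A g a l h hA none 0 fun he => absurd he (by simp)

end Eleven

theorem minI_le : ∀ {l : List ℤ} {a : ℤ}, a ∈ l → minI l ≤ a
  | [b], a, h => by simp only [List.mem_singleton] at h; simp [minI, h]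
  | b :: c :: l, a, h => by
    show min b (minI (c :: l)) ≤ a
    rcases List.mem_cons.mp h with rfl | h
    · exact min_le_left _ _
    · exact (min_le_right _ _).trans (minI_le h)

theorem le_maxI : ∀ {l : List ℤ} {a : ℤ}, a ∈ l → a ≤ maxI l
  | [b], a, h => by simp only [List.mem_singleton] at h; simp [maxI, h]
  | b :: c :: l, a, h => by
    show a ≤ max b (maxI (c :: l))
    rcases List.mem_cons.mp h with rfl | h
    · exact le_max_left _ _
    · exact (le_maxI h).trans (le_max_right _ _)

theorem split_count (x : ℤ) {F s : List ℤ} (h : ∀ a ∈ s, a ∈ x :: F) :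
    (List.replicate (s.count x) x ++ s.filter fun a => !decide (a = x)).Perm s ∧
      ∀ a ∈ s.filter (fun a => !decide (a = x)), a ∈ F := by
  refine ⟨?_, fun a ha => ?_⟩
  · have hp := List.filter_append_perm (fun a => decide (a = x)) s
    rwa [List.filter_eq] at hp
  · obtain ⟨h1, h2⟩ := List.mem_filter.mp ha
    rcases List.mem_cons.mp (h a h1) with e | e
    · simp [e] at h2
    · exact e

/-- Every multiset within the bounds passes, in some order. -/
theorem allM_sound (P : List ℤ → Bool) : ∀ (F : List ℤ) (n : ℕ) (t b : ℤ) (cur s : List ℤ),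
    allM F n t b cur P = true → (∀ a ∈ s, a ∈ F) → s.length = n → s.sum = t → (s.map fun a => a * a).sum ≤ b →
      ∃ s', s'.Perm s ∧ P (cur ++ s') = true
  | [], n, t, b, cur, s, h, hs, hn, ht, hb => by
    obtain rfl : s = [] := List.eq_nil_iff_forall_not_mem.mpr fun a ha => by simpa using hs a ha
    refine ⟨[], List.Perm.refl _, ?_⟩
    simp only [List.length_nil] at hn
    simp only [List.sum_nil] at ht
    simp only [List.map_nil, List.sum_nil] at hb
    simp only [allM, ← hn, ← ht, hb, decide_true, Bool.and_self, Bool.not_true, Bool.false_or] at h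
    simpa using h
  | x :: F, n, t, b, cur, s, h, hs, hn, ht, hb => by
    simp only [allM] at h
    split_ifs at h with h0
    · obtain rfl : s = [] := List.eq_nil_of_length_eq_zero (hn.trans h0)
      refine ⟨[], List.Perm.refl _, ?_⟩
      simp only [List.sum_nil] at ht
      simp only [List.map_nil, List.sum_nil] at hb
      simp only [← ht, hb, decide_true, Bool.and_self, Bool.not_true, Bool.false_or] at h
      simpa using h
    have b1 : (n : ℤ) * minI ((x :: F).map fun a => a * a) ≤ (s.map fun a => a * a).sum := by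
      have := List.card_nsmul_le_sum (s.map fun a => a * a) (minI ((x :: F).map fun a => a * a)) fun z hz => by
        obtain ⟨a, ha, rfl⟩ := List.mem_map.mp hz
        exact minI_le (List.mem_map.mpr ⟨a, hs a ha, rfl⟩)
      rwa [List.length_map, hn, nsmul_eq_mul] at this
    have b2 : (n : ℤ) * minI (x :: F) ≤ s.sum := by
      have := List.card_nsmul_le_sum s (minI (x :: F)) fun z hz => minI_le (hs z hz)
      rwa [hn, nsmul_eq_mul] at this
    have b3 : s.sum ≤ (n : ℤ) * maxI (x :: F) := by
      have := List.sum_le_card_nsmul s (maxI (x :: F)) fun z hz => le_maxI (hs z hz)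
      rwa [hn, nsmul_eq_mul] at this
    simp only [Bool.or_eq_true, decide_eq_true_eq, forceN_eq, forceI_eq, List.all_eq_true, List.mem_range] at h
    have h' := h.resolve_left (by omega) (s.count x) (Nat.lt_succ_of_le (hn ▸ List.count_le_length))
    obtain ⟨hp, hF⟩ := split_count x hs
    have hl := hp.length_eq
    have hsum := hp.sum_eq
    have hsq := (hp.map fun a => a * a).sum_eq
    simp only [List.length_append, List.length_replicate] at hl
    simp only [List.sum_append, List.sum_replicate, nsmul_eq_mul] at hsum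
    simp only [List.map_append, List.map_replicate, List.sum_append, List.sum_replicate, nsmul_eq_mul] at hsq
    obtain ⟨s', hs', hP⟩ := allM_sound P F _ _ _ _ _ h' hF (by omega) (by linarith) (by linarith)
    exact ⟨_, (hs'.append_left _).trans hp, by rw [← List.append_assoc]; exact hP⟩

/-- Every multiset within the bound passes, in some order. -/
theorem allL_sound (P : List ℤ → Bool) : ∀ (F : List ℤ) (n : ℕ) (b : ℤ) (cur s : List ℤ),
    allL F n b cur P = true → (∀ a ∈ s, a ∈ F) → s.length = n → (s.map fun a => a * a).sum ≤ b →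
      ∃ s', s'.Perm s ∧ P (cur ++ s') = true
  | [], n, b, cur, s, h, hs, hn, hb => by
    obtain rfl : s = [] := List.eq_nil_iff_forall_not_mem.mpr fun a ha => by simpa using hs a ha
    refine ⟨[], List.Perm.refl _, ?_⟩
    simp only [List.length_nil] at hn
    simp only [List.map_nil, List.sum_nil] at hb
    simp only [allL, ← hn, hb, decide_true, Bool.and_self, Bool.not_true, Bool.false_or] at h
    simpa using h
  | x :: F, n, b, cur, s, h, hs, hn, hb => by
    simp only [allL] at h
    split_ifs at h with h0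
    · obtain rfl : s = [] := List.eq_nil_of_length_eq_zero (hn.trans h0)
      refine ⟨[], List.Perm.refl _, ?_⟩
      simp only [List.map_nil, List.sum_nil] at hb
      simp only [hb, decide_true, Bool.not_true, Bool.false_or] at h
      simpa using h
    have b0 : 0 ≤ (s.map fun a => a * a).sum := List.sum_nonneg fun z hz => by
      obtain ⟨a, -, rfl⟩ := List.mem_map.mp hz
      exact mul_self_nonneg a
    simp only [Bool.or_eq_true, decide_eq_true_eq, forceN_eq, forceI_eq, List.all_eq_true, List.mem_range] at h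
    have h' := h.resolve_left (by omega) (s.count x) (Nat.lt_succ_of_le (hn ▸ List.count_le_length))
    obtain ⟨hp, hF⟩ := split_count x hs
    have hl := hp.length_eq
    have hsq := (hp.map fun a => a * a).sum_eq
    simp only [List.length_append, List.length_replicate] at hl
    simp only [List.map_append, List.map_replicate, List.sum_append, List.sum_replicate, nsmul_eq_mul] at hsq
    obtain ⟨s', hs', hP⟩ := allL_sound P F _ _ _ _ h' hF (by omega) (by linarith)
    exact ⟨_, (hs'.append_left _).trans hp, by rw [← List.append_assoc]; exact hP⟩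

end CfsgLib.M24Order.E3
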