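import Cfsg.Agent.Lib.M24Order.Cross
import Cfsg.Agent.Lib.M12Order.Basic

/-!
# Two primes: the possible common members of the blocks
-/

set_option autoImplicit false
set_option linter.unusedSectionVars false
set_option linter.style.haveILetI false

namespace CfsgLib.M24Order

open Cfsg
open scoped ComplexConjugate CfsgLib.Char
open CfsgLib CfsgLib.BrauerTuan CfsgLib.OrderBlocks
open scoped _root_.Classical

universe u

variable {G : Type u} [Group G] [Fintype G] [IsSimpleGroup G] {p q : ℕ} [Fact p.Prime] [Fact q.Prime]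
  {n Bd : ℕ} {qs : List ℕ} {o o' : Opt}

/-- The members of `B` that are rational members of `B'`. -/
noncomputable def inX (B : PBlk G n qs Bd p o) (B' : PBlk G n qs Bd q o') : List (IrrCharacter G) :=
  B.xl.filter fun χ => decide (χ ∈ B'.xl)

/-- The members of `B` that are exceptional members of `B'`. -/
noncomputable def inY (B : PBlk G n qs Bd p o) (B' : PBlk G n qs Bd q o') : List (IrrCharacter G) :=
  B.xl.filter fun χ => decide (χ ∈ B'.yl)

theorem mem_inX {B : PBlk G n qs Bd p o} {B' : PBlk G n qs Bd q o'} {χ : IrrCharacter G} :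
    χ ∈ inX B B' ↔ χ ∈ B.xl ∧ χ ∈ B'.xl := by simp [inX]

theorem mem_inY {B : PBlk G n qs Bd p o} {B' : PBlk G n qs Bd q o'} {χ : IrrCharacter G} :
    χ ∈ inY B B' ↔ χ ∈ B.xl ∧ χ ∈ B'.yl := by simp [inY]

/-- The orthogonality, by the membership in `B'`. -/
theorem cross_split (B : PBlk G n qs Bd p o) (hy : o.y = none) (B' : PBlk G n qs Bd q o') (hpq : p ≠ q)
    (hk : ¬ q ∣ o.k) {v : G} (hv : v ∈ (B'.T.P : Subgroup G)) (hv1 : v ≠ 1) :
    ((1 + ((inX B B').map fun χ => B.σ χ * B'.σ χ).sum : ℤ) : ℂ) +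
      ((inY B B').map fun χ : IrrCharacter G => (B.σ χ : ℂ) * (χ : G → ℂ) v).sum = 0 := by
  have key : ∀ l : List (IrrCharacter G), (l.map fun χ => (B.σ χ : ℂ) * avgAt B' v χ).sum =
      ((((l.filter fun χ => decide (χ ∈ B'.xl)).map fun χ => B.σ χ * B'.σ χ).sum : ℤ) : ℂ) +
      ((l.filter fun χ => decide (χ ∈ B'.yl)).map fun χ : IrrCharacter G => (B.σ χ : ℂ) * (χ : G → ℂ) v).sum := by
    intro l
    induction l with
    | nil => simp
    | cons χ l ih =>
      have hdisj : χ ∈ B'.xl → χ ∉ B'.yl := fun h1 h2 =>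
        (List.nodup_append.mp (List.nodup_cons.mp B'.nodup).2).2.2 χ h1 χ h2 rfl
      rw [List.map_cons, List.sum_cons, ih]
      by_cases h1 : χ ∈ B'.xl
      · simp only [avgAt, h1, hdisj h1, if_true, List.filter_cons, decide_true, decide_false,
          Bool.false_eq_true, if_false, List.map_cons, List.sum_cons]
        push_cast
        ring
      · by_cases h2 : χ ∈ B'.yl
        · simp only [avgAt, h1, h2, if_true, List.filter_cons, decide_true, decide_false,
            Bool.false_eq_true, if_false, List.map_cons, List.sum_cons]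
          ring
        · simp only [avgAt, h1, h2, if_false, List.filter_cons, decide_false, Bool.false_eq_true]
          ring
  have h := cross_sum B hy B' hpq hk hv hv1
  rw [key] at h
  push_cast at h ⊢
  simp only [inX, inY]
  linear_combination h

theorem sum_units_bound : ∀ l : List ℤ, (∀ a ∈ l, a = 1 ∨ a = -1) → l.sum.natAbs ≤ l.length
  | [], _ => by simp
  | a :: l, h => by
    have := sum_units_bound l fun b hb => h b (List.mem_cons_of_mem _ hb)
    rcases h a List.mem_cons_self with rfl | rfl <;> simp only [List.sum_cons, List.length_cons] <;> omega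

theorem sum_units_nonneg : ∀ l : List ℤ, (∀ a ∈ l, a = 1 ∨ a = -1) → -1 ∉ l → l.sum = l.length
  | [], _, _ => by simp
  | a :: l, h, h' => by
    simp only [List.mem_cons, not_or] at h'
    have := sum_units_nonneg l (fun b hb => h b (List.mem_cons_of_mem _ hb)) h'.2
    rcases h a List.mem_cons_self with rfl | rfl
    · simp only [List.sum_cons, List.length_cons, this]; push_cast; ring
    · exact absurd rfl h'.1

/-- The signs of the common rational members. -/
theorem inX_unit {B : PBlk G n qs Bd p o} {B' : PBlk G n qs Bd q o'} {a : ℤ}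
    (ha : a ∈ (inX B B').map fun χ => B.σ χ * B'.σ χ) : a = 1 ∨ a = -1 := by
  obtain ⟨χ, hχ, rfl⟩ := List.mem_map.mp ha
  obtain ⟨h1, h2⟩ := mem_inX.mp hχ
  rcases B.σ_unit h1 with e | e <;> rcases B'.σ_unit h2 with e' | e' <;> simp [e, e']

/-- A negative rational common member, or an exceptional one. -/
theorem cross_cases (B : PBlk G n qs Bd p o) (hy : o.y = none) (B' : PBlk G n qs Bd q o') (hpq : p ≠ q)
    (hk : ¬ q ∣ o.k) :
    (∃ χ ∈ B.xl, χ ∈ B'.xl ∧ B.σ χ * B'.σ χ = -1) ∨ (inY B B') ≠ [] := by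
  by_contra hc
  simp only [not_or, not_exists, not_and, not_not] at hc
  obtain ⟨v, hv, hv1⟩ := M12Order.exists_ne_one_P B'.T
  have h := cross_split B hy B' hpq hk hv hv1
  rw [hc.2, List.map_nil, List.sum_nil, add_zero, sum_units_nonneg _ (fun a ha => inX_unit ha) fun h' => ?_] at h
  · have h' := Int.cast_eq_zero.mp h
    omega
  · obtain ⟨χ, hχ, he⟩ := List.mem_map.mp h'
    obtain ⟨h1, h2⟩ := mem_inX.mp hχ
    exact hc.1 χ h1 h2 he

/-- A single exceptional common member has a rational value on `P'`, congruent to its degree. -/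
theorem cross_single (B : PBlk G n qs Bd p o) (hy : o.y = none) (B' : PBlk G n qs Bd q o') (hpq : p ≠ q)
    (hk : ¬ q ∣ o.k) {ψ : IrrCharacter G} (hψ : inY B B' = [ψ]) :
    (q : ℤ) ∣ (deg ψ : ℤ) + B.σ ψ * (1 + ((inX B B').map fun χ => B.σ χ * B'.σ χ).sum) ∧
      (1 + ((inX B B').map fun χ => B.σ χ * B'.σ χ).sum).natAbs ≤ 1 + (inX B B').length := by
  obtain ⟨c, hc⟩ : ∃ c : ℤ, c = -(B.σ ψ) * (1 + ((inX B B').map fun χ => B.σ χ * B'.σ χ).sum) := ⟨_, rfl⟩
  have hu : B.σ ψ = 1 ∨ B.σ ψ = -1 := B.σ_unit (mem_inY.mp (hψ ▸ List.mem_singleton_self ψ)).1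
  have hval : ∀ w ∈ (B'.T.P : Subgroup G), w ≠ 1 → (ψ : G → ℂ) w = (c : ℂ) := fun w hw hw1 => by
    have h := cross_split B hy B' hpq hk hw hw1
    simp only [hψ, List.map_cons, List.map_nil, List.sum_cons, List.sum_nil, add_zero] at h
    rw [hc]
    rcases hu with e | e <;> rw [e] at h ⊢ <;> push_cast at h ⊢
    · linear_combination h
    · linear_combination -h
  refine ⟨?_, ?_⟩
  · obtain ⟨K, hK⟩ := M12Order.exists_nat_sum_subgroup (Char.isCharacter_of_isIrr ψ.2) (B'.T.P : Subgroup G)
    rw [B'.T.card_P, ← Finset.add_sum_erase _ _ (Finset.mem_univ (1 : (B'.T.P : Subgroup G))),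
      Finset.sum_congr rfl (g := fun _ => (c : ℂ)) (fun (w : (B'.T.P : Subgroup G)) hw =>
        hval w w.2 (fun e => Finset.ne_of_mem_erase hw (Subtype.ext e))),
      Finset.sum_const, Finset.card_erase_of_mem (Finset.mem_univ _), Finset.card_univ,
      ← Nat.card_eq_fintype_card, B'.T.card_P, Subgroup.coe_one, value_one', nsmul_eq_mul,
      Nat.cast_sub (Fact.out : q.Prime).one_le, Nat.cast_one] at hK
    have h' : ((deg ψ : ℤ) + ((q : ℤ) - 1) * c) = (q : ℤ) * K := by
      apply Int.cast_injective (α := ℂ)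
      push_cast
      exact hK
    refine ⟨(K : ℤ) - c, ?_⟩
    rw [hc] at h'
    rw [hc]
    linear_combination h'
  · have := sum_units_bound _ (fun a ha => inX_unit (B := B) (B' := B') ha)
    rw [List.length_map] at this
    omega

end CfsgLib.M24Order
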