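import Cfsg.Agent.Lib.M24Order.Keys11Defs

/-!
# Simple groups of order 244823040: computations, the prime 11 with `k = 24`
-/

set_option autoImplicit false
set_option maxHeartbeats 4000000

namespace CfsgLib.M24Order

open CfsgLib.BrauerTuan CfsgLib.OrderBlocks

theorem key_five24 : check11five 185472 24 = true := by decide +kernel

end CfsgLib.M24Order
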