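import Cfsg.Agent.Lib.M24Order.Five
import Cfsg.Agent.Lib.M24Order.Keys11Five24
import Cfsg.Agent.Lib.M24Order.Keys11Five2

/-!
# Simple groups of order 244823040: the Sylow 11-subgroups are self-centralising
-/

set_option autoImplicit false
set_option linter.unusedSectionVars false
set_option linter.style.haveILetI false
set_option maxHeartbeats 1000000

namespace CfsgLib.M24Order

open Cfsg
open scoped ComplexConjugate CfsgLib.Char
open CfsgLib CfsgLib.BrauerTuan CfsgLib.OrderBlocks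
open scoped _root_.Classical

universe u

theorem sum_zero_one (m : ℤ) : ∀ l : List ℤ, (∀ x ∈ l, x % m = 0 ∨ x % m = 1) →
    ∃ n : ℕ, n ≤ l.length ∧ m ∣ l.sum - n
  | [], _ => ⟨0, le_rfl, by simp⟩
  | a :: l, h => by
    obtain ⟨n, hn, hd⟩ := sum_zero_one m l fun x hx => h x (List.mem_cons_of_mem _ hx)
    rcases h a List.mem_cons_self with h0 | h1
    · refine ⟨n, by simp only [List.length_cons]; omega, ?_⟩
      simp only [List.sum_cons, show a + l.sum - n = a + (l.sum - n) by ring]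
      exact dvd_add (Int.dvd_of_emod_eq_zero h0) hd
    · refine ⟨n + 1, by simp only [List.length_cons]; omega, ?_⟩
      simp only [List.sum_cons, Nat.cast_succ, show a + l.sum - ((n : ℤ) + 1) = (a - 1) + (l.sum - n) by ring]
      refine dvd_add ⟨a / m, ?_⟩ hd
      have := Int.emod_add_mul_ediv a m
      linarith

variable {G : Type u} [Group G] [Fintype G] [IsSimpleGroup G] [Fact (Nat.Prime 11)]

/-- The value at an involution of `C(P₁₁)` of a member of the block. -/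
theorem valOK_of {o : Opt} (B : Blk G 11 o) {z : G} (hz : orderOf z = 2)
    (hzC : z ∈ Subgroup.centralizer ((B.T.P : Subgroup G) : Set G)) {χ : IrrCharacter G} (hχ : χ ∈ B.xl)
    (hs : (B.σ χ * (deg χ : ℤ)).natAbs ≤ 15646) :
    ValOK 11 (cC z) (B.σ χ * (deg χ : ℤ), iv χ z) := by
  obtain ⟨f1, f2, f3, f4⟩ := iv_facts B.card_eq B.T.noncomm (B.ne_triv (List.mem_append_left _ hχ)) hz
  obtain ⟨h1, h2⟩ := B.sgn_eq hχ
  refine ⟨?_, by rw [h2]; exact f2, by rw [h2]; exact f4, hs, f1, by rw [h2]; exact f3⟩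
  rw [h1]
  exact Int.emod_eq_zero_of_dvd (B.dvd_sub (by norm_num) hz hzC hχ)

variable [Fact (Nat.Prime 23)] [Fact (Nat.Prime 5)]

/-- No block with `e = 10` for a larger centraliser. -/
theorem false_of_ten (T23 : Ctx G 23 1) (he23 : T23.D.e = 11) {c k : ℕ} {Y xs : List ℤ} {y : Option ℤ}
    (h5k : ¬ 5 ∣ k) (hY : ∀ w ∈ Y, (11 : ℤ) ∣ w - (10 : ℕ)) (h2k : 2 ∣ k)
    (hbig : ∀ a, 1 ≤ a → 2 ^ a ∣ k → ¬ 2 ^ (a + 1) ∣ k → 2 ^ a % 5 ≠ 1)
    (hf : Fits 11 k 10 ((fastX 11 k (10 * c)).filter kp23) Y xs y) (B : Blk G 11 ⟨11, k, 10, xs, y⟩)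
    (hkey : check11ten c k = true) : False := by
  obtain ⟨rfl, hlen, hsum⟩ := hf.one (by norm_num)
  obtain ⟨z, hz, hzC, h5, h11⟩ := exists_fixed_involution_of_mod B.T (r := 5) (by rw [B.e_eq]; norm_num) h2k
    (by norm_num) hbig
  rcases five_cases T23 he23 B h5k (Or.inr rfl) hf (fun x hx => fastX_mod (List.mem_filter.mp hx).1) hY hz hzC
    h5 h11 with ⟨h13, -⟩ | h | h
  · simp only [check11ten, forceL_eq, forceN_eq, List.all_eq_true] at hkey
    have hkey := hkey (cC z) h13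
    have hxs : xs = B.xl.map fun χ => B.σ χ * (deg χ : ℤ) := B.xs_eq
    obtain ⟨n, hn, hd⟩ := sum_zero_one 23 xs fun x hx => by
      obtain ⟨χ, hχ, hxe⟩ := List.mem_map.mp ((congrArg (fun l : List ℤ => x ∈ l) hxs).mp hx)
      have hv := valOK_of B hz hzC hχ (by rw [hxe]; exact fastX_small (List.mem_filter.mp (hf.mem x hx)).1)
      rw [hxe] at hv
      have hm := mem_opts11 hv.cong hv.four hv.lt hv.le_lim (Int.dvd_of_emod_eq_zero hv.omega)
      have h := hkey x (hf.mem x hx)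
      simp only [isEmpty_false_of_mem hm, Bool.false_or, Bool.or_eq_true, decide_eq_true_eq] at h
      exact h
    rw [hsum] at hd
    omega
  all_goals exact absurd h (by simp)

/-- No block with `e = 5`. -/
theorem false_of_five (T23 : Ctx G 23 1) (he23 : T23.D.e = 11) {c k : ℕ} {xs : List ℤ} {y : Option ℤ}
    (h5k : ¬ 5 ∣ k) (h2k : 2 ∣ k) (hbig : ∀ a, 1 ≤ a → 2 ^ a ∣ k → ¬ 2 ^ (a + 1) ∣ k → 2 ^ a % 5 ≠ 1)
    (hf : Fits 11 k 5 ((fastX 11 k (5 * c)).filter kp23) ((fastY 11 k (5 * c) 5).filter kp23) xs y)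
    (B : Blk G 11 ⟨11, k, 5, xs, y⟩) (hkey : check11five c k = true) : False := by
  have hn := B.card_eq
  obtain ⟨z, hz, hzC, h5, h11⟩ := exists_fixed_involution_of_mod B.T (r := 5) (by rw [B.e_eq]) h2k
    (by norm_num) hbig
  have hzz := mul_self_of_order_two hz
  obtain ⟨y₀, rfl, hy₀, hlen, hysum⟩ := hf.more (by norm_num)
  have hxs : xs = B.xl.map fun χ => B.σ χ * (deg χ : ℤ) := B.xs_eq
  have hxmem : ∀ χ ∈ B.xl, B.σ χ * (deg χ : ℤ) ∈ (fastX 11 k (5 * c)).filter kp23 := fun χ hχ =>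
    hf.mem _ ((congrArg (fun l : List ℤ => B.σ χ * (deg χ : ℤ) ∈ l) hxs).mpr (List.mem_map.mpr ⟨χ, hχ, rfl⟩))
  have hxsmall : ∀ χ ∈ B.xl, (B.σ χ * (deg χ : ℤ)).natAbs ≤ 15646 := fun χ hχ =>
    fastX_small (List.mem_filter.mp (hxmem χ hχ)).1
  have hcase := five_cases T23 he23 B h5k (Or.inl rfl) hf (fun x hx => fastX_mod (List.mem_filter.mp hx).1)
    (fun w hw => fastY_mod (List.mem_filter.mp hw).1) hz hzC h5 h11
  -- no member of degree `45`
  have h45 : ∀ χ ∈ B.xl, B.σ χ * (deg χ : ℤ) ≠ 45 := fun χ hχ h => by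
    obtain ⟨v1, v2, v3, -, -, v6⟩ := valOK_of B hz hzC hχ (hxsmall χ hχ)
    simp only [h] at v1 v2 v3 v6
    rw [show sgn (45 : ℤ) = 1 by decide] at v1
    rw [show (45 : ℤ).natAbs = 45 from rfl] at v2 v3 v6
    have hq : ¬ (5 : ℤ) ∣ ((244823040 / cC z : ℕ) : ℤ) := fun hd =>
      not_dvd_quot (by norm_num : Nat.Prime 5) (by norm_num) h5 (cC_dvd hn z) (Int.natCast_dvd_natCast.mp hd)
    have h5A : (5 : ℤ) ∣ iv χ z := ((show Prime (5 : ℤ) by norm_num).dvd_or_dvd
      (dvd_trans (by norm_num : (5 : ℤ) ∣ ((45 : ℕ) : ℤ)) (Int.dvd_of_emod_eq_zero v6))).resolve_left hq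
    omega
  obtain ⟨X, hX⟩ : ∃ X, X = (fastX 11 k (5 * c)).filter fun x => kp23 x && decide (x ≠ 45) := ⟨_, rfl⟩
  have hmem : ∀ x ∈ xs, x ∈ X := fun x hx => by
    obtain ⟨h1, h2⟩ := List.mem_filter.mp (hf.mem x hx)
    obtain ⟨χ, hχ, hxe⟩ := List.mem_map.mp ((congrArg (fun l : List ℤ => x ∈ l) hxs).mp hx)
    rw [hX, List.mem_filter, h2, Bool.true_and, decide_eq_true_eq]
    exact ⟨h1, hxe ▸ h45 χ hχ⟩
  simp only [check11five, forceL_eq, forceN_eq, ← hX, Bool.and_eq_true, List.all_eq_true] at hkey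
  obtain ⟨⟨hR, hA⟩, hB⟩ := hkey
  rcases hcase with ⟨h13, hm⟩ | hy | hy
  · -- a member of degree `5796`
    obtain ⟨s, hs, hsp⟩ := exists_triples X (xs.erase (-5796))
      (by rw [List.length_erase_of_mem hm, hlen]) fun a ha => hmem a (List.mem_of_mem_erase ha)
    have hperm : (-5796 :: s).Perm xs := (hsp.cons _).trans (List.perm_cons_erase hm).symm
    have hsum : xs.sum = -5796 + s.sum := by rw [← hperm.sum_eq, List.sum_cons]
    rw [Bool.or_eq_true, List.contains_iff_mem.mpr (hmem _ hm), Bool.not_true, List.all_eq_true] at hB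
    have hB' := hB.resolve_left (by simp) s hs
    rw [show 1 + (-5796 + s.sum) = y₀ by omega, testBit_bitsOf hy₀, Bool.not_true, Bool.false_or,
      List.all_eq_true] at hB'
    have hkill := hB' (cC z) h13
    obtain ⟨cs, hcs, hmap⟩ := exists_perm_map (fun χ : IrrCharacter G => B.σ χ * (deg χ : ℤ)) (-5796 :: s) B.xl
      (hperm.trans (List.Perm.of_eq hxs))
    obtain ⟨c₁, c₂, c₃, c₄, rfl⟩ : ∃ a b d e, cs = [a, b, d, e] := by
      have h : cs.length = 4 := by
        rw [hcs.length_eq]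
        exact ((congrArg List.length hxs).trans (List.length_map _)).symm.trans hlen
      match cs, h with
      | [a, b, d, e], _ => exact ⟨a, b, d, e, rfl⟩
    rw [← hmap] at hkill hperm
    simp only [List.map_cons, List.map_nil] at hkill hperm
    have mem : ∀ χ, χ ∈ [c₁, c₂, c₃, c₄] → χ ∈ B.xl := fun χ h => hcs.subset h
    have hv : ∀ χ ∈ [c₁, c₂, c₃, c₄], ValOK 11 (cC z) (B.σ χ * (deg χ : ℤ), iv χ z) := fun χ h =>
      valOK_of B hz hzC (mem χ h) (hxsmall χ (mem χ h))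
    obtain ⟨-, r2⟩ := B.rel_iv (g := z) (by rw [hz]; norm_num) fun φ _ => iv_spec φ hzz
    obtain ⟨hyl, hyd, -⟩ := B.yl_some y₀ rfl
    have hyl2 : B.yl.length = 2 := by rw [hyl]; simp [Opt.t]
    obtain ⟨ψ, hψ⟩ := List.exists_mem_of_length_pos (l := B.yl) (by omega)
    obtain ⟨g1, g2', g3, g4⟩ := iv_facts hn B.T.noncomm (B.ne_triv (List.mem_append_right _ hψ)) hz
    rw [hyd ψ hψ] at g2' g3 g4
    obtain ⟨Y, hY⟩ : ∃ Y, Y = yVal ⟨11, k, 5, [B.σ c₁ * (deg c₁ : ℤ), B.σ c₂ * (deg c₂ : ℤ),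
      B.σ c₃ * (deg c₃ : ℤ), B.σ c₄ * (deg c₄ : ℤ)], some y₀⟩ [iv c₁ z, iv c₂ z, iv c₃ z, iv c₄ z] := ⟨_, rfl⟩
    have hYv : ∀ φ ∈ B.yl, iv φ z = Y := fun φ hφ => by
      rw [r2 y₀ rfl φ hφ, hY]
      simp only [yVal]
      refine congrArg (sgn y₀ * ·) ?_
      refine ((congrArg (fun l => sigSum l (B.xl.map (iv · z))) hxs).trans (sigSum_map _ _ _)).trans ?_
      refine Eq.trans ?_ (sigSum_map (fun χ : IrrCharacter G => B.σ χ * (deg χ : ℤ)) (fun χ => iv χ z)
        [c₁, c₂, c₃, c₄]).symm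
      rw [(hcs.map _).sum_eq]
    have hsq := sum_sq_le (l := Blocks.trivIrr G :: (B.xl ++ B.yl)) B.nodup (g := z) fun φ _ => iv_spec φ hzz
    rw [List.map_cons, List.sum_cons, iv_triv, List.map_append, List.sum_append, ← (hcs.map _).sum_eq] at hsq
    have hyy : (B.yl.map fun φ => iv φ z * iv φ z).sum = 2 * (Y * Y) := by
      rw [List.map_congr_left (g := fun _ => Y * Y) fun φ hφ => by rw [hYv φ hφ],
        List.map_const', List.sum_replicate, hyl2, nsmul_eq_mul]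
      norm_num
    rw [hyy] at hsq
    simp only [List.map_cons, List.map_nil, List.sum_cons, List.sum_nil, add_zero] at hsq
    have h0 := B.tFrac_eq_zero_of_odd (by norm_num) (by norm_num) hzz (fun φ => iv φ z) Y
      (fun φ _ => iv_spec φ hzz) (fun φ hφ => by rw [iv_spec φ hzz, hYv φ hφ])
    refine false_of_noVals11 (a₁ := (B.σ c₁ * (deg c₁ : ℤ), iv c₁ z)) (a₂ := (B.σ c₂ * (deg c₂ : ℤ), iv c₂ z))
      (a₃ := (B.σ c₃ * (deg c₃ : ℤ), iv c₃ z)) (a₄ := (B.σ c₄ * (deg c₄ : ℤ), iv c₄ z)) hkill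
      (hv _ (by simp)) (hv _ (by simp)) (hv _ (by simp)) (hv _ (by simp)) hY ?_ ?_ ?_ ?_ ?_
    · rw [hYv ψ hψ] at g4; exact g4
    · rw [hYv ψ hψ] at g2'; exact g2'
    · rw [hYv ψ hψ] at g3; exact g3
    · simp only []; linarith
    · refine Eq.trans ?_ h0
      simp only [tFrac]
      have e : fracSum xs (B.xl.map fun φ => iv φ z) =
          fracSum [B.σ c₁ * (deg c₁ : ℤ), B.σ c₂ * (deg c₂ : ℤ), B.σ c₃ * (deg c₃ : ℤ), B.σ c₄ * (deg c₄ : ℤ)]
            [iv c₁ z, iv c₂ z, iv c₃ z, iv c₄ z] :=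
        (congrArg (fun l => fracSum l (B.xl.map fun φ => iv φ z)) hxs).trans
          (fracSum_perm (fun χ : IrrCharacter G => B.σ χ * (deg χ : ℤ)) (fun φ => iv φ z) hcs).symm
      rw [← e]
  all_goals
    rw [Option.some.injEq] at hy
    have := hA y₀ hy₀
    rw [show y₀ - 1 = xs.sum by omega, not_noBit hR hmem hlen, Bool.or_false, Bool.and_eq_true,
      decide_eq_true_eq, decide_eq_true_eq] at this
    omega

omit [Fact (Nat.Prime 5)]

/-- **The Sylow `11`-subgroup is self-centralising, with normaliser of order `110`.** -/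
theorem exists_eleven (hn : Nat.card G = 244823040) (T23 : Ctx G 23 1) (he23 : T23.D.e = 11) :
    ∃ T : Ctx G 11 1, T.D.e = 10 := by
  haveI : Fact (Nat.Prime 5) := ⟨by norm_num⟩
  obtain ⟨k, T, hmem⟩ := exists_ctx (p := 11) hn [1024, 27, 5, 7, 11, 23] (by norm_num) (by norm_num) (by norm_num)
  have h23 : k % 23 ≠ 0 := fun h => by
    have := dvd_of_dvd_k T T23 (Nat.dvd_of_mod_eq_zero h)
    norm_num at this
  have h7 : k % 7 ≠ 0 := fun h => not_seven_dvd_eleven T23 he23 T (Nat.dvd_of_mod_eq_zero h)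
  obtain ⟨c, hc⟩ : ∃ c, 1 + T.D.n * 11 = c := ⟨_, rfl⟩
  rw [hc] at hmem
  obtain ⟨xs, y, hf, ⟨B⟩⟩ := exists_blk T (e := T.D.e) rfl hc kp23
    fun χ _ _ s hs => kp23_of (g23_deg T23 he23) hs χ
  have h := List.all_eq_true.mp key_trips11 _ (List.mem_filter.mpr ⟨hmem, by simp [h23, h7]⟩)
  simp only [forceL_eq, Bool.or_eq_true, Bool.and_eq_true, decide_eq_true_eq, List.contains_iff_mem,
    List.mem_cons, List.not_mem_nil, or_false, Prod.mk.injEq] at h
  have hbig : ∀ j : ℕ, j ∣ 288 ∧ (j % 16 = 0 → j % 32 = 0) → ∀ a, 1 ≤ a → 2 ^ a ∣ j → ¬ 2 ^ (a + 1) ∣ j →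
      2 ^ a % 5 ≠ 1 := fun j hj a ha1 ha hna => by
    have ha5 : a ≤ 5 := by
      by_contra h6
      have := ((Nat.pow_dvd_pow 2 (show 6 ≤ a by omega)).trans ha).trans hj.1
      norm_num at this
    interval_cases a <;> norm_num at ha hna ⊢
    exact hna (Nat.dvd_of_mod_eq_zero (hj.2 (Nat.mod_eq_zero_of_dvd ha)))
  rcases h with (⟨rfl, he⟩ | h) | (⟨he, h⟩ | h)
  · exact ⟨T, he⟩
  · exfalso
    rcases h with ⟨rfl, he, rfl⟩ | ⟨rfl, he, rfl⟩ | ⟨rfl, he, rfl⟩ | ⟨rfl, he, rfl⟩ <;> rw [he] at hf B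
    · exact false_of_five T23 he23 (by norm_num) (by norm_num) (hbig _ (by norm_num)) hf B key_five288
    · exact false_of_five T23 he23 (by norm_num) (by norm_num) (hbig _ (by norm_num)) hf B key_five24
    · exact false_of_five T23 he23 (by norm_num) (by norm_num) (hbig _ (by norm_num)) hf B key_five2
    · exact false_of_ten T23 he23 (by norm_num) (fun w hw => fastY_mod (List.mem_filter.mp hw).1) (by norm_num)
        (hbig _ (by norm_num)) hf B key_ten
  · rw [he] at hf B h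
    exact (false_of_e2 (by norm_num) (by norm_num) hf B h).elim
  · exact (false_of_infeasB hf h).elim

/-- The degrees modulo `23` and modulo `11`. -/
theorem g2_deg (T23 : Ctx G 23 1) (he23 : T23.D.e = 11) (T11 : Ctx G 11 1) (he : T11.D.e = 10)
    (χ : IrrCharacter G) : g2 (deg χ) = true := by
  simp only [g2, g23_deg T23 he23 χ, Bool.true_and, List.contains_iff_mem, List.mem_cons, List.not_mem_nil,
    or_false]
  rcases degree_residue T11 χ with h | ⟨s, hs, h⟩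
  · exact Or.inl (Nat.mod_eq_zero_of_dvd h)
  · rw [he] at h
    simp only [Int.ModEq] at h
    rcases hs with rfl | rfl <;> rcases h with h | h <;> push_cast at h <;> omega

end CfsgLib.M24Order
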