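import Cfsg.Agent.Lib.OrderBlocks.Section
import Cfsg.Agent.Lib.M23Order.Basic

/-!
# An involution of `C(P)` fixed by an element of odd prime order of `N(P)`
-/

set_option autoImplicit false
set_option linter.unusedSectionVars false
set_option linter.style.haveILetI false

namespace CfsgLib.M24Order

open Cfsg
open CfsgLib CfsgLib.BrauerTuan CfsgLib.OrderBlocks
open scoped _root_.Classical

universe u

variable {G : Type u} [Group G] [Fintype G] {p n Bd k : ℕ} [Fact p.Prime] {qs : List ℕ}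

/-- An involution of `C(P)` centralised by an element of prime order `r` of `N(P)`. -/
theorem exists_fixed_involution_of_mod (T : OrderCtx G n p qs Bd k) {r : ℕ} [Fact r.Prime] (hr : r ∣ T.D.e)
    (hk : 2 ∣ k) (hp2 : p ≠ 2) (hbig : ∀ a, 1 ≤ a → 2 ^ a ∣ k → ¬ 2 ^ (a + 1) ∣ k → 2 ^ a % r ≠ 1) :
    ∃ z : G, orderOf z = 2 ∧ z ∈ Subgroup.centralizer ((T.P : Subgroup G) : Set G) ∧ r ∣ cC z ∧ p ∣ cC z := by
  haveI : Fact (Nat.Prime 2) := ⟨Nat.prime_two⟩
  obtain ⟨N, hN⟩ : ∃ N, N = Subgroup.normalizer ((T.P : Subgroup G) : Set G) := ⟨_, rfl⟩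
  obtain ⟨C, hC⟩ : ∃ C, C = (Subgroup.centralizer ((T.P : Subgroup G) : Set G)).subgroupOf N := ⟨_, rfl⟩
  haveI : C.Normal := by subst hC hN; exact centralizer_subgroupOf_normal _
  have hidx : C.index = T.D.e := by subst hC hN; exact index_cent T
  have hcard : Nat.card C = p * k := by
    subst hC hN
    rw [Nat.card_congr (Subgroup.subgroupOfEquivOfLe (Subgroup.centralizer_le_normalizer _)).toEquiv, T.card_C]
  obtain ⟨S⟩ : Nonempty (Sylow 2 C) := inferInstance
  obtain ⟨S', hS'⟩ : ∃ S', S' = (S : Subgroup C).map C.subtype := ⟨_, rfl⟩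
  have hfr : Subgroup.normalizer (S' : Set N) ⊔ C = ⊤ := by rw [hS']; exact Sylow.normalizer_sup_eq_top S
  have hdvd : r ∣ Nat.card (Subgroup.normalizer (S' : Set N)) := by
    refine (hr.trans ?_).trans (Subgroup.relIndex_dvd_card C _)
    rw [← hidx, ← Subgroup.relIndex_top_right, ← hfr, Subgroup.relIndex_sup_right]
  obtain ⟨x, hx⟩ := exists_prime_orderOf_dvd_card' (G := Subgroup.normalizer (S' : Set N)) r hdvd
  obtain ⟨a, ha⟩ := S.isPGroup'.exists_card_eq
  have hS'c : Nat.card S' = 2 ^ a := by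
    rw [hS', ← ha]; exact (Nat.card_congr ((S : Subgroup C).equivMapOfInjective _ C.subtype_injective).toEquiv).symm
  have hak : 2 ^ a ∣ k := by
    have h : 2 ^ a ∣ p * k := hcard ▸ ha ▸ Subgroup.card_subgroup_dvd_card _
    exact (((Nat.coprime_primes Nat.prime_two Fact.out).mpr (Ne.symm hp2)).pow_left a).dvd_of_dvd_mul_left h
  have hmax : ¬ 2 ^ (a + 1) ∣ k := fun h => by
    have h0 : 2 ^ (a + 1) ∣ Nat.card C := hcard ▸ h.mul_left p
    have h1 := (Nat.prime_two.pow_dvd_iff_le_factorization Nat.card_pos.ne').mp h0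
    have h2 := S.card_eq_multiplicity
    rw [ha] at h2
    have := Nat.pow_right_injective le_rfl h2
    omega
  -- conjugation by `x` fixes an involution of `S'`
  have hxr : (x : N) ^ r = 1 := by rw [← hx, ← Subgroup.orderOf_coe, pow_orderOf_eq_one]
  have hmod := M23Order.card_mod_fixed (Fact.out : r.Prime) hxr S' fun w hw =>
    (Subgroup.mem_normalizer_iff.mp x.2 w).mp hw
  obtain ⟨F, hF⟩ : ∃ F, F = S' ⊓ Subgroup.centralizer ({(x : N)} : Set N) := ⟨_, rfl⟩
  rw [← hF, hS'c] at hmod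
  have ha1 : 1 ≤ a := by
    by_contra h
    have h2 := S.dvd_card_of_dvd_card (hcard ▸ hk.mul_left p)
    rw [ha, show a = 0 by omega, pow_zero] at h2
    exact absurd h2 (by norm_num)
  obtain ⟨b, hb, hFc⟩ := (Nat.dvd_prime_pow Nat.prime_two).mp
    (hS'c ▸ Subgroup.card_dvd_of_le (hF ▸ inf_le_left : F ≤ S'))
  obtain ⟨w₀, hw₀⟩ := exists_prime_orderOf_dvd_card' (G := F) 2 (by
    rw [hFc]
    refine dvd_pow_self 2 fun h0 => hbig a ha1 hak hmax ?_
    rw [h0, pow_zero] at hFc
    rw [hFc] at hmod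
    rwa [Nat.ModEq, Nat.mod_eq_of_lt (Fact.out : r.Prime).one_lt] at hmod)
  obtain ⟨w, hw, hwx⟩ : ∃ w : S', orderOf (w : N) = 2 ∧ (w : N) * (x : N) = (x : N) * (w : N) :=
    by
      subst hF
      exact ⟨⟨w₀, w₀.2.1⟩, (Subgroup.orderOf_coe w₀).trans hw₀,
        Subgroup.mem_centralizer_singleton_iff.mp w₀.2.2⟩
  have hwC : ((w : N) : G) ∈ Subgroup.centralizer ((T.P : Subgroup G) : Set G) := by
    have : (w : N) ∈ C := by
      have hw2 : (w : N) ∈ (S : Subgroup C).map C.subtype := le_of_eq hS' w.2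
      obtain ⟨c, -, hc⟩ := Subgroup.mem_map.mp hw2
      rw [← hc]; exact c.2
    rw [hC, Subgroup.mem_subgroupOf] at this
    exact this
  have hcomm : (((x : N)) : G) * ((w : N) : G) = ((w : N) : G) * (((x : N)) : G) :=
    (congrArg Subtype.val hwx).symm
  refine ⟨((w : N) : G), by rw [Subgroup.orderOf_coe]; exact hw, hwC, ?_, ?_⟩
  · have : orderOf (((x : N)) : G) = r := by rw [Subgroup.orderOf_coe, Subgroup.orderOf_coe]; exact hx
    rw [cC, ← this]
    exact Subgroup.orderOf_dvd_natCard _ (Subgroup.mem_centralizer_singleton_iff.mpr hcomm)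
  · have hle : (T.P : Subgroup G) ≤ Subgroup.centralizer ({((w : N) : G)} : Set G) := fun v hv =>
      Subgroup.mem_centralizer_singleton_iff.mpr (Subgroup.mem_centralizer_iff.mp hwC v hv)
    have h := Subgroup.card_dvd_of_le hle
    rwa [T.card_P] at h

end CfsgLib.M24Order
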