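import Cfsg.Agent.Lib.M24Order.Keys23Defs

/-!
# Simple groups of order 244823040: the computations for the prime 23
-/

set_option autoImplicit false
set_option Elab.async false
set_option maxHeartbeats 4000000

namespace CfsgLib.M24Order

open CfsgLib.BrauerTuan CfsgLib.OrderBlocks

theorem key_trips23 : ((trips 244823040 23 [1024, 27, 5, 7, 11, 23]).all fun t =>
    [(1680, 11, 576), (1680, 22, 288), (40320, 11, 24), (40320, 22, 12), (967680, 11, 1)].contains t ||
      infeas 23 t.2.1 (fastX 23 t.2.2 (t.2.1 * t.1)) (fastY 23 t.2.2 (t.2.1 * t.1) t.2.1)) = true := by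
  decide +kernel

theorem key_kill23a : kill23 1680 11 576 = true := by decide +kernel

theorem key_kill23b : kill23 1680 22 288 = true := by decide +kernel

theorem key_kill23c : kill23 40320 11 24 = true := by decide +kernel

theorem key_kill23d : kill23 40320 22 12 = true := by decide +kernel

end CfsgLib.M24Order
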