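import Cfsg.Agent.Lib.M24Order.Fast
import Cfsg.Agent.Lib.M24Order.Keys23
import Cfsg.Agent.Lib.M24Order.Fix

/-!
# Simple groups of order 244823040: the Sylow 23-subgroups are self-centralising
-/

set_option autoImplicit false
set_option linter.unusedSectionVars false
set_option linter.style.haveILetI false
set_option maxHeartbeats 2000000

namespace CfsgLib.M24Order

open Cfsg
open scoped ComplexConjugate CfsgLib.Char
open CfsgLib CfsgLib.BrauerTuan CfsgLib.OrderBlocks
open scoped _root_.Classical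

universe u

theorem fastX_mod {p k ec : ℕ} {z : ℤ} (h : z ∈ fastX p k ec) : (p : ℤ) ∣ z - 1 := by
  simp only [fastX, List.mem_flatMap, List.mem_filter, List.mem_filterMap] at h
  obtain ⟨x, -, s, hs, hif⟩ := h
  split_ifs at hif with hc
  simp only [Option.some.injEq] at hif
  simp only [Bool.and_eq_true, decide_eq_true_eq] at hc
  have h1 := Int.dvd_of_emod_eq_zero hc.1.1.2
  simp only [List.mem_cons, List.not_mem_nil, or_false] at hs
  rcases hs with rfl | rfl <;> rw [← hif]
  · simpa using h1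
  · rw [show (-1 : ℤ) * x - 1 = -(x - -1) by ring]; exact dvd_neg.mpr h1

theorem sgn_mul_self (y : ℤ) : sgn y * sgn y = 1 ∧ sgn y * (y.natAbs : ℤ) = y := by
  unfold sgn
  split_ifs with h
  · exact ⟨by norm_num, by omega⟩
  · exact ⟨by norm_num, by omega⟩

variable {G : Type u} [Group G] [Fintype G] [IsSimpleGroup G] [Fact (Nat.Prime 23)]

theorem mem_cents23 (hn : Nat.card G = 244823040) {z : G} (hz : orderOf z = 2) (h11 : 11 ∣ cC z)
    (h23 : 23 ∣ cC z) : cC z ∈ cents23 := by
  have h2 : 2 ∣ cC z := by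
    rw [cC, ← hz]
    exact Subgroup.orderOf_dvd_natCard _ (Subgroup.mem_centralizer_singleton_iff.mpr rfl)
  obtain ⟨q, hq⟩ : 506 ∣ cC z :=
    Nat.Coprime.mul_dvd_of_dvd_of_dvd (by norm_num : Nat.Coprime 22 23)
      (Nat.Coprime.mul_dvd_of_dvd_of_dvd (by norm_num : Nat.Coprime 2 11) h2 h11) h23
  simp only [cents23, List.mem_map]
  refine ⟨q, mem_divs _ (by norm_num) q ?_, hq.symm⟩
  have h := cC_dvd hn z
  rw [hq, show 244823040 = 506 * 483840 by norm_num] at h
  have := Nat.dvd_of_mul_dvd_mul_left (by norm_num) h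
  norm_num
  exact this

/-- A block with an involution of `C(P)` fixed by an element of order `11` passes the check. -/
theorem false_of_kill23 {k e c : ℕ} {xs : List ℤ} {y : Option ℤ} (he : e = 11 ∨ e = 22) (hk : 2 ∣ k)
    (hbig : ∀ a, 1 ≤ a → 2 ^ a ∣ k → 2 ^ a % 11 ≠ 1)
    (hf : Fits 23 k e (fastX 23 k (e * c)) (fastY 23 k (e * c) e) xs y) (B : Blk G 23 ⟨23, k, e, xs, y⟩)
    (hb : kill23 c e k = true) : False := by
  haveI : Fact (Nat.Prime 11) := ⟨by norm_num⟩
  have hn := B.card_eq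
  have hBe : B.T.D.e = e := B.e_eq
  obtain ⟨z, hz, hzC, h11, h23⟩ := exists_fixed_involution_of_mod B.T (r := 11)
    (by rw [hBe]; rcases he with rfl | rfl <;> norm_num) hk (by norm_num) fun a h1 h2 _ => hbig a h1 h2
  have hzz := mul_self_of_order_two hz
  have hzo : ¬ 23 ∣ orderOf z := by rw [hz]; norm_num
  obtain ⟨r1, r2⟩ := B.rel_iv hzo fun χ _ => iv_spec χ hzz
  rw [kill23, List.all_eq_true] at hb
  have hb := hb _ (mem_cents23 hn hz h11 h23)
  obtain ⟨f, hfdef⟩ : ∃ f : IrrCharacter G → ℤ × ℤ × ℤ,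
      ∀ χ, f χ = (B.σ χ * (deg χ : ℤ), B.σ χ * iv χ z, iv χ z * iv χ z) := ⟨_, fun χ => rfl⟩
  have hxs : xs = B.xl.map fun χ => B.σ χ * (deg χ : ℤ) := B.xs_eq
  have hmemx : ∀ χ ∈ B.xl, B.σ χ * (deg χ : ℤ) ∈ fastX 23 k (e * c) := fun χ hχ =>
    hf.mem _ ((congrArg (fun l : List ℤ => B.σ χ * (deg χ : ℤ) ∈ l) hxs).mpr (List.mem_map.mpr ⟨χ, hχ, rfl⟩))
  have hcong : ∀ χ ∈ B.xl, (23 : ℤ) ∣ iv χ z - B.σ χ := fun χ hχ =>
    dvd_sub_of_section B.T (by norm_num) hz hzC fun v hv hv1 w hw hwr => B.sec hχ hv hv1 hw hwr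
  have hitems : ∀ a ∈ B.xl.map f, a ∈ items (cC z) (fastX 23 k (e * c)) := by
    intro a ha
    obtain ⟨χ, hχ, rfl⟩ := List.mem_map.mp ha
    obtain ⟨hs1, hs2⟩ := B.sgn_eq hχ
    obtain ⟨f1, f2, f3, f4⟩ := iv_facts hn B.T.noncomm (B.ne_triv (List.mem_append_left _ hχ)) hz
    simp only [items, List.mem_flatMap, List.mem_map]
    refine ⟨_, hmemx χ hχ, iv χ z, ?_, by rw [hfdef, hs1]⟩
    rw [hs1, hs2]
    exact mem_vOpts (B.not_dvd χ (List.mem_append_left _ hχ)) f4 f2 f1 f3 (hcong χ hχ)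
  have hsig : sigSum xs (B.xl.map (iv · z)) = 1 + (B.xl.map fun χ => B.σ χ * iv χ z).sum := by
    refine (congrArg (fun l => sigSum l (B.xl.map (iv · z))) hxs).trans ((sigSum_map _ _ _).trans ?_)
    exact congrArg (1 + ·) (congrArg List.sum (List.map_congr_left fun χ hχ => by rw [(B.sgn_eq hχ).1]))
  have hsq := sum_sq_le (l := Blocks.trivIrr G :: (B.xl ++ B.yl)) B.nodup (g := z) fun χ _ => iv_spec χ hzz
  rw [List.map_cons, List.sum_cons, iv_triv, List.map_append, List.sum_append] at hsq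
  have hs1 : ((B.xl.map f).map fun a => a.1).sum = xs.sum := by
    refine (congrArg List.sum ?_).trans (congrArg List.sum hxs).symm
    rw [List.map_map]
    exact List.map_congr_left fun χ _ => by rw [Function.comp_apply, hfdef]
  have hs2 : ((B.xl.map f).map fun a => a.2.1).sum = (B.xl.map fun χ => B.σ χ * iv χ z).sum := by
    rw [List.map_map]
    exact congrArg List.sum (List.map_congr_left fun χ _ => by rw [Function.comp_apply, hfdef])
  have hs3 : ((B.xl.map f).map fun a => a.2.2).sum = (B.xl.map fun χ => iv χ z * iv χ z).sum := by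
    rw [List.map_map]
    exact congrArg List.sum (List.map_congr_left fun χ _ => by rw [Function.comp_apply, hfdef])
  have hlen : (B.xl.map f).length = xs.length := by
    rw [List.length_map]
    exact ((congrArg List.length hxs).trans (List.length_map _)).symm
  rcases he with rfl | rfl
  · -- two exceptional characters
    obtain ⟨y', rfl, hy', hxl, hysum⟩ := hf.more (by norm_num)
    obtain ⟨hyl, hyd, -⟩ := B.yl_some y' rfl
    simp only [Opt.t] at hyl
    norm_num at hyl
    obtain ⟨ψ, hψ⟩ := List.exists_mem_of_length_pos (l := B.yl) (by omega)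
    have hY : ∀ φ ∈ B.yl, iv φ z = sgn y' * sigSum xs (B.xl.map (iv · z)) := fun φ hφ => by
      rw [r2 y' rfl φ hφ]; rfl
    obtain ⟨f1, f2, f3, f4⟩ := iv_facts hn B.T.noncomm (B.ne_triv (List.mem_append_right _ hψ)) hz
    have hd := hyd ψ hψ
    rw [hd] at f2 f3 f4
    have hcy : (23 : ℤ) ∣ iv ψ z - (y'.natAbs : ℤ) := by
      have h1 : (23 : ℤ) ∣ sigSum xs (B.xl.map (iv · z)) - y' := by
        have e1 : y' = 1 + (B.xl.map fun χ => B.σ χ * (deg χ : ℤ)).sum :=
          hysum.trans (congrArg (1 + ·) (congrArg List.sum hxs))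
        rw [hsig, show 1 + (B.xl.map fun χ => B.σ χ * iv χ z).sum - y' =
          (B.xl.map fun χ => B.σ χ * iv χ z).sum - (B.xl.map fun χ => B.σ χ * (deg χ : ℤ)).sum by omega]
        obtain ⟨l, hl⟩ : ∃ l, l = B.xl := ⟨_, rfl⟩
        rw [← hl]
        have hsub : ∀ χ ∈ l, χ ∈ B.xl := fun χ hχ => hl ▸ hχ
        clear hl
        induction l with
        | nil => simp
        | cons χ l ih =>
          simp only [List.map_cons, List.sum_cons]
          have hχ := hsub χ List.mem_cons_self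
          have i1 := fastX_mod (hmemx χ hχ)
          have i2 := hcong χ hχ
          have i3 := ih fun ξ hξ => hsub ξ (List.mem_cons_of_mem _ hξ)
          rcases B.σ_unit hχ with e | e <;> rw [e] at i1 i2 ⊢ <;> push_cast at i1 <;> omega
      have h2 := sgn_mul_self y'
      rw [hY ψ hψ, show sgn y' * sigSum xs (B.xl.map (iv · z)) - (y'.natAbs : ℤ) =
        sgn y' * (sigSum xs (B.xl.map (iv · z)) - y') by
          linear_combination (-sgn y') * h2.2 + (y'.natAbs : ℤ) * h2.1]
      exact dvd_mul_of_dvd_right h1 _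
    have hdy : ¬ 23 ∣ y'.natAbs := hd ▸ B.not_dvd ψ (List.mem_append_right _ hψ)
    have hyy : (B.yl.map fun φ => iv φ z * iv φ z).sum = 2 * (iv ψ z * iv ψ z) := by
      rw [List.map_congr_left (g := fun _ => iv ψ z * iv ψ z) fun φ hφ => by rw [hY φ hφ, ← hY ψ hψ],
        List.map_const', List.sum_replicate, hyl, nsmul_eq_mul]
      norm_num
    refine false_of_noSum hb (L := B.xl.map f) ?_ hitems
      (t := (y' - 1, sgn y' * iv ψ z - 1, 2 * (iv ψ z * iv ψ z))) ?_ ?_ ?_ ?_
    · rw [hlen, hxl]; norm_num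
    · simp only [targets, List.mem_flatMap, List.mem_map, if_neg (show ¬ (11 : ℕ) = 22 by norm_num)]
      exact ⟨y', hy', iv ψ z, mem_vOpts hdy f4 f2 f1 f3 hcy, rfl⟩
    · rw [hs1, hysum]; ring
    · rw [hs2, hY ψ hψ, ← mul_assoc, (sgn_mul_self y').1, one_mul, hsig]; ring
    · rw [hs3]
      rw [hyy] at hsq
      show 1 + 2 * (iv ψ z * iv ψ z) + _ ≤ _
      omega
  · -- one block of rational characters
    obtain ⟨rfl, hxl, hxsum⟩ := hf.one (by norm_num)
    have hrel := r1 rfl
    change sigSum xs _ = 0 at hrel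
    rw [hsig] at hrel
    refine false_of_noSum hb (L := B.xl.map f) ?_ hitems (t := (-1, -1, 0)) ?_ ?_ ?_ ?_
    · rw [hlen, hxl]; norm_num
    · simp [targets]
    · rw [hs1, hxsum]
    · rw [hs2]; show _ = (-1 : ℤ); omega
    · rw [hs3]
      rw [B.yl_none rfl, List.map_nil, List.sum_nil] at hsq
      show 1 + (0 : ℤ) + _ ≤ _
      omega

/-- **The Sylow `23`-subgroup is self-centralising, with normaliser of order `253`.** -/
theorem exists_twentythree (hn : Nat.card G = 244823040) : ∃ T : Ctx G 23 1, T.D.e = 11 := by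
  obtain ⟨k, T, hmem⟩ := exists_ctx (p := 23) hn [1024, 27, 5, 7, 11, 23] (by norm_num) (by norm_num) (by norm_num)
  obtain ⟨c, hc⟩ : ∃ c, 1 + T.D.n * 23 = c := ⟨_, rfl⟩
  rw [hc] at hmem
  obtain ⟨xs, y, hf, ⟨B⟩⟩ := exists_blk T (e := T.D.e) rfl hc (fun _ => true) fun _ _ _ _ _ => rfl
  simp only [List.filter_true] at hf
  have h := List.all_eq_true.mp key_trips23 _ hmem
  simp only [Bool.or_eq_true, List.contains_iff_mem, List.mem_cons, List.not_mem_nil, or_false,
    Prod.mk.injEq] at h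
  have hbig : ∀ j : ℕ, j ∣ 576 → ∀ a, 1 ≤ a → 2 ^ a ∣ j → 2 ^ a % 11 ≠ 1 := fun j hj a ha1 ha => by
    have ha6 : a ≤ 6 := by
      by_contra h6
      have := ((Nat.pow_dvd_pow 2 (show 7 ≤ a by omega)).trans ha).trans hj
      norm_num at this
    interval_cases a <;> norm_num
  rcases h with (⟨rfl, he, rfl⟩ | ⟨rfl, he, rfl⟩ | ⟨rfl, he, rfl⟩ | ⟨rfl, he, rfl⟩ | ⟨-, he, rfl⟩) | h
  · rw [he] at hf B
    exact (false_of_kill23 (Or.inl rfl) (by norm_num) (hbig _ dvd_rfl) hf B key_kill23a).elim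
  · rw [he] at hf B
    exact (false_of_kill23 (Or.inr rfl) (by norm_num) (hbig _ (by norm_num)) hf B key_kill23b).elim
  · rw [he] at hf B
    exact (false_of_kill23 (Or.inl rfl) (by norm_num) (hbig _ (by norm_num)) hf B key_kill23c).elim
  · rw [he] at hf B
    exact (false_of_kill23 (Or.inr rfl) (by norm_num) (hbig _ (by norm_num)) hf B key_kill23d).elim
  · exact ⟨T, he⟩
  · exact (false_of_infeas hf h).elim

/-- The degrees modulo `23`. -/
theorem g23_deg (T : Ctx G 23 1) (he : T.D.e = 11) (χ : IrrCharacter G) : g23 (deg χ) = true := by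
  simp only [g23, List.contains_iff_mem, List.mem_cons, List.not_mem_nil, or_false]
  rcases degree_residue T χ with h | ⟨s, hs, h⟩
  · exact Or.inl (Nat.mod_eq_zero_of_dvd h)
  · rw [he] at h
    simp only [Int.ModEq] at h
    rcases hs with rfl | rfl <;> rcases h with h | h <;> push_cast at h <;> omega

end CfsgLib.M24Order
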