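import Cfsg.Agent.Lib.M24Order.Keys4Data

/-!
# Simple groups of order 244823040: the values at the involution inverting `P₁₁`, k = 12
-/

set_option autoImplicit false
set_option Elab.async false

namespace CfsgLib.M24Order.E3

set_option maxRecDepth 100000
set_option maxHeartbeats 0

theorem key_S12_0 : plans12_0.all (okS 12 tabS12) = true := by decide +kernel

theorem key_S12_1 : plans12_1.all (okS 12 tabS12) = true := by decide +kernel

theorem key_S12_2 : plans12_2.all (okS 12 tabS12) = true := by decide +kernel

theorem key_S12_3 : plans12_3.all (okS 12 tabS12) = true := by decide +kernel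

theorem key_S12_4 : plans12_4.all (okS 12 tabS12) = true := by decide +kernel

theorem key_S12_5 : plans12_5.all (okS 12 tabS12) = true := by decide +kernel

theorem key_S12_6 : plans12_6.all (okS 12 tabS12) = true := by decide +kernel

theorem key_S12_7 : plans12_7.all (okS 12 tabS12) = true := by decide +kernel

end CfsgLib.M24Order.E3
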