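import Cfsg.Agent.Lib.M24Order.Keys4S192A

/-!
# Simple groups of order 244823040: the values at the involution inverting `P₁₁`, k = 192
-/

set_option autoImplicit false
set_option Elab.async false

namespace CfsgLib.M24Order.E3

set_option maxRecDepth 100000
set_option maxHeartbeats 0

theorem key_S192_4 : plans192_4.all (okS 192 tabS192) = true := by decide +kernel

theorem key_S192_5 : plans192_5.all (okS 192 tabS192) = true := by decide +kernel

theorem key_S192_6 : plans192_6.all (okS 192 tabS192) = true := by decide +kernel

theorem key_S192_7 : plans192_7.all (okS 192 tabS192) = true := by decide +kernel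

end CfsgLib.M24Order.E3
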