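import Cfsg.Agent.Lib.M24Order.Keys4TabA

/-!
# Simple groups of order 244823040: the tables of values and lists
-/

set_option autoImplicit false
set_option Elab.async false

namespace CfsgLib.M24Order.E3

set_option maxRecDepth 100000
set_option maxHeartbeats 0

theorem key_tabZ192 : checkTups 192 false 7 tabZ192 = true := by decide +kernel

theorem key_tabZ12 : checkTups 12 false 7 tabZ12 = true := by decide +kernel

theorem key_lists : checkLists canon = true := by decide +kernel

theorem key_degs : checkDegs = true := by decide +kernel

theorem key_base12 : (plans12.map Plan.base == canon) && (plans12.all fun P => P.es.isPerm P.base) = true := by decide +kernel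

theorem key_base192 : (plans192.map Plan.base == canon) && (plans192.all fun P => P.es.isPerm P.base) = true := by decide +kernel

end CfsgLib.M24Order.E3
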