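import Cfsg.Agent.Lib.M24Order.Keys4Data

/-!
# Simple groups of order 244823040: the values at an element of order 5, k = 12
-/

set_option autoImplicit false

namespace CfsgLib.M24Order.E3

set_option maxRecDepth 100000
set_option maxHeartbeats 0

theorem key_Y12 : plans12.all (okY 12) = true := by decide +kernel

end CfsgLib.M24Order.E3
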