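import Cfsg.Agent.Lib.M24Order.Keys4Data

/-!
# Simple groups of order 244823040: the values at the involution of `C(P₇)` and the block for 11, k = 12
-/

set_option autoImplicit false
set_option Elab.async false

namespace CfsgLib.M24Order.E3

set_option maxRecDepth 100000
set_option maxHeartbeats 0

theorem key_ZM12_0 : (okZ 12 tabZ12 live12_0 && okM live12_0) = true := by decide +kernel

theorem key_ZM12_1 : (okZ 12 tabZ12 live12_1 && okM live12_1) = true := by decide +kernel

theorem key_ZM12_2 : (okZ 12 tabZ12 live12_2 && okM live12_2) = true := by decide +kernel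

theorem key_ZM12_3 : (okZ 12 tabZ12 live12_3 && okM live12_3) = true := by decide +kernel

theorem key_ZM12_4 : (okZ 12 tabZ12 live12_4 && okM live12_4) = true := by decide +kernel

theorem key_ZM12_5 : (okZ 12 tabZ12 live12_5 && okM live12_5) = true := by decide +kernel

theorem key_ZM12_6 : (okZ 12 tabZ12 live12_6 && okM live12_6) = true := by decide +kernel

theorem key_ZM12_7 : (okZ 12 tabZ12 live12_7 && okM live12_7) = true := by decide +kernel

theorem key_ZM12_8 : (okZ 12 tabZ12 live12_8 && okM live12_8) = true := by decide +kernel

theorem key_ZM12_9 : (okZ 12 tabZ12 live12_9 && okM live12_9) = true := by decide +kernel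

theorem key_ZM12_10 : (okZ 12 tabZ12 live12_10 && okM live12_10) = true := by decide +kernel

theorem key_live12 : (plans12.all fun P => decide (P ∈ [live12_0, live12_1, live12_2, live12_3, live12_4, live12_5, live12_6, live12_7, live12_8, live12_9, live12_10]) || (P.sols.isEmpty && !P.byZ)) = true := by decide +kernel

end CfsgLib.M24Order.E3
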