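import Cfsg.Agent.Lib.M24Order.Keys4Data

/-!
# Simple groups of order 244823040: the block for 11 for the first live list, k = 192
-/

set_option autoImplicit false
set_option Elab.async false

namespace CfsgLib.M24Order.E3

set_option maxRecDepth 100000
set_option maxHeartbeats 0

/-- The plan with a segment of its pairs. -/
theorem okM_of_segs (P : Plan) (hz : P.byZ = true) (n : ℕ) (ha : okM { P with pairs := P.pairs.take n } = true)
    (hb : okM { P with pairs := P.pairs.drop n } = true) : okM P = true := by
  rw [okM, if_pos hz, List.all_eq_true] at ha hb ⊢
  intro p hp
  rw [← List.take_append_drop n P.pairs, List.mem_append] at hp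
  exact hp.elim (ha p) (hb p)

theorem key_M192_0a : okM { live192_0 with pairs := (live192_0.pairs.take 5).take 2 } = true := by decide +kernel

theorem key_M192_0b : okM { live192_0 with pairs := (live192_0.pairs.take 5).drop 2 } = true := by decide +kernel

theorem key_M192_0c : okM { live192_0 with pairs := (live192_0.pairs.drop 5).take 2 } = true := by decide +kernel

theorem key_M192_0d : okM { live192_0 with pairs := (live192_0.pairs.drop 5).drop 2 } = true := by decide +kernel

theorem key_M192_0 : okM live192_0 = true :=
  okM_of_segs live192_0 rfl 5
    (okM_of_segs { live192_0 with pairs := live192_0.pairs.take 5 } rfl 2 key_M192_0a key_M192_0b)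
    (okM_of_segs { live192_0 with pairs := live192_0.pairs.drop 5 } rfl 2 key_M192_0c key_M192_0d)

end CfsgLib.M24Order.E3
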