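import Cfsg.Agent.Lib.M24Order.Keys4Data

/-!
# Simple groups of order 244823040: the values at the involution of `C(P₇)` for the first live list, k = 192
-/

set_option autoImplicit false
set_option Elab.async false

namespace CfsgLib.M24Order.E3

set_option maxRecDepth 100000
set_option maxHeartbeats 0

/-- The part of `okZ` for one order of a centraliser. -/
def bodyZ (k : ℕ) (table : List (ℕ × Tup)) (P : Plan) (C : ℕ) : Bool :=
  forceN C fun C =>
      if P.useX then
        P.sols.all fun s => searchCol C false false (pick P.es (0, 0) P.zp) table (pick s.vs 0 P.zp) (some s)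
          fun z => !(compat2 k P.es P.ry s (unpick P z)) || P.pairs.contains (s, unpick P z)
      else searchCol C false false (pick P.es (0, 0) P.zp) table [] none fun z =>
        P.sols.all fun s => !(compat2 k P.es P.ry s (unpick P z)) || P.pairs.contains (s, unpick P z)

theorem okZ_of_parts (k : ℕ) (table : List (ℕ × Tup)) (P : Plan)
    (hg : (P.es.length == P.zp.length && P.zp.isPerm (List.range P.es.length) &&
      pick P.zp 0 P.zi == List.range P.es.length && P.zi.all (fun i => decide (i < P.es.length))) = true)
    (h0 : ((centsP 7).take 24).all (bodyZ k table P) = true)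
    (h1 : (((centsP 7).drop 24).take 24).all (bodyZ k table P) = true)
    (h2 : (((centsP 7).drop 24).drop 24).all (bodyZ k table P) = true) : okZ k table P = true := by
  have h : (centsP 7).all (bodyZ k table P) = true := by
    rw [← List.take_append_drop 24 (centsP 7), List.all_append, h0,
      ← List.take_append_drop 24 ((centsP 7).drop 24), List.all_append, h1, h2]
    rfl
  have e : okZ k table P = (!P.byZ || ((P.es.length == P.zp.length && P.zp.isPerm (List.range P.es.length) &&
      pick P.zp 0 P.zi == List.range P.es.length && P.zi.all (fun i => decide (i < P.es.length))) &&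
      (centsP 7).all (bodyZ k table P))) := rfl
  rw [e, hg, h, Bool.and_self, Bool.or_true]

theorem guard_Z192_0 : (live192_0.es.length == live192_0.zp.length &&
    live192_0.zp.isPerm (List.range live192_0.es.length) &&
    pick live192_0.zp 0 live192_0.zi == List.range live192_0.es.length &&
    live192_0.zi.all (fun i => decide (i < live192_0.es.length))) = true := by decide +kernel

theorem part_Z192_0a : ((centsP 7).take 24).all (bodyZ 192 tabZ192 live192_0) = true := by decide +kernel

theorem part_Z192_0b : (((centsP 7).drop 24).take 24).all (bodyZ 192 tabZ192 live192_0) = true := by decide +kernel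

theorem all_of_halves {α : Type} {L : List α} {f : α → Bool} (n : ℕ) (h : (L.take n).all f = true)
    (h' : (L.drop n).all f = true) : L.all f = true := by
  rw [← List.take_append_drop n L, List.all_append, h, h']
  rfl

theorem part_Z192_0c0 : ((((centsP 7).drop 24).drop 24).take 12).all (bodyZ 192 tabZ192 live192_0) = true := by
  decide +kernel

theorem part_Z192_0c1 : (((((centsP 7).drop 24).drop 24).drop 12).take 6).all (bodyZ 192 tabZ192 live192_0) = true := by
  decide +kernel

theorem part_Z192_0c2 : (((((centsP 7).drop 24).drop 24).drop 12).drop 6).all (bodyZ 192 tabZ192 live192_0) = true := by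
  decide +kernel

theorem part_Z192_0c : (((centsP 7).drop 24).drop 24).all (bodyZ 192 tabZ192 live192_0) = true :=
  all_of_halves 12 part_Z192_0c0 (all_of_halves 6 part_Z192_0c1 part_Z192_0c2)

theorem key_Z192_0 : okZ 192 tabZ192 live192_0 = true :=
  okZ_of_parts 192 tabZ192 live192_0 guard_Z192_0 part_Z192_0a part_Z192_0b part_Z192_0c

end CfsgLib.M24Order.E3
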