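import Cfsg.Agent.Lib.M24Order.Keys4Data
import Cfsg.Agent.Lib.M24Order.Keys4Z192A
import Cfsg.Agent.Lib.M24Order.Keys4M192A

/-!
# Simple groups of order 244823040: the values at the involution of `C(P₇)` and the block for 11, k = 192
-/

set_option autoImplicit false
set_option Elab.async false

namespace CfsgLib.M24Order.E3

set_option maxRecDepth 100000
set_option maxHeartbeats 0

theorem key_ZM192_0 : (okZ 192 tabZ192 live192_0 && okM live192_0) = true := by
  rw [key_Z192_0, key_M192_0]
  rfl

theorem key_ZM192_1 : (okZ 192 tabZ192 live192_1 && okM live192_1) = true := by decide +kernel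

theorem key_ZM192_2 : (okZ 192 tabZ192 live192_2 && okM live192_2) = true := by decide +kernel

theorem key_ZM192_3 : (okZ 192 tabZ192 live192_3 && okM live192_3) = true := by decide +kernel

theorem key_live192 : (plans192.all fun P => decide (P ∈ [live192_0, live192_1, live192_2, live192_3]) || (P.sols.isEmpty && !P.byZ)) = true := by decide +kernel

end CfsgLib.M24Order.E3
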