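import Cfsg.Agent.Lib.M24Order.Kill4
import Cfsg.Agent.Lib.M24Order.Keys4Tab
import Cfsg.Agent.Lib.M24Order.Keys4Y12
import Cfsg.Agent.Lib.M24Order.Keys4Y192
import Cfsg.Agent.Lib.M24Order.Keys4S12
import Cfsg.Agent.Lib.M24Order.Keys4S192
import Cfsg.Agent.Lib.M24Order.Keys4Z12
import Cfsg.Agent.Lib.M24Order.Keys4Z192

/-!
# Simple groups of order 244823040: a character of degree 23, for `|N(P₇) : C(P₇)| = 3`
-/

set_option autoImplicit false
set_option linter.unusedSectionVars false
set_option linter.style.haveILetI false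

namespace CfsgLib.M24Order.E3

open Cfsg
open CfsgLib CfsgLib.BrauerTuan CfsgLib.OrderBlocks CfsgLib.M24Order

universe u

theorem plans12_ok : ∀ P ∈ plans12, okY 12 P = true ∧ okS 12 tabS12 P = true ∧ okZ 12 tabZ12 P = true ∧ okM P = true := by
  intro P hP
  refine ⟨List.all_eq_true.mp key_Y12 P hP, ?_, ?_⟩
  · have h : plans12.all (okS 12 tabS12) = true := by
      simp only [plans12, List.all_append, key_S12_0, key_S12_1, key_S12_2, key_S12_3, key_S12_4, key_S12_5,
        key_S12_6, key_S12_7, Bool.and_self]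
    exact List.all_eq_true.mp h P hP
  · have h := List.all_eq_true.mp key_live12 P hP
    simp only [Bool.or_eq_true, decide_eq_true_eq, Bool.and_eq_true, Bool.not_eq_true', List.mem_cons,
      List.not_mem_nil, or_false] at h
    rw [← Bool.and_eq_true]
    rcases h with (rfl | rfl | rfl | rfl | rfl | rfl | rfl | rfl | rfl | rfl | rfl) | ⟨h1, h2⟩
    exacts [key_ZM12_0, key_ZM12_1, key_ZM12_2, key_ZM12_3, key_ZM12_4, key_ZM12_5, key_ZM12_6, key_ZM12_7, key_ZM12_8, key_ZM12_9, key_ZM12_10,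
      by simp [okZ, okM, List.isEmpty_iff.mp h1, h2]]

theorem plans192_ok :
    ∀ P ∈ plans192, okY 192 P = true ∧ okS 192 tabS192 P = true ∧ okZ 192 tabZ192 P = true ∧ okM P = true := by
  intro P hP
  refine ⟨List.all_eq_true.mp key_Y192 P hP, ?_, ?_⟩
  · have h : plans192.all (okS 192 tabS192) = true := by
      simp only [plans192, List.all_append, key_S192_0, key_S192_1, key_S192_2, key_S192_3, key_S192_4, key_S192_5,
        key_S192_6, key_S192_7, Bool.and_self]
    exact List.all_eq_true.mp h P hP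
  · have h := List.all_eq_true.mp key_live192 P hP
    simp only [Bool.or_eq_true, decide_eq_true_eq, Bool.and_eq_true, Bool.not_eq_true', List.mem_cons,
      List.not_mem_nil, or_false] at h
    rw [← Bool.and_eq_true]
    rcases h with (rfl | rfl | rfl | rfl) | ⟨h1, h2⟩
    exacts [key_ZM192_0, key_ZM192_1, key_ZM192_2, key_ZM192_3,
      by simp [okZ, okM, List.isEmpty_iff.mp h1, h2]]

theorem base_of_key {canon : List (List Ent)} {plans : List Plan}
    (h : ((plans.map Plan.base == canon) && decide ((plans.all fun P => P.es.isPerm P.base) = true)) = true) :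
    (∀ e ∈ canon, ∃ P ∈ plans, P.base = e) ∧ ∀ P ∈ plans, P.es.Perm P.base := by
  rw [Bool.and_eq_true, beq_iff_eq, decide_eq_true_eq, List.all_eq_true] at h
  exact ⟨fun e he => List.mem_map.mp (h.1 ▸ he), fun P hP => List.isPerm_iff.mp (h.2 P hP)⟩

variable {G : Type u} [Group G] [Fintype G] [IsSimpleGroup G]
  [Fact (Nat.Prime 5)] [Fact (Nat.Prime 7)] [Fact (Nat.Prime 11)] [Fact (Nat.Prime 23)]

/-- **Step 4 for `|N(P₇) : C(P₇)| = 3`.** -/
theorem exists_deg23_of_three (T23 : Ctx G 23 1) (he23 : T23.D.e = 11) (T11 : Ctx G 11 1) (he11 : T11.D.e = 10)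
    {k5 k7 : ℕ} (hk5 : k5 ∈ ks5) (B5 : Blk G 5 ⟨5, k5, 4, [1771, -2024, -5544, 5796], none⟩)
    (hk7 : k7 ∈ [384, 48, 6]) (B7 : Blk G 7 ⟨7, k7, 3, [-1035, 2024], some 990⟩) {χ : IrrCharacter G}
    (hχ5 : χ ∈ B5.xl) (hχ7 : χ ∈ B7.xl) (hdeg : deg χ = 2024) : ∃ ξ : IrrCharacter G, deg ξ = 23 := by
  by_contra hno
  obtain ⟨M⟩ := exists_members key_degs T23 he23 T11 he11 B5 B7 hχ5 hχ7 hdeg fun ξ h => hno ⟨ξ, h⟩
  haveI : Fact (Nat.Prime 2) := ⟨Nat.prime_two⟩
  obtain ⟨z, hz, hz7⟩ := exists_commuting (r := 2) B7.T (by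
    simp only [List.mem_cons, List.not_mem_nil, or_false] at hk7
    rcases hk7 with rfl | rfl | rfl <;> norm_num)
  have small : ∀ {tab : List (ℕ × Tup)}, tab = [] → checkTups k5 true 5 tab = true → False := fun {tab} h0 hT => by
    obtain ⟨s, hs2, hs5, hsN, -⟩ := exists_invol_nor M.B11.T M.B11.e_eq
    have := M.tup_mem (spec := true) hs2 (fun _ => hsN) (mem_centsP M.card_G T23 M.B11.T hs2 hs5) hT
    rw [h0] at this
    exact List.not_mem_nil this
  simp only [ks5, List.mem_cons, List.not_mem_nil, or_false] at hk5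
  rcases hk5 with rfl | rfl | rfl | rfl
  · obtain ⟨hb, hp⟩ := base_of_key key_base192
    exact false_of_members M T23 hz hz7 key_lists key_tabS192 key_tabZ192 hb hp plans192_ok
  · exact small rfl key_tabS32
  · obtain ⟨hb, hp⟩ := base_of_key key_base12
    exact false_of_members M T23 hz hz7 key_lists key_tabS12 key_tabZ12 hb hp plans12_ok
  · exact small rfl key_tabS2

end CfsgLib.M24Order.E3
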