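import Cfsg.Agent.Lib.M24Order.Char4e3
import Cfsg.Agent.Lib.M24Order.E6.Reduce
import Cfsg.Agent.Lib.M24Order.Char11
import Cfsg.Agent.Lib.M24Order.CharFiveSeven

/-!
# Simple groups of order 244823040: a character of degree 23
-/

set_option autoImplicit false
set_option linter.unusedSectionVars false
set_option linter.style.haveILetI false

namespace CfsgLib.M24Order

open Cfsg
open CfsgLib CfsgLib.BrauerTuan CfsgLib.OrderBlocks

universe u

variable {G : Type u} [Group G] [Fintype G] [IsSimpleGroup G]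

/-- **A character of degree 23, from the computations for `|N(P₇) : C(P₇)| = 6`.** -/
theorem exists_deg23_of (hcases : ∀ com ∈ [22, 3520], ∀ k5 ∈ ks5, E6.CaseOK com k5) (hn : Nat.card G = 244823040) :
    ∃ ξ : IrrCharacter G, deg ξ = 23 := by
  haveI : Fact (Nat.Prime 5) := ⟨by norm_num⟩
  haveI : Fact (Nat.Prime 7) := ⟨by norm_num⟩
  haveI : Fact (Nat.Prime 11) := ⟨by norm_num⟩
  haveI : Fact (Nat.Prime 23) := ⟨by norm_num⟩
  obtain ⟨T23, he23⟩ := exists_twentythree hn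
  obtain ⟨T11, he11⟩ := exists_eleven hn T23 he23
  obtain ⟨k5, hk5, B5, χ, hχ5, -, hdeg, h⟩ := exists_five_seven hn T23 he23 T11 he11
  rcases h with ⟨k7, hk7, B7, hχ7, -⟩ | ⟨r, hr, k7, hk7, B7, hχ7, hσ⟩
  · exact E3.exists_deg23_of_three T23 he23 T11 he11 hk5 B5 hk7 B7 hχ5 hχ7 hdeg
  · exact E6.exists_deg23_of_cases E3.key_degs hcases T23 he23 T11 he11 hk5 B5 hr hk7 B7 hχ5 hχ7 hdeg hσ

end CfsgLib.M24Order
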