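import Cfsg.Prelude.Def_Characters
import Mathlib

/-!
# Simple groups of order 244823040: the character input of the local analysis, short form
-/

set_option autoImplicit false

namespace CfsgLib.M24Order

open Cfsg

universe u

/-- The Sylow data of orders 11 and 23 and a character of degree 23 in a simple group of order
244823040. -/
structure Core (G : Type u) [Group G] [Finite G] : Prop where
  card : Nat.card G = 244823040
  cen_eleven : ∀ r : G, orderOf r = 11 → Nat.card (Subgroup.centralizer ({r} : Set G)) = 11
  cen_twentythree : ∀ v : G, orderOf v = 23 → Nat.card (Subgroup.centralizer ({v} : Set G)) = 23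
  nor_eleven : ∀ r : G, orderOf r = 11 →
    Nat.card (Subgroup.normalizer (Subgroup.zpowers r : Set G)) = 110
  nor_twentythree : ∀ v : G, orderOf v = 23 →
    Nat.card (Subgroup.normalizer (Subgroup.zpowers v : Set G)) = 253
  exists_char : ∃ χ : IrrCharacter G, (χ : G → ℂ) 1 = 23 ∧
    (∀ g : G, orderOf g = 11 → (χ : G → ℂ) g = 1) ∧
    (∀ g : G, orderOf g = 5 → ∃ k : ℤ, (χ : G → ℂ) g = k)

end CfsgLib.M24Order
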