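import Cfsg.Agent.Lib.M24Order.Char11
import Cfsg.Agent.Lib.M24Order.Core
import Cfsg.Agent.Lib.OrderBlocks.Tools

/-!
# Simple groups of order 244823040: the short form of the character input, from a degree 23
-/

set_option autoImplicit false
set_option linter.unusedSectionVars false
set_option linter.style.haveILetI false

namespace CfsgLib.M24Order

open Cfsg
open scoped ComplexConjugate CfsgLib.Char
open CfsgLib CfsgLib.BrauerTuan CfsgLib.OrderBlocks
open scoped _root_.Classical

universe u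

variable {G : Type u} [Group G] [Fintype G] [IsSimpleGroup G] {p : ℕ} [Fact p.Prime] {k : ℕ}

theorem sylow_eq_zpowers (T : Ctx G p k) {w : G} (hw : orderOf w = p) :
    ∃ S : Sylow p G, (S : Subgroup G) = Subgroup.zpowers w := by
  obtain ⟨S, hS⟩ := (IsPGroup.of_card (n := 1) (p := p)
    (by rw [Nat.card_zpowers, hw, pow_one] : Nat.card (Subgroup.zpowers w) = p ^ 1)).exists_le_sylow
  refine ⟨S, (Subgroup.eq_of_le_of_card_ge hS ?_).symm⟩
  obtain ⟨a, ha⟩ := MulAction.exists_smul_eq G T.P S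
  rw [← ha, Sylow.coe_subgroup_smul, Nat.card_zpowers, hw]
  exact le_of_eq ((Nat.card_congr (Subgroup.equivSMul _ _).toEquiv).symm.trans T.card_P)

theorem exists_conj_mem_P (T : Ctx G p k) {w : G} (hw : orderOf w = p) : ∃ a : G, a * w * a⁻¹ ∈ (T.P : Subgroup G) := by
  obtain ⟨S, hS⟩ := sylow_eq_zpowers T hw
  obtain ⟨a, ha⟩ := MulAction.exists_smul_eq G S T.P
  refine ⟨a, ?_⟩
  rw [← ha, Sylow.smul_def]
  exact Subgroup.mem_map_of_mem _ (hS ▸ Subgroup.mem_zpowers w)

/-- The order of the normaliser of a subgroup of order `p`. -/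
theorem card_nor (T : Ctx G p k) {w : G} (hw : orderOf w = p) :
    Nat.card (Subgroup.normalizer (Subgroup.zpowers w : Set G)) = T.D.e * (p * k) := by
  obtain ⟨S, hS⟩ := sylow_eq_zpowers T hw
  have h1 := (Subgroup.normalizer ((S : Subgroup G) : Set G)).card_mul_index
  have h2 := (Subgroup.normalizer ((T.P : Subgroup G) : Set G)).card_mul_index
  rw [show (Subgroup.normalizer ((S : Subgroup G) : Set G)).index = Nat.card (Sylow p G) from
    S.card_eq_index_normalizer.symm] at h1
  rw [show (Subgroup.normalizer ((T.P : Subgroup G) : Set G)).index = Nat.card (Sylow p G) from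
    T.P.card_eq_index_normalizer.symm, card_normalizer T, ← h1] at h2
  rw [← hS]
  exact (Nat.eq_of_mul_eq_mul_right Nat.card_pos h2).symm

/-- With `|N(P) : C(P)| = 4` an element of order `5` is conjugate to its prime-to-`5` powers. -/
theorem isConj_pow_five [Fact (Nat.Prime 5)] (T : Ctx G 5 k) (he : T.D.e = 4) {y : G} (hy : y ∈ (T.P : Subgroup G))
    {j : ℕ} (hj : j.Coprime 5) : IsConj y (y ^ j) := by
  haveI : IsCyclic (T.P : Subgroup G) := isCyclic_of_prime_card T.card_P
  haveI : Finite (MulAut (T.P : Subgroup G)) :=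
    Finite.of_equiv _ (IsCyclic.mulAutMulEquiv (T.P : Subgroup G)).symm.toEquiv
  obtain ⟨φ, hφ⟩ : ∃ φ, φ = Subgroup.normalizerMonoidHom (T.P : Subgroup G) := ⟨_, rfl⟩
  have hr : φ.range = ⊤ := by
    refine Subgroup.eq_top_of_card_eq _ ?_
    rw [← Subgroup.index_ker, hφ, Subgroup.normalizerMonoidHom_ker]
    rw [index_cent T, he, Nat.card_congr (IsCyclic.mulAutMulEquiv (T.P : Subgroup G)).toEquiv,
      T.card_P, Nat.card_eq_fintype_card, ZMod.card_units_eq_totient, Nat.totient_prime (by norm_num)]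
  have hco : (Nat.card (T.P : Subgroup G)).Coprime j := by rw [T.card_P]; exact hj.symm
  have hhom : ∀ a b : (T.P : Subgroup G), (a * b) ^ j = a ^ j * b ^ j := fun a b => by
    letI := IsCyclic.commGroup (α := (T.P : Subgroup G))
    exact mul_pow a b j
  obtain ⟨α, hα⟩ : ∃ α : MulAut (T.P : Subgroup G), ∀ a, α a = a ^ j :=
    ⟨{ powCoprime hco with map_mul' := hhom }, fun a => rfl⟩
  obtain ⟨g, hg⟩ := (hr ▸ Subgroup.mem_top α : α ∈ φ.range)
  refine isConj_iff.mpr ⟨(g : G), ?_⟩
  have := congrArg Subtype.val (DFunLike.congr_fun hg ⟨y, hy⟩)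
  rw [hφ, hα, SubmonoidClass.coe_pow] at this
  exact this

/-- A character has integral values at the elements of order `5`, if `|N(P) : C(P)| = 4`. -/
theorem int_value_five [Fact (Nat.Prime 5)] (T : Ctx G 5 k) (he : T.D.e = 4) (χ : IrrCharacter G) {g : G}
    (hg : orderOf g = 5) : ∃ a : ℤ, (χ : G → ℂ) g = a := by
  refine exists_int_of_fix (Char.isCharacter_of_isIrr χ.2) fun j hj => ?_
  obtain ⟨a, ha⟩ := exists_conj_mem_P T hg
  have hj5 : j.Coprime 5 := Nat.Coprime.coprime_dvd_right (by rw [T.card_eq]; norm_num) hj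
  obtain ⟨c, hc⟩ := isConj_iff.mp (isConj_pow_five T he ha hj5)
  have hcl := Char.isClassFunction_of_isCharacter (Char.isCharacter_of_isIrr χ.2)
  rw [conj_pow] at hc
  calc (χ : G → ℂ) (g ^ j) = (χ : G → ℂ) (a * g ^ j * a⁻¹) := (hcl _ _).symm
    _ = (χ : G → ℂ) (c * (a * g * a⁻¹) * c⁻¹) := by rw [hc]
    _ = (χ : G → ℂ) g := (hcl _ _).trans (hcl _ _)

/-- **The short form of the character input from a character of degree 23.** -/
theorem core_of_char [Fact (Nat.Prime 5)] [Fact (Nat.Prime 11)] [Fact (Nat.Prime 23)]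
    (hn : Nat.card G = 244823040) (T23 : Ctx G 23 1) (he23 : T23.D.e = 11) (T11 : Ctx G 11 1)
    (he11 : T11.D.e = 10) {k5 : ℕ} (T5 : Ctx G 5 k5) (he5 : T5.D.e = 4) {χ : IrrCharacter G} (hd : deg χ = 23) :
    Core G where
  card := hn
  cen_eleven r hr := by
    have h := cC_of_ctx T11 hr
    rwa [cC, mul_one] at h
  cen_twentythree v hv := by
    have h := cC_of_ctx T23 hv
    rwa [cC, mul_one] at h
  nor_eleven r hr := by rw [card_nor T11 hr, he11]
  nor_twentythree v hv := by rw [card_nor T23 hv, he23]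
  exists_char := by
    refine ⟨χ, by rw [value_one', hd]; norm_num, fun g hg => ?_, fun g hg => int_value_five T5 he5 χ hg⟩
    obtain ⟨xs, y, hf, ⟨B⟩⟩ := exists_blk T11 (e := 10) he11 rfl (fun _ => true) fun _ _ _ _ _ => rfl
    obtain ⟨rfl, -, -⟩ := hf.one (by norm_num)
    have hχ : χ ∈ B.xl := by
      have h := B.mem_of_not_dvd rfl (χ := χ)
        (fun e => by rw [e, deg_triv] at hd; norm_num at hd) (by rw [hd]; norm_num)
      rwa [B.yl_none rfl, List.append_nil] at h
    have hm := fastX_mod (List.mem_filter.mp (hf.mem _ ((congrArg (fun l : List ℤ => B.σ χ * (deg χ : ℤ) ∈ l)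
      B.xs_eq).mpr (List.mem_map.mpr ⟨χ, hχ, rfl⟩)))).1
    have hσ : B.σ χ = 1 := by
      rw [hd] at hm
      rcases B.σ_unit hχ with e | e <;> rw [e] at hm ⊢ <;> omega
    obtain ⟨a, ha⟩ := exists_conj_mem_P B.T hg
    have hne : a * g * a⁻¹ ≠ 1 := fun e => by
      rw [mul_inv_eq_one, mul_eq_left] at e
      rw [e, orderOf_one] at hg
      norm_num at hg
    rw [← Char.isClassFunction_of_isCharacter (Char.isCharacter_of_isIrr χ.2) g a, B.value_P hχ ha hne, hσ]
    norm_num

end CfsgLib.M24Order
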