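import Cfsg.Agent.Lib.OrderBlocks.Section
import Cfsg.Agent.Lib.OrderBlocks.Average

/-!
# Two primes: the orthogonality of the sections

If no element has order divisible by `p q`, the principal blocks for `p` and `q` satisfy `1 + Σ σ w = 0`,
where `w` is the average over the sections of `q`.
-/

set_option autoImplicit false
set_option linter.unusedSectionVars false
set_option linter.style.haveILetI false

namespace CfsgLib.M24Order

open Cfsg
open scoped ComplexConjugate CfsgLib.Char
open CfsgLib CfsgLib.BrauerTuan CfsgLib.OrderBlocks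
open scoped _root_.Classical

universe u

variable {G : Type u} [Group G] [Fintype G] [IsSimpleGroup G] {p q : ℕ} [Fact p.Prime] [Fact q.Prime]
  {n Bd : ℕ} {qs : List ℕ} {o o' : Opt}

/-- The average of a character over the sections of `v`, with respect to a block. -/
noncomputable def avgAt (B' : PBlk G n qs Bd q o') (v : G) (χ : IrrCharacter G) : ℂ :=
  if χ ∈ B'.xl then (B'.σ χ : ℂ) else if χ ∈ B'.yl then (χ : G → ℂ) v else 0

theorem regs_card_eq (B : PBlk G n qs Bd p o) : (regs B.T.P).card = o.k :=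
  Nat.eq_of_mul_eq_mul_left (Fact.out : p.Prime).pos ((card_regs B.T.P B.T.card_P).trans B.T.card_C)

/-- The sum of a character over the sections, by membership. -/
theorem sum_sections_eq (B : PBlk G n qs Bd p o) {v : G} (hv : v ∈ (B.T.P : Subgroup G)) (hv1 : v ≠ 1)
    {χ : IrrCharacter G} (hne : χ ≠ Blocks.trivIrr G) :
    ∑ y ∈ regs B.T.P, (χ : G → ℂ) (v * y) = (o.k : ℂ) * avgAt B v χ := by
  unfold avgAt
  split_ifs with h1 h2
  · rw [Finset.sum_congr rfl fun y hy => B.sec h1 hv hv1 (mem_regs.mp hy).1 (mem_regs.mp hy).2,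
      Finset.sum_const, regs_card_eq B, nsmul_eq_mul]
  · rw [Finset.sum_congr rfl fun y hy => B.sec_y χ h2 v hv hv1 y (mem_regs.mp hy).1 (mem_regs.mp hy).2,
      Finset.sum_const, regs_card_eq B, nsmul_eq_mul]
  · have hnot : χ ∉ Blocks.trivIrr G :: (B.xl ++ B.yl) := by simp [hne, h1, h2]
    rw [sum_section_eq_zero B.T.P B.T.card_P B.T.D (fun h => hnot (B.cover χ (Finset.mem_union_left _ h)))
      (fun h => hnot (B.cover χ (Finset.mem_union_right _ h))) hv hv1, mul_zero]

/-- The orthogonality of the sections of two primes. -/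
theorem cross_sum (B : PBlk G n qs Bd p o) (hy : o.y = none) (B' : PBlk G n qs Bd q o') (hpq : p ≠ q)
    (hk : ¬ q ∣ o.k) {v' : G} (hv' : v' ∈ (B'.T.P : Subgroup G)) (hv1' : v' ≠ 1) :
    1 + (B.xl.map fun χ => (B.σ χ : ℂ) * avgAt B' v' χ).sum = 0 := by
  have hp : p.Prime := Fact.out
  have hq : q.Prime := Fact.out
  obtain ⟨v, hv, hv1⟩ := M12Order.exists_ne_one_P B.T
  have hz : ∀ y ∈ regs B.T.P, ∀ y' ∈ regs B'.T.P, ¬ IsConj (v' * y') (v * y) := by
    intro y hy y' hy' hc
    obtain ⟨a, ha⟩ := isConj_iff.mp hc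
    have h1 : orderOf (v * y) ∣ p * o.k := by
      have hle : v * y ∈ Subgroup.centralizer ((B.T.P : Subgroup G) : Set G) := by
        refine mul_mem (Subgroup.mem_centralizer_iff.mpr fun c hc => ?_) (mem_regs.mp hy).1
        haveI : IsCyclic (B.T.P : Subgroup G) := isCyclic_of_prime_card B.T.card_P
        exact congrArg Subtype.val ((IsCyclic.commGroup (α := (B.T.P : Subgroup G))).mul_comm ⟨c, hc⟩ ⟨v, hv⟩)
      have h := orderOf_dvd_natCard (⟨v * y, hle⟩ : Subgroup.centralizer ((B.T.P : Subgroup G) : Set G))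
      rwa [B.T.card_C, Subgroup.orderOf_mk] at h
    have h2 : q ∣ orderOf (v' * y') := by
      obtain ⟨hyC, hyr⟩ := mem_regs.mp hy'
      have hvo := orderOf_of_mem B'.T.card_P hv' hv1'
      rw [(show Commute v' y' from Subgroup.mem_centralizer_iff.mp hyC v' hv').orderOf_mul_eq_mul_orderOf_of_coprime
        (by rw [hvo]; exact (Nat.Prime.coprime_iff_not_dvd hq).mpr hyr), hvo]
      exact dvd_mul_right _ _
    rw [← show orderOf (a * (v' * y') * a⁻¹) = orderOf (v' * y') from (MulAut.conj a).orderOf_eq _, ha] at h2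
    rcases hq.dvd_mul.mp (h2.trans h1) with h | h
    · exact hpq ((Nat.prime_dvd_prime_iff_eq hq hp).mp h).symm
    · exact hk h
  have hall : ∑ χ : IrrCharacter G,
      (∑ y' ∈ regs B'.T.P, (χ : G → ℂ) (v' * y')) * conj (∑ y ∈ regs B.T.P, (χ : G → ℂ) (v * y)) = 0 := by
    simp only [map_sum, Finset.sum_mul_sum]
    rw [Finset.sum_comm]
    refine Finset.sum_eq_zero fun y' hy' => ?_
    rw [Finset.sum_comm]
    refine Finset.sum_eq_zero fun y hy => ?_
    rw [Char.column_orthogonality, if_neg (hz y hy y' hy')]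
  have hyl := B.yl_none hy
  have hnd : (Blocks.trivIrr G :: B.xl).Nodup := by
    have h := B.nodup
    rwa [hyl, List.append_nil] at h
  have hsum : ∑ χ : IrrCharacter G,
      (∑ y' ∈ regs B'.T.P, (χ : G → ℂ) (v' * y')) * conj (∑ y ∈ regs B.T.P, (χ : G → ℂ) (v * y)) =
      ((Blocks.trivIrr G :: B.xl).map fun χ : IrrCharacter G =>
        (∑ y' ∈ regs B'.T.P, (χ : G → ℂ) (v' * y')) * conj (∑ y ∈ regs B.T.P, (χ : G → ℂ) (v * y))).sum := by
    rw [← List.sum_toFinset _ hnd]
    refine (Finset.sum_subset (Finset.subset_univ _) fun χ _ hχ => ?_).symm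
    rw [List.mem_toFinset, List.mem_cons, not_or] at hχ
    rw [sum_sections_eq B hv hv1 hχ.1, avgAt, if_neg hχ.2, if_neg (by rw [hyl]; exact List.not_mem_nil)]
    simp
  rw [hsum, List.map_cons, List.sum_cons] at hall
  have htr : ∀ s : Finset G, ∀ f : G → G,
      ∑ y ∈ s, ((Blocks.trivIrr G : IrrCharacter G) : G → ℂ) (f y) = (s.card : ℂ) := fun s f => by
    simp [Blocks.trivIrr]
  rw [htr, htr, regs_card_eq B, regs_card_eq B', map_natCast,
    List.map_congr_left (g := fun χ => ((o'.k : ℂ) * (o.k : ℂ)) * ((B.σ χ : ℂ) * avgAt B' v' χ)) fun χ hχ => by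
      rw [sum_sections_eq B' hv' hv1' (B.ne_triv (List.mem_append_left _ hχ)),
        sum_sections_eq B hv hv1 (B.ne_triv (List.mem_append_left _ hχ)),
        show avgAt B v χ = (B.σ χ : ℂ) from if_pos hχ, map_mul, map_natCast, map_intCast]
      ring,
    List.sum_map_mul_left, ← mul_one_add] at hall
  refine (mul_eq_zero.mp hall).resolve_left (mul_ne_zero ?_ ?_)
  · exact Nat.cast_ne_zero.mpr (by rw [← regs_card_eq B']; exact (Finset.card_pos.mpr ⟨1, one_mem_regs _⟩).ne')
  · exact Nat.cast_ne_zero.mpr (by rw [← regs_card_eq B]; exact (Finset.card_pos.mpr ⟨1, one_mem_regs _⟩).ne')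

end CfsgLib.M24Order
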