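import Cfsg.Agent.Lib.OrderBlocks.Section

/-!
# Pairs of conjugate involutions with product in a section

With `M` the conjugates of an involution that invert `v`, the pairs with product in `v · C(P)_{p'}` are
`|M|² / p` in number, as `C(P)` is the product of `P` and its regular elements.
-/

set_option autoImplicit false
set_option linter.unusedSectionVars false
set_option linter.style.haveILetI false

namespace CfsgLib.M24Order

open Cfsg
open scoped ComplexConjugate CfsgLib.Char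
open CfsgLib CfsgLib.BrauerTuan CfsgLib.OrderBlocks
open scoped _root_.Classical

universe u

variable {G : Type u} [Group G] [Fintype G] {p : ℕ} [Fact p.Prime]

theorem commute_of_mem {P : Sylow p G} (hP : Nat.card (P : Subgroup G) = p) {a b : G}
    (ha : a ∈ (P : Subgroup G)) (hb : b ∈ (P : Subgroup G)) : a * b = b * a := by
  haveI : IsCyclic (P : Subgroup G) := isCyclic_of_prime_card hP
  exact congrArg Subtype.val ((IsCyclic.commGroup (α := (P : Subgroup G))).mul_comm ⟨a, ha⟩ ⟨b, hb⟩)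

/-- The factorisation of `C(P)` is unique. -/
theorem decomp_unique {P : Sylow p G} (hP : Nat.card (P : Subgroup G) = p) {w w' y y' : G}
    (hw : w ∈ (P : Subgroup G)) (hw' : w' ∈ (P : Subgroup G)) (hy : y ∈ regs P) (hy' : y' ∈ regs P)
    (h : w * y = w' * y') : w = w' ∧ y = y' := by
  obtain ⟨hyC, hyr⟩ := mem_regs.mp hy
  obtain ⟨hyC', hyr'⟩ := mem_regs.mp hy'
  have hpow : ∀ {a : G}, a ∈ (P : Subgroup G) → ∃ j : ℕ, orderOf a = p ^ j := fun {a} ha => by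
    have h1 : orderOf a ∣ p := by
      have h2 := orderOf_dvd_natCard (⟨a, ha⟩ : (P : Subgroup G))
      rwa [hP, Subgroup.orderOf_mk] at h2
    rcases (Nat.dvd_prime Fact.out).mp h1 with e | e
    · exact ⟨0, by rw [e, pow_zero]⟩
    · exact ⟨1, by rw [e, pow_one]⟩
  have e1 := Blocks.isPPart_mul (p := p) (show Commute w y from Subgroup.mem_centralizer_iff.mp hyC w hw)
    (hpow hw) hyr
  rw [h] at e1
  have hww : w = w' := Blocks.IsPPart.unique (Fact.out : p.Prime) e1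
    (Blocks.isPPart_mul (p := p) (show Commute w' y' from Subgroup.mem_centralizer_iff.mp hyC' w' hw')
      (hpow hw') hyr')
  exact ⟨hww, mul_left_cancel (a := w) (by rw [h, hww])⟩

/-- Every element of `C(P)` is a product of an element of `P` and a regular one. -/
theorem exists_decomp {P : Sylow p G} (hP : Nat.card (P : Subgroup G) = p) {x : G}
    (hx : x ∈ Subgroup.centralizer ((P : Subgroup G) : Set G)) :
    ∃ w ∈ (P : Subgroup G), ∃ y ∈ regs P, x = w * y := by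
  have hle : ∀ w ∈ (P : Subgroup G), w ∈ Subgroup.centralizer ((P : Subgroup G) : Set G) := fun w hw =>
    Subgroup.mem_centralizer_iff.mpr fun c hc => commute_of_mem hP hc hw
  let φ : ↥(P : Subgroup G) × ↥(regs P) → Subgroup.centralizer ((P : Subgroup G) : Set G) := fun q =>
    ⟨(q.1 : G) * (q.2 : G), mul_mem (hle _ q.1.2) (mem_regs.mp q.2.2).1⟩
  have hinj : Function.Injective φ := fun a b h => by
    obtain ⟨h1, h2⟩ := decomp_unique hP a.1.2 b.1.2 a.2.2 b.2.2 (congrArg Subtype.val h)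
    exact Prod.ext (Subtype.ext h1) (Subtype.ext h2)
  have hb : Function.Bijective φ := (Nat.bijective_iff_injective_and_card φ).mpr ⟨hinj, by
    rw [Nat.card_prod, hP, Nat.card_eq_fintype_card, Fintype.card_coe]
    exact card_regs P hP⟩
  obtain ⟨⟨w, y⟩, h⟩ := hb.2 ⟨x, hx⟩
  exact ⟨w, w.2, y, y.2, (congrArg Subtype.val h).symm⟩

/-- The pairs of conjugates of `z` with product in the sections of `v`. -/
theorem sum_pairs {P : Sylow p G} (hP : Nat.card (P : Subgroup G) = p) (hp2 : p ≠ 2) {z v : G} (hzz : z * z = 1)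
    (hv : v ∈ (P : Subgroup G)) (hv1 : v ≠ 1) :
    (∑ y ∈ regs P, Nat.card {pr : G × G // IsConj z pr.1 ∧ IsConj z pr.2 ∧ pr.1 * pr.2 = v * y}) * p =
      Nat.card {g : G // IsConj z g ∧ g * v * g = v⁻¹} * Nat.card {g : G // IsConj z g ∧ g * v * g = v⁻¹} := by
  have hp : p.Prime := Fact.out
  obtain ⟨q, hq⟩ : ∃ q, p = 2 * q + 1 := ⟨p / 2, by
    have := hp.two_le
    rcases hp.eq_two_or_odd with h | h <;> omega⟩
  have hsq : ∀ {g : G}, IsConj z g → g * g = 1 := fun {g} hg => by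
    obtain ⟨c, rfl⟩ := isConj_iff.mp hg
    calc c * z * c⁻¹ * (c * z * c⁻¹) = c * (z * z) * c⁻¹ := by group
      _ = 1 := by rw [hzz]; group
  have hinvP : ∀ {g : G}, IsConj z g → g * v * g = v⁻¹ → ∀ w ∈ (P : Subgroup G), g * w = w⁻¹ * g :=
    fun {g} hg hgv w hw => by
      have h := (mem_normalizer_of_inverts hP hv hv1 (hsq hg) hgv).2 w hw
      rw [← h, mul_assoc, hsq hg, mul_one]
  have hvo := orderOf_of_mem hP hv hv1
  have hsec : ∀ {y g₁ g₂ : G}, y ∈ regs P → IsConj z g₁ → IsConj z g₂ → g₁ * g₂ = v * y →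
      g₁ * v * g₁ = v⁻¹ ∧ g₂ * v * g₂ = v⁻¹ := fun {y g₁ g₂} hy h1 h2 h3 => by
    obtain ⟨hyC, hyr⟩ := mem_regs.mp hy
    have hc : Commute v y := Subgroup.mem_centralizer_iff.mp hyC v hv
    refine ⟨(inverts_of_pair hzz h1 h2 h3 hc hvo hyr).2, ?_⟩
    have h4 : g₂ * g₁ = v⁻¹ * y⁻¹ := by
      rw [← (Commute.inv_inv hc).eq.symm, ← mul_inv_rev, ← h3, mul_inv_rev,
        inv_eq_of_mul_eq_one_right (hsq h1), inv_eq_of_mul_eq_one_right (hsq h2)]
    have h5 := (inverts_of_pair hzz h2 h1 h4 (Commute.inv_inv hc) (by rw [orderOf_inv, hvo])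
      (by rw [orderOf_inv]; exact hyr)).2
    rw [inv_inv] at h5
    have h6 := congrArg (·⁻¹) h5
    simp only [mul_inv_rev, inv_inv, inv_eq_of_mul_eq_one_right (hsq h2)] at h6
    rwa [← mul_assoc] at h6
  let Φ : (Σ y : ↥(regs P), {pr : G × G // IsConj z pr.1 ∧ IsConj z pr.2 ∧ pr.1 * pr.2 = v * y}) ×
      ↥(P : Subgroup G) → {g : G // IsConj z g ∧ g * v * g = v⁻¹} × {g : G // IsConj z g ∧ g * v * g = v⁻¹} :=
    fun a => (⟨a.1.2.1.1, a.1.2.2.1, (hsec a.1.1.2 a.1.2.2.1 a.1.2.2.2.1 a.1.2.2.2.2).1⟩,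
      ⟨(a.2 : G) * a.1.2.1.2 * (a.2 : G)⁻¹, a.1.2.2.2.1.trans (isConj_iff.mpr ⟨a.2, rfl⟩), by
        have h := (hsec a.1.1.2 a.1.2.2.1 a.1.2.2.2.1 a.1.2.2.2.2).2
        have hs : (a.2 : G)⁻¹ * v = v * (a.2 : G)⁻¹ := commute_of_mem hP (inv_mem a.2.2) hv
        calc (a.2 : G) * a.1.2.1.2 * (a.2 : G)⁻¹ * v * ((a.2 : G) * a.1.2.1.2 * (a.2 : G)⁻¹)
            = (a.2 : G) * a.1.2.1.2 * ((a.2 : G)⁻¹ * v) * (a.2 : G) * a.1.2.1.2 * (a.2 : G)⁻¹ := by group
          _ = (a.2 : G) * (a.1.2.1.2 * v * a.1.2.1.2) * (a.2 : G)⁻¹ := by rw [hs]; group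
          _ = v⁻¹ := by
            rw [h, commute_of_mem hP a.2.2 (inv_mem hv), mul_assoc, mul_inv_cancel, mul_one]⟩)
  have hΦ : Function.Bijective Φ := by
    constructor
    · rintro ⟨⟨⟨y, hy⟩, ⟨⟨g₁, g₂⟩, h1, h2, h3⟩⟩, ⟨s, hs⟩⟩ ⟨⟨⟨y', hy'⟩, ⟨⟨g₁', g₂'⟩, h1', h2', h3'⟩⟩, ⟨s', hs'⟩⟩ h
      simp only [Φ, Prod.mk.injEq, Subtype.mk.injEq] at h
      obtain ⟨rfl, h⟩ := h
      simp only at h1 h2 h3 h1' h2' h3'
      have key : ∀ {y g₂ s : G}, y ∈ regs P → IsConj z g₂ → g₁ * g₂ = v * y → s ∈ (P : Subgroup G) →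
          g₁ * (s * g₂ * s⁻¹) = v * s⁻¹ * s⁻¹ * y := fun {y g₂ s} hy h2 h3 hs => by
        have hi := (hinvP h2 (hsec hy h1 h2 h3).2 s⁻¹ (inv_mem hs))
        rw [inv_inv] at hi
        rw [mul_assoc s g₂, hi, ← mul_assoc g₁, hinvP h1 (hsec hy h1 h2 h3).1 s hs, mul_assoc s⁻¹, ← mul_assoc g₁,
          hinvP h1 (hsec hy h1 h2 h3).1 s hs, mul_assoc s⁻¹ g₁, h3,
          commute_of_mem hP hv (inv_mem hs), mul_assoc s⁻¹ v, commute_of_mem hP hv (inv_mem hs)]
        simp only [mul_assoc]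
      have e := (key hy h2 h3 hs).symm.trans ((congrArg (g₁ * ·) h).trans (key hy' h2' h3' hs'))
      obtain ⟨e1, rfl⟩ := decomp_unique hP (mul_mem (mul_mem hv (inv_mem hs)) (inv_mem hs))
        (mul_mem (mul_mem hv (inv_mem hs')) (inv_mem hs')) hy hy' e
      obtain rfl : g₂ = g₂' := mul_left_cancel (h3.trans h3'.symm)
      obtain rfl : s = s' := by
        rw [mul_assoc, mul_assoc] at e1
        have e2 := mul_left_cancel e1
        rw [← mul_inv_rev, ← mul_inv_rev, inv_inj] at e2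
        have e3 : (s * s'⁻¹) ^ 2 = 1 := by
          rw [(show Commute s s'⁻¹ from commute_of_mem hP hs (inv_mem hs')).mul_pow, pow_two, pow_two, e2]
          group
        have h5 : orderOf (s * s'⁻¹) ∣ Nat.gcd 2 p := Nat.dvd_gcd (orderOf_dvd_of_pow_eq_one e3) (by
          have h2 := orderOf_dvd_natCard (⟨s * s'⁻¹, mul_mem hs (inv_mem hs')⟩ : (P : Subgroup G))
          rwa [hP, Subgroup.orderOf_mk] at h2)
        rw [((Nat.coprime_primes Nat.prime_two hp).mpr (Ne.symm hp2)).gcd_eq_one, Nat.dvd_one,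
          orderOf_eq_one_iff, mul_inv_eq_one] at h5
        exact h5
      rfl
    · rintro ⟨⟨g₁, h1, h1v⟩, ⟨g₂, h2, h2v⟩⟩
      have hxC : g₁ * g₂ ∈ Subgroup.centralizer ((P : Subgroup G) : Set G) := by
        refine Subgroup.mem_centralizer_iff.mpr fun w hw => ?_
        rw [mul_assoc, hinvP h2 h2v w hw, ← mul_assoc g₁, hinvP h1 h1v _ (inv_mem hw), inv_inv, mul_assoc]
      obtain ⟨w, hw, y, hy, hwy⟩ := exists_decomp hP hxC
      obtain ⟨s, hs⟩ : ∃ s, s = (v * w⁻¹) ^ (q + 1) := ⟨_, rfl⟩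
      have hsP : s ∈ (P : Subgroup G) := hs ▸ Subgroup.pow_mem _ (mul_mem hv (inv_mem hw)) _
      have hss : s * s = v * w⁻¹ := by
        have hwp : (v * w⁻¹) ^ p = 1 := orderOf_dvd_iff_pow_eq_one.mp (by
          have h := orderOf_dvd_natCard (⟨v * w⁻¹, mul_mem hv (inv_mem hw)⟩ : (P : Subgroup G))
          rwa [hP, Subgroup.orderOf_mk] at h)
        rw [hs, ← pow_add, show q + 1 + (q + 1) = p + 1 by omega, pow_succ, hwp, one_mul]
      refine ⟨⟨⟨⟨y, hy⟩, ⟨(g₁, s⁻¹ * g₂ * s), h1, h2.trans (isConj_iff.mpr ⟨s⁻¹, by group⟩), ?_⟩⟩, ⟨s, hsP⟩⟩, ?_⟩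
      · show g₁ * (s⁻¹ * g₂ * s) = v * y
        rw [mul_assoc s⁻¹, hinvP h2 h2v s hsP, ← mul_assoc g₁, hinvP h1 h1v _ (inv_mem hsP), inv_inv,
          mul_assoc s, ← mul_assoc g₁, hinvP h1 h1v _ (inv_mem hsP), inv_inv, mul_assoc s g₁, hwy,
          ← mul_assoc, ← mul_assoc, hss]
        simp only [mul_assoc, inv_mul_cancel_left]
      · simp only [Φ, Prod.mk.injEq, Subtype.mk.injEq, true_and]
        group
  have h := Nat.card_eq_of_bijective Φ hΦ
  rw [Nat.card_prod, Nat.card_prod, hP, Nat.card_sigma] at h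
  rw [← h, ← Finset.sum_coe_sort (regs P)]

variable [IsSimpleGroup G] {n Bd : ℕ} {qs : List ℕ} {o : Opt}

/-- The class multiplication over the sections is a square divided by `p`. -/
theorem count_square (B : PBlk G n qs Bd p o) (hp2 : p ≠ 2) {g v : G} (hgg : g * g = 1)
    (hv : v ∈ (B.T.P : Subgroup G)) (hv1 : v ≠ 1) (V : IrrCharacter G → ℤ) (Y : ℤ)
    (hV : ∀ χ ∈ B.xl, (χ : G → ℂ) g = V χ) (hY : ∀ ψ ∈ B.yl, (ψ : G → ℂ) g = Y) :
    ∃ m : ℕ, (m = Nat.card {u : G // IsConj g u ∧ u * v * u = v⁻¹}) ∧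
      ((n * o.k * p : ℕ) : ℤ) * (tFrac o (B.xl.map V) Y).1 =
        ((m * m : ℕ) : ℤ) * ((cC g : ℤ) * (cC g : ℤ)) * (tFrac o (B.xl.map V) Y).2 := by
  refine ⟨_, rfl, ?_⟩
  have h := B.count_sections hv hv1 V Y hV hY
  rw [← sum_pairs B.T.card_P hp2 hgg hv hv1]
  push_cast at h ⊢
  linear_combination (p : ℤ) * h

end CfsgLib.M24Order
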