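import Cfsg.Agent.Lib.M24Order.Fix
import Cfsg.Agent.Lib.M24Order.Square
import Cfsg.Agent.Lib.M24Order.Cross
import Cfsg.Agent.Lib.OrderBlocks.Tools

/-!
# A self-centralising Sylow subgroup of prime order: class multiplication and values in the normaliser
-/

set_option autoImplicit false
set_option linter.unusedSectionVars false
set_option linter.style.haveILetI false

namespace CfsgLib.M24Order.E3

open Cfsg Module
open scoped ComplexConjugate CfsgLib.Char
open CfsgLib CfsgLib.BrauerTuan CfsgLib.OrderBlocks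
open scoped _root_.Classical

universe u

variable {G : Type u} [Group G] [Fintype G]

/-- An element of finite order normalising `P`, with constant values on its coset, has a value bounded by the
dimension of the fixed space. -/
theorem abs_le_of_const {p : ℕ} [Fact p.Prime] {φ : G → ℂ} (hφ : IsCharacter G φ) (P : Subgroup G)
    (hP : Nat.card P = p) {u : G} (hN : u ∈ Subgroup.normalizer (P : Set G))
    (hconst : ∀ w : P, φ ((w : G) * u) = φ u) {K : ℕ} (hK : ∑ w : P, φ (w : G) = (p : ℂ) * K) {a : ℤ}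
    (ha : φ u = a) : |a| ≤ K := by
  obtain ⟨k, ρ, rfl⟩ := hφ
  have hp0 : (p : ℂ) ≠ 0 := Nat.cast_ne_zero.mpr (Fact.out : p.Prime).ne_zero
  obtain ⟨m, hm⟩ : ∃ m, m = orderOf u := ⟨_, rfl⟩
  have hm0 : m ≠ 0 := hm ▸ (orderOf_pos u).ne'
  set E : Module.End ℂ (Fin k → ℂ) := (p : ℂ)⁻¹ • ∑ w : P, ρ (w : G) with hE
  have hEE : E * E = E := by
    rw [hE, smul_mul_smul_comm]
    have : (∑ w : P, ρ (w : G)) * (∑ w : P, ρ (w : G)) = (p : ℂ) • ∑ w : P, ρ (w : G) := by
      rw [Finset.sum_mul, Finset.sum_congr rfl (g := fun _ => ∑ w : P, ρ (w : G)) fun v _ => by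
        rw [Finset.mul_sum]
        simp only [← map_mul, ← Subgroup.coe_mul]
        exact Fintype.sum_equiv (Equiv.mulLeft v) _ _ fun w => rfl,
        Finset.sum_const, Finset.card_univ, ← Nat.card_eq_fintype_card, hP, Nat.cast_smul_eq_nsmul]
    rw [this, smul_smul, mul_assoc, inv_mul_cancel₀ hp0, mul_one]
  have hcomm : E * ρ u = ρ u * E := by
    rw [hE, smul_mul_assoc, mul_smul_comm, Finset.sum_mul, Finset.mul_sum]
    congr 1
    simp only [← map_mul]
    refine Fintype.sum_equiv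
      ({ toFun := fun w : P => ⟨u⁻¹ * (w : G) * u, (Subgroup.mem_normalizer_iff''.mp hN w).mp w.2⟩
         invFun := fun w : P => ⟨u * (w : G) * u⁻¹, (Subgroup.mem_normalizer_iff.mp hN w).mp w.2⟩
         left_inv := fun w => Subtype.ext (by simp [mul_assoc])
         right_inv := fun w => Subtype.ext (by simp [mul_assoc]) } : P ≃ P) _ _ fun w => ?_
    congr 1
    simp [mul_assoc]
  have hAt : LinearMap.trace ℂ _ (E * ρ u) = (a : ℂ) := by
    rw [hE, smul_mul_assoc, map_smul, smul_eq_mul, Finset.sum_mul, map_sum]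
    simp only [← map_mul]
    show (p : ℂ)⁻¹ * ∑ w : P, ρ.character ((w : G) * u) = _
    rw [Finset.sum_congr rfl fun w _ => hconst w, Finset.sum_const, Finset.card_univ,
      ← Nat.card_eq_fintype_card, hP, nsmul_eq_mul, inv_mul_cancel_left₀ hp0, ha]
  have hEt : LinearMap.trace ℂ _ E = (K : ℂ) := by
    rw [hE, map_smul, map_sum, smul_eq_mul]
    show (p : ℂ)⁻¹ * ∑ w : P, ρ.character (w : G) = _
    rw [hK, inv_mul_cancel_left₀ hp0]
  clear_value E
  have hum : ρ u ^ m = 1 := by rw [← map_pow, hm, pow_orderOf_eq_one, map_one]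
  -- the operators `± ρ u` on the fixed space and `1` on its complement
  have key : ∀ σ : ℂ, σ * σ = 1 → (σ * (a : ℂ) + ((k : ℂ) - K)).re ≤ k := by
    intro σ hσ
    obtain ⟨B, hB⟩ : ∃ B, B = σ • (E * ρ u) + (1 - E) := ⟨_, rfl⟩
    have h1 : (1 - E) * (1 - E) = 1 - E := by
      rw [mul_sub, mul_one, sub_mul, one_mul, hEE, sub_self, sub_zero]
    have hBpow : ∀ j : ℕ, B ^ j = σ ^ j • (E * ρ u ^ j) + (1 - E) := by
      intro j
      induction j with
      | zero => simp
      | succ j ih =>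
        have e1 : E * ρ u ^ j * (E * ρ u) = E * ρ u ^ (j + 1) := by
          have hc : Commute E (ρ u ^ j) := (show Commute E (ρ u) from hcomm).pow_right j
          rw [mul_assoc, ← mul_assoc (ρ u ^ j), ← hc.eq, ← mul_assoc, ← mul_assoc, hEE, mul_assoc, pow_succ]
        have e2 : E * ρ u ^ j * (1 - E) = 0 := by
          rw [mul_sub, mul_one, mul_assoc, ← ((show Commute E (ρ u) from hcomm).pow_right j).eq, ← mul_assoc,
            hEE, sub_self]
        have e3 : (1 - E) * (E * ρ u) = 0 := by rw [← mul_assoc, sub_mul, one_mul, hEE, sub_self, zero_mul]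
        rw [pow_succ, ih, hB, add_mul, mul_add, mul_add, smul_mul_assoc, mul_smul_comm, smul_smul, e1,
          smul_mul_assoc, e2, smul_zero, mul_smul_comm, e3, smul_zero, h1, pow_succ σ j]
        simp
    have hB1 : B ^ (2 * m) = 1 := by
      rw [hBpow, pow_mul, pow_two, hσ, one_pow, one_smul, mul_comm 2 m, pow_mul, hum, one_pow, mul_one,
        add_sub_cancel]
    obtain ⟨b, μ, hμ, hb⟩ := Char.exists_eigenBasis_of_pow_eq_one B (by omega : 2 * m ≠ 0) hB1
    have htr := Char.trace_eq_sum_of_diag b B μ hb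
    rw [hB, map_add, map_smul, map_sub, hAt, hEt, LinearMap.trace_one, smul_eq_mul] at htr
    rw [show (k : ℂ) = (finrank ℂ (Fin k → ℂ) : ℂ) by rw [Module.finrank_fin_fun], htr,
      show (k : ℝ) = (finrank ℂ (Fin k → ℂ) : ℝ) by rw [Module.finrank_fin_fun]]
    refine (Complex.re_le_norm _).trans ((norm_sum_le _ _).trans ?_)
    rw [Finset.sum_congr rfl fun i _ => Complex.norm_eq_one_of_pow_eq_one (hμ i) (by omega : 2 * m ≠ 0)]
    simp
  have k1 := key 1 (one_mul 1)
  have k2 := key (-1) (by norm_num)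
  simp only [one_mul, neg_mul, one_mul, Complex.add_re, Complex.sub_re, Complex.neg_re, Complex.intCast_re,
    Complex.natCast_re] at k1 k2
  have : (|a| : ℝ) ≤ (K : ℝ) := abs_le.mpr ⟨by linarith, by linarith⟩
  exact_mod_cast this

variable {p : ℕ} [Fact p.Prime]

/-- An element of `N(P)` outside `P = C(P)` is conjugate to all elements of its coset. -/
theorem isConj_coset {P : Sylow p G} (hP : Nat.card (P : Subgroup G) = p)
    (hC : Subgroup.centralizer ((P : Subgroup G) : Set G) = (P : Subgroup G)) {u : G}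
    (hN : u ∈ Subgroup.normalizer ((P : Subgroup G) : Set G)) (hu : u ∉ (P : Subgroup G)) {w : G}
    (hw : w ∈ (P : Subgroup G)) : ∃ s ∈ (P : Subgroup G), s * u * s⁻¹ = w * u := by
  let f : ↥(P : Subgroup G) → ↥(P : Subgroup G) := fun s => ⟨(s : G) * (u * (s : G)⁻¹ * u⁻¹),
    mul_mem s.2 ((Subgroup.mem_normalizer_iff.mp hN _).mp (inv_mem s.2))⟩
  have hinj : Function.Injective f := by
    intro s t h
    have h' : (s : G) * (u * (s : G)⁻¹ * u⁻¹) = (t : G) * (u * (t : G)⁻¹ * u⁻¹) := congrArg Subtype.val h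
    have hd : Commute ((t : G)⁻¹ * s) u := by
      have h2 : (s : G) * u * (s : G)⁻¹ = (t : G) * u * (t : G)⁻¹ := by
        have := congrArg (· * u) h'
        simpa [mul_assoc] using this
      calc (t : G)⁻¹ * s * u = (t : G)⁻¹ * ((s : G) * u * (s : G)⁻¹) * s := by group
        _ = u * ((t : G)⁻¹ * s) := by rw [h2]; group
    refine Subtype.ext ((inv_mul_eq_one.mp ?_).symm)
    by_contra hd1
    have hm : (t : G)⁻¹ * s ∈ (P : Subgroup G) := mul_mem (inv_mem t.2) s.2
    refine hu (hC ▸ Subgroup.mem_centralizer_iff.mpr fun q hq => ?_)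
    rw [← zpowers_of_mem hP hm hd1] at hq
    obtain ⟨i, rfl⟩ := Subgroup.mem_zpowers_iff.mp hq
    exact (hd.zpow_left i).eq
  obtain ⟨s, hs⟩ := (Finite.injective_iff_surjective.mp hinj) ⟨w, hw⟩
  refine ⟨s, s.2, ?_⟩
  have h' : (s : G) * (u * (s : G)⁻¹ * u⁻¹) = w := congrArg Subtype.val hs
  rw [← h']
  group

/-- The pairs with product `v` and first member outside `C(v)` are permuted freely by `P`. -/
theorem dvd_card_pairs {P : Sylow p G} (hP : Nat.card (P : Subgroup G) = p)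
    (hC : Subgroup.centralizer ((P : Subgroup G) : Set G) = (P : Subgroup G)) {g h v : G}
    (hv : v ∈ (P : Subgroup G)) (hg : ∀ x ∈ (P : Subgroup G), ¬ IsConj g x) :
    p ∣ Nat.card {pr : G × G // IsConj g pr.1 ∧ IsConj h pr.2 ∧ pr.1 * pr.2 = v} := by
  have hvc : ∀ w : (P : Subgroup G), (w : G) * v * (w : G)⁻¹ = v := fun w => by
    rw [commute_of_mem hP w.2 hv, mul_inv_cancel_right]
  letI : MulAction (P : Subgroup G) {pr : G × G // IsConj g pr.1 ∧ IsConj h pr.2 ∧ pr.1 * pr.2 = v} :=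
    { smul := fun w pr => ⟨((w : G) * pr.1.1 * (w : G)⁻¹, (w : G) * pr.1.2 * (w : G)⁻¹),
        pr.2.1.trans (isConj_iff.mpr ⟨w, rfl⟩), pr.2.2.1.trans (isConj_iff.mpr ⟨w, rfl⟩), by
          calc (w : G) * pr.1.1 * (w : G)⁻¹ * ((w : G) * pr.1.2 * (w : G)⁻¹)
              = (w : G) * (pr.1.1 * pr.1.2) * (w : G)⁻¹ := by group
            _ = v := by rw [pr.2.2.2, hvc]⟩
      one_smul := fun pr => Subtype.ext (Prod.ext
        (show ((1 : (P : Subgroup G)) : G) * pr.1.1 * ((1 : (P : Subgroup G)) : G)⁻¹ = _ by simp)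
        (show ((1 : (P : Subgroup G)) : G) * pr.1.2 * ((1 : (P : Subgroup G)) : G)⁻¹ = _ by simp))
      mul_smul := fun a b pr => Subtype.ext (Prod.ext
        (show ((a * b : (P : Subgroup G)) : G) * pr.1.1 * ((a * b : (P : Subgroup G)) : G)⁻¹ =
          (a : G) * ((b : G) * pr.1.1 * (b : G)⁻¹) * (a : G)⁻¹ by simp [mul_assoc])
        (show ((a * b : (P : Subgroup G)) : G) * pr.1.2 * ((a * b : (P : Subgroup G)) : G)⁻¹ =
          (a : G) * ((b : G) * pr.1.2 * (b : G)⁻¹) * (a : G)⁻¹ by simp [mul_assoc])) }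
  have hPp : IsPGroup p (P : Subgroup G) := P.isPGroup'
  have hm := hPp.card_modEq_card_fixedPoints
    {pr : G × G // IsConj g pr.1 ∧ IsConj h pr.2 ∧ pr.1 * pr.2 = v}
  have h0 : IsEmpty (MulAction.fixedPoints (P : Subgroup G)
      {pr : G × G // IsConj g pr.1 ∧ IsConj h pr.2 ∧ pr.1 * pr.2 = v}) := by
    refine ⟨fun ⟨pr, hpr⟩ => hg pr.1.1 ?_ pr.2.1⟩
    rw [← hC]
    refine Subgroup.mem_centralizer_iff.mpr fun q hq => ?_
    have := congrArg (fun x : {pr : G × G // IsConj g pr.1 ∧ IsConj h pr.2 ∧ pr.1 * pr.2 = v} => x.1.1)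
      (hpr ⟨q, hq⟩)
    change q * pr.1.1 * q⁻¹ = pr.1.1 at this
    exact mul_inv_eq_iff_eq_mul.mp this
  rw [Nat.card_of_isEmpty (α := MulAction.fixedPoints (P : Subgroup G)
    {pr : G × G // IsConj g pr.1 ∧ IsConj h pr.2 ∧ pr.1 * pr.2 = v})] at hm
  exact Nat.modEq_zero_iff_dvd.mp hm

variable [IsSimpleGroup G] {n Bd : ℕ} {qs : List ℕ} {o : Opt}

/-- The scaled block sum of two columns. -/
noncomputable def blockSum (B : PBlk G n qs Bd p o) (L : ℤ) (V V' : IrrCharacter G → ℤ) (Y Y' : ℤ) : ℤ :=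
  L + (B.xl.map fun χ => L / (B.σ χ * (deg χ : ℤ)) * (V χ * V' χ)).sum +
    (match o.y with | none => 0 | some y => L / (-y) * (Y * Y'))

/-- The class multiplication constant for two classes and `v`, for `C(P) = P`. -/
theorem count_one (B : PBlk G n qs Bd p o) (hk : o.k = 1) {g h v : G} (hv : v ∈ (B.T.P : Subgroup G)) (hv1 : v ≠ 1)
    (V V' : IrrCharacter G → ℤ) (Y Y' : ℤ) (hV : ∀ χ ∈ B.xl, (χ : G → ℂ) g = V χ)
    (hV' : ∀ χ ∈ B.xl, (χ : G → ℂ) h = V' χ) (hY : ∀ ψ ∈ B.yl, (ψ : G → ℂ) g = Y)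
    (hY' : ∀ ψ ∈ B.yl, (ψ : G → ℂ) h = Y') {L : ℤ} (hLx : ∀ χ ∈ B.xl, (deg χ : ℤ) ∣ L)
    (hLy : ∀ y, o.y = some y → y ∣ L) :
    (n : ℤ) * blockSum B L V V' Y Y' =
      (Nat.card {pr : G × G // IsConj g pr.1 ∧ IsConj h pr.2 ∧ pr.1 * pr.2 = v} : ℤ) *
        ((cC g : ℤ) * (cC h : ℤ)) * L := by
  obtain ⟨f, hf⟩ : ∃ f : IrrCharacter G → ℂ, f = fun χ : IrrCharacter G =>
      (L : ℂ) * ((χ : G → ℂ) g * (χ : G → ℂ) h * conj ((χ : G → ℂ) v) / (χ : G → ℂ) 1) := ⟨_, rfl⟩
  have hSf : ∑ χ : IrrCharacter G, f χ = ((Blocks.trivIrr G :: (B.xl ++ B.yl)).map f).sum := by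
    rw [← List.sum_toFinset _ B.nodup]
    refine (Finset.sum_subset (Finset.subset_univ _) fun χ _ hχ => ?_).symm
    rw [List.mem_toFinset] at hχ
    simp only [hf, B.out hk hχ hv hv1, map_zero, mul_zero, zero_div]
  have hdiv : ∀ x : ℤ, x ≠ 0 → x ∣ L → (((L / x : ℤ)) : ℂ) = (L : ℂ) / (x : ℂ) := fun x hx hd => by
    have hx' : (x : ℂ) ≠ 0 := Int.cast_ne_zero.mpr hx
    rw [eq_div_iff hx', ← Int.cast_mul, Int.ediv_mul_cancel hd]
  have hX : (B.xl.map f).sum =
      (((B.xl.map fun χ => L / (B.σ χ * (deg χ : ℤ)) * (V χ * V' χ)).sum : ℤ) : ℂ) := by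
    rw [Int.cast_list_sum, List.map_map]
    refine congrArg List.sum (List.map_congr_left fun χ hχ => ?_)
    have hd0 : B.σ χ * (deg χ : ℤ) ≠ 0 := by
      have := deg_pos χ
      rcases B.σ_unit hχ with e | e <;> rw [e] <;> omega
    have hdd : B.σ χ * (deg χ : ℤ) ∣ L := by
      rcases B.σ_unit hχ with e | e <;> rw [e]
      · simpa using hLx χ hχ
      · simpa using hLx χ hχ
    simp only [hf, Function.comp_apply, Int.cast_mul, hdiv _ hd0 hdd, hV χ hχ, hV' χ hχ, B.value_P hχ hv hv1,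
      map_intCast, value_one']
    rcases B.σ_unit hχ with e | e <;> rw [e] <;> push_cast <;> ring
  have hYs : (B.yl.map f).sum = (((match o.y with | none => (0 : ℤ) | some y => L / (-y) * (Y * Y')) : ℤ) : ℂ) := by
    cases hy : o.y with
    | none => simp [B.yl_none hy]
    | some y =>
      obtain ⟨hlen, hdeg, hsum⟩ := B.yl_some y hy
      obtain ⟨ψ₀, hψ₀⟩ := List.exists_mem_of_length_pos (l := B.yl) (hlen ▸ B.t_pos)
      have hy0 : y ≠ 0 := fun h => by
        have := deg_pos ψ₀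
        rw [hdeg ψ₀ hψ₀, h] at this
        simp at this
      simp only [Int.cast_mul, hdiv (-y) (neg_ne_zero.mpr hy0) (neg_dvd.mpr (hLy y hy)), Int.cast_neg]
      rw [show B.yl.map f = (B.yl.map fun ψ : IrrCharacter G => conj ((ψ : G → ℂ) v)).map
          (fun w => ((L : ℂ) * ((Y : ℂ) * Y') / (y.natAbs : ℂ)) * w) from by
        rw [List.map_map]
        refine List.map_congr_left fun ψ hψ => ?_
        simp only [Function.comp, hf, hY ψ hψ, hY' ψ hψ, value_one', hdeg ψ hψ]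
        ring]
      rw [List.sum_map_mul_left, List.map_id']
      have hc := congrArg conj (hsum v hv hv1)
      rw [map_list_sum, List.map_map, map_neg, map_intCast] at hc
      simp only [Function.comp_def] at hc
      rw [hc]
      rcases lt_or_gt_of_ne hy0 with h | h
      · rw [sgn, if_neg (by omega), show ((y.natAbs : ℕ) : ℂ) = -(y : ℂ) by
          rw [← Int.cast_natCast, Int.ofNat_natAbs_of_nonpos h.le]; push_cast; rfl]
        push_cast
        ring
      · rw [sgn, if_pos h, show ((y.natAbs : ℕ) : ℂ) = (y : ℂ) by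
          rw [← Int.cast_natCast, Int.natAbs_of_nonneg h.le]]
        push_cast
        ring
  have htriv : f (Blocks.trivIrr G) = (L : ℂ) := by simp [hf, Blocks.trivIrr]
  have hS : ∑ χ : IrrCharacter G, f χ = ((blockSum B L V V' Y Y' : ℤ) : ℂ) := by
    rw [hSf, List.map_cons, List.sum_cons, List.map_append, List.sum_append, htriv, hX, hYs, blockSum]
    push_cast
    ring
  rw [hf, ← Finset.mul_sum] at hS
  have hcm := Char.class_mult g h v
  rw [B.card_eq] at hcm
  have hn0 : (n : ℂ) ≠ 0 := Nat.cast_ne_zero.mpr (B.card_eq ▸ Nat.card_pos.ne')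
  have hc : ∀ x : G, (cC x : ℂ) * ((Subgroup.centralizer ({x} : Set G)).index : ℂ) = n := fun x => by
    have h := (Subgroup.centralizer ({x} : Set G)).card_mul_index
    rw [B.card_eq] at h
    exact_mod_cast h
  have h1 := hc g
  have h2 := hc h
  refine Int.cast_injective (α := ℂ) ?_
  push_cast
  rw [← hS, hcm]
  generalize ((Subgroup.centralizer ({g} : Set G)).index : ℂ) = i at h1
  generalize ((Subgroup.centralizer ({h} : Set G)).index : ℂ) = j at h2
  generalize ∑ χ : IrrCharacter G, (χ : G → ℂ) g * (χ : G → ℂ) h * conj ((χ : G → ℂ) v) / (χ : G → ℂ) 1 = S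
  field_simp
  linear_combination (-(S : ℂ) * (L : ℂ) * (cC h : ℂ) * j) * h1 - (S : ℂ) * (L : ℂ) * (n : ℂ) * h2

end CfsgLib.M24Order.E3
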