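import Cfsg.Agent.Lib.M23Order.Counts
import Cfsg.Agent.Lib.M23Order.Points
import Cfsg.Agent.Lib.Golay.M24

/-!
# A group with the order and the element-order counts of M24 is simple
-/

set_option autoImplicit false
set_option linter.unusedSectionVars false
set_option linter.style.haveILetI false

namespace CfsgLib.M24Order.Counts

open Cfsg CfsgLib CfsgLib.M23Order

universe u

theorem natCard_M24 : Nat.card ↥Cfsg.M24 = 244823040 := Golay.natCard_M24

/-- A group of order `244823040` whose counts are among those of `M₁₂` is simple. -/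
theorem isSimple_of_counts {G : Type u} [Group G] [Finite G] (hn : Nat.card G = 244823040)
    (hc : ∀ n, 0 < Nat.card {g : G // orderOf g = n} → Nat.card {g : G // orderOf g = n} = 1 ∨
      Nat.card {g : G // orderOf g = n} = 21288960 ∨ 23 ∣ Nat.card {g : G // orderOf g = n}) :
    IsSimpleGroup G := by
  classical
  haveI : Fact (Nat.Prime 23) := ⟨by norm_num⟩
  haveI : Nontrivial G := Finite.one_lt_card_iff_nontrivial.mp (by rw [hn]; norm_num)
  have hG23 := card_sylow_twentythree (G := G) (m := 10644480) (hn.trans (by norm_num)) (by norm_num)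
  have hcount := SmallOrder.card_orderOf_eq_prime hG23
  have hmod := card_sylow_modEq_one 23 G
  unfold Nat.ModEq at hmod
  have hpos : 0 < Nat.card (Sylow 23 G) := Nat.card_pos
  have hn23 : Nat.card (Sylow 23 G) = 967680 := by
    rcases hc 23 (by rw [hcount]; omega) with e | e | e <;> rw [hcount] at e
    · omega
    · omega
    · exfalso; obtain ⟨k, hk⟩ := e; omega
  -- the normaliser of a subgroup of order `23`
  have hcent : ∀ v : G, orderOf v = 23 → Nat.card (Subgroup.centralizer ({v} : Set G)) ∣ 253 := by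
    intro v hv
    obtain ⟨P, hP⟩ := (IsPGroup.of_card (n := 1) (p := 23)
      (by rw [Nat.card_zpowers, hv, pow_one] : Nat.card (Subgroup.zpowers v) = 23 ^ 1)).exists_le_sylow
    have heq : Subgroup.zpowers v = (P : Subgroup G) := Subgroup.eq_of_le_of_card_ge hP (by
      rw [hG23 P, Nat.card_zpowers, hv])
    have hN : Nat.card (Subgroup.normalizer ((P : Subgroup G) : Set G)) = 253 := by
      have h := Subgroup.card_mul_index (Subgroup.normalizer ((P : Subgroup G) : Set G))
      rw [show (Subgroup.normalizer ((P : Subgroup G) : Set G)).index = 967680 from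
        P.card_eq_index_normalizer.symm.trans hn23, hn] at h
      omega
    rw [← hN]
    refine Subgroup.card_dvd_of_le fun g hg => ?_
    rw [← centralizer_zpowers_eq' v, heq] at hg
    exact Subgroup.centralizer_le_normalizer _ hg
  -- every nontrivial normal subgroup has order divisible by `23`
  have hdvd : ∀ M : Subgroup G, M.Normal → M ≠ ⊥ → 23 ∣ Nat.card M := by
    intro M hM hMb
    by_contra hM23
    haveI := hM
    have hkey : ∀ p, p.Prime → p ∣ Nat.card M →
        ∃ R₀ : Sylow p M, p = 11 ∧ Nat.card ((R₀ : Subgroup M).map M.subtype) = 11 := by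
     intro p hp hpM
     haveI : Fact p.Prime := ⟨hp⟩
     obtain ⟨R₀⟩ := (inferInstance : Nonempty (Sylow p M))
     refine ⟨R₀, ?_⟩
     set R : Subgroup G := (R₀ : Subgroup M).map M.subtype with hR
     have hRc : Nat.card R = Nat.card (R₀ : Subgroup M) := Subgroup.card_map_of_injective M.subtype_injective
     have hRM : R ≤ M := Subgroup.map_subtype_le _
     have hsup := Sylow.normalizer_sup_eq_top R₀
     have h23N : 23 ∣ Nat.card (Subgroup.normalizer (R : Set G)) := by
       have h1 := Subgroup.relIndex_sup_right (H := Subgroup.normalizer (R : Set G)) (K := M)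
       rw [show Subgroup.normalizer (R : Set G) ⊔ M = ⊤ from hsup, Subgroup.relIndex_top_right] at h1
       have h3 : 23 ∣ Nat.card M * M.index := by rw [M.card_mul_index, hn]; norm_num
       rcases (Nat.Prime.dvd_mul (by norm_num)).mp h3 with h | h
       · exact absurd h hM23
       · exact (h1 ▸ h).trans (Subgroup.relIndex_dvd_card M _)
     obtain ⟨v, hv⟩ := exists_prime_orderOf_dvd_card' (G := Subgroup.normalizer (R : Set G)) 23 h23N
     have hvG : orderOf (v : G) = 23 := by rw [Subgroup.orderOf_coe, hv]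
     obtain ⟨k, hk⟩ := IsPGroup.iff_card.mp R₀.2
     rw [← hRc] at hk
     have hk1 : 1 ≤ k := by
       by_contra h0
       have := R₀.dvd_card_of_dvd_card hpM
       rw [← hRc, hk, show k = 0 by omega, pow_zero] at this
       exact hp.ne_one (Nat.dvd_one.mp this)
     have hRdvd : p ^ k ∣ 244823040 := by rw [← hk, ← hn]; exact Subgroup.card_subgroup_dvd_card R
     -- the fixed points
     let f : Function.End R := fun r => ⟨(v : G) * r * (v : G)⁻¹,
       (Subgroup.mem_normalizer_iff.mp v.2 r).mp r.2⟩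
     have hiter : ∀ i (r : R), ((f^[i]) r : G) = (v : G) ^ i * r * ((v : G) ^ i)⁻¹ := by
       intro i
       induction i with
       | zero => intro r; show (r : G) = _; simp
       | succ i ih =>
         intro r
         rw [Function.iterate_succ_apply']
         show (v : G) * (f^[i] r : G) * (v : G)⁻¹ = _
         rw [ih, pow_succ']
         group
     letI : Fintype R := Fintype.ofFinite R
     have hfix := Equiv.Perm.card_fixedPoints_modEq (α := R) (f := f) (p := 23) (n := 1) (by
       funext r
       refine Subtype.ext ?_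
       show ((f^[23 ^ 1]) r : G) = (r : G)
       rw [pow_one, hiter, ← hvG, pow_orderOf_eq_one, one_mul, inv_one, mul_one])
     simp only [← Nat.card_eq_fintype_card] at hfix
     have hF : Nat.card (R ⊓ Subgroup.centralizer ({(v : G)} : Set G) : Subgroup G) =
         Nat.card {r : R // f r = r} := Nat.card_congr
       { toFun := fun r => ⟨⟨r.1, r.2.1⟩, Subtype.ext (mul_inv_eq_iff_eq_mul.mpr (mem_cen.mp r.2.2).symm)⟩
         invFun := fun r => ⟨r.1.1, r.1.2, mem_cen.mpr (mul_inv_eq_iff_eq_mul.mp (congrArg Subtype.val r.2)).symm⟩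
         left_inv := fun _ => rfl
         right_inv := fun _ => rfl }
     have hF253 := (Subgroup.card_dvd_of_le (inf_le_right : R ⊓ Subgroup.centralizer ({(v : G)} : Set G) ≤ _)).trans
       (hcent _ hvG)
     have hFp := hk ▸ Subgroup.card_dvd_of_le (inf_le_left : R ⊓ Subgroup.centralizer ({(v : G)} : Set G) ≤ R)
     have hfix' : p ^ k % 23 = Nat.card (R ⊓ Subgroup.centralizer ({(v : G)} : Set G) : Subgroup G) % 23 := by
       rw [hF, ← hk]; exact hfix
     have hple : p = 2 ∨ p = 3 ∨ p = 5 ∨ p = 7 ∨ p = 11 := by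
       have h := (dvd_pow_self p (by omega : k ≠ 0)).trans hRdvd
       rw [show (244823040 : ℕ) = 2 ^ 10 * (3 ^ 3 * (5 * (7 * (11 * 23)))) by norm_num] at h
       rcases hp.dvd_mul.mp h with h | h
       · exact Or.inl ((Nat.prime_dvd_prime_iff_eq hp Nat.prime_two).mp (hp.dvd_of_dvd_pow h))
       rcases hp.dvd_mul.mp h with h | h
       · exact Or.inr (Or.inl ((Nat.prime_dvd_prime_iff_eq hp Nat.prime_three).mp (hp.dvd_of_dvd_pow h)))
       rcases hp.dvd_mul.mp h with h | h
       · exact Or.inr (Or.inr (Or.inl ((Nat.prime_dvd_prime_iff_eq hp (by norm_num)).mp h)))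
       rcases hp.dvd_mul.mp h with h | h
       · exact Or.inr (Or.inr (Or.inr (Or.inl ((Nat.prime_dvd_prime_iff_eq hp (by norm_num)).mp h))))
       rcases hp.dvd_mul.mp h with h | h
       · exact Or.inr (Or.inr (Or.inr (Or.inr ((Nat.prime_dvd_prime_iff_eq hp (by norm_num)).mp h))))
       · exact absurd ((Nat.prime_dvd_prime_iff_eq hp (by norm_num)).mp h ▸ hpM) hM23
     obtain ⟨i, hi, hFi⟩ := (Nat.dvd_prime_pow hp).mp hFp
     rw [hFi] at hfix' hF253
     have hk7 : k ≤ 10 := by
       by_contra h7
       have : p ^ 11 ∣ 244823040 := (pow_dvd_pow p (by omega)).trans hRdvd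
       rcases hple with rfl | rfl | rfl | rfl | rfl <;> norm_num at this
     have h11 : p = 11 ∧ k = 1 := by
       rcases hple with rfl | rfl | rfl | rfl | rfl <;> interval_cases k <;> (try norm_num at hRdvd) <;>
         interval_cases i <;> (try norm_num at hfix') <;> (try norm_num at hF253) <;> norm_num
     obtain ⟨rfl, rfl⟩ := h11
     exact ⟨rfl, hk.trans (pow_one _)⟩
    -- a normal subgroup of order five
    obtain ⟨p, hp, hpM⟩ := Nat.exists_prime_and_dvd (n := Nat.card M) (fun h => hMb (M.eq_bot_of_card_eq h))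
    obtain ⟨R₀, rfl, hk⟩ := hkey p hp hpM
    haveI : Fact (Nat.Prime 11) := ⟨hp⟩
    set R : Subgroup G := (R₀ : Subgroup M).map M.subtype with hR
    have hMR : M = R := by
      have htop : (R₀ : Subgroup M) = ⊤ := by
        rw [← Subgroup.index_eq_one]
        by_contra h1
        obtain ⟨q, hq, hqi⟩ := Nat.exists_prime_and_dvd h1
        obtain ⟨-, rfl, -⟩ := hkey q hq (hqi.trans (Subgroup.index_dvd_card _))
        exact R₀.not_dvd_index hqi
      rw [hR, htop, ← MonoidHom.range_eq_map, Subgroup.range_subtype]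
    have hnorm : (R : Subgroup G).Normal := hMR ▸ hM
    have hS11 : ∀ P : Sylow 11 G, Nat.card (P : Subgroup G) = 11 := fun P => by
      rw [P.card_eq_multiplicity, hn, show (244823040 : ℕ) = 11 * 22256640 by norm_num,
        Nat.factorization_mul (by norm_num) (by norm_num), Finsupp.add_apply,
        Nat.Prime.factorization_self (by norm_num), Nat.factorization_eq_zero_of_not_dvd (by norm_num)]
      rfl
    obtain ⟨P, hP⟩ := (IsPGroup.of_card (n := 1) (p := 11) (G := R) (by rw [hk, pow_one])).exists_le_sylow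
    haveI : (P : Subgroup G).Normal := by
      rw [← Subgroup.eq_of_le_of_card_ge hP (by rw [hS11, hk])]; exact hnorm
    haveI := P.unique_of_normal inferInstance
    have h4 := SmallOrder.card_orderOf_eq_prime hS11
    rw [Nat.card_unique (α := Sylow 11 G), one_mul] at h4
    rcases hc 11 (by rw [h4]; norm_num) with e | e | e <;> rw [h4] at e <;> norm_num at e
  refine ⟨fun M hM => ?_⟩
  by_contra hne
  push Not at hne
  obtain ⟨hMb, hMt⟩ := hne
  haveI := hM
  have h23 := hdvd M hM hMb
  -- all elements of order `23` lie in `M`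
  obtain ⟨w, hw⟩ := exists_prime_orderOf_dvd_card' (G := M) 23 h23
  have hall : ∀ g : G, orderOf g = 23 → g ∈ M := by
    intro g hg
    have hwG : orderOf (w : G) = 23 := by rw [Subgroup.orderOf_coe, hw]
    obtain ⟨P, hP⟩ := (IsPGroup.of_card (n := 1) (p := 23)
      (by rw [Nat.card_zpowers, hwG, pow_one] : Nat.card (Subgroup.zpowers (w : G)) = 23 ^ 1)).exists_le_sylow
    have hPM : (P : Subgroup G) ≤ M := by
      rw [← Subgroup.eq_of_le_of_card_ge hP (by rw [hG23 P, Nat.card_zpowers, hwG])]
      exact Subgroup.zpowers_le.mpr w.2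
    obtain ⟨R, hR⟩ := (IsPGroup.of_card (n := 1) (p := 23)
      (by rw [Nat.card_zpowers, hg, pow_one] : Nat.card (Subgroup.zpowers g) = 23 ^ 1)).exists_le_sylow
    obtain ⟨c, rfl⟩ := MulAction.exists_smul_eq G P R
    have hgR : g ∈ (((c • P : Sylow 23 G)) : Subgroup G) := hR (Subgroup.mem_zpowers g)
    rw [Sylow.coe_subgroup_smul, Subgroup.mem_smul_pointwise_iff_exists] at hgR
    obtain ⟨y, hy, rfl⟩ := hgR
    exact hM.conj_mem y (hPM hy) c
  have hMd : Nat.card M ∣ 244823040 := hn ▸ Subgroup.card_subgroup_dvd_card M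
  obtain ⟨m, hm⟩ := h23
  have hm23 : ¬ 23 ∣ m := fun h => by
    have := (Nat.mul_dvd_mul_left 23 h).trans (hm ▸ hMd)
    norm_num at this
  have hM23c := card_sylow_twentythree hm hm23
  have hMn : Nat.card (Sylow 23 M) = 967680 := by
    have h := SmallOrder.card_orderOf_eq_prime hM23c
    rw [show Nat.card {g : M // orderOf g = 23} = Nat.card {g : G // orderOf g = 23} from Nat.card_congr
      { toFun := fun g => ⟨g.1, by rw [Subgroup.orderOf_coe, g.2]⟩
        invFun := fun g => ⟨⟨g.1, hall g.1 g.2⟩, by rw [Subgroup.orderOf_mk, g.2]⟩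
        left_inv := fun _ => rfl
        right_inv := fun _ => rfl }, hcount, hn23] at h
    omega
  obtain ⟨P⟩ := (inferInstance : Nonempty (Sylow 23 M))
  set N := Subgroup.normalizer ((P : Subgroup M) : Set M) with hN
  have hNi : N.index = 967680 := P.card_eq_index_normalizer.symm.trans hMn
  have hNc := N.card_mul_index
  rw [hNi] at hNc
  have hPN : (P : Subgroup M) ≤ N := Subgroup.le_normalizer
  obtain ⟨j, hj⟩ := (hM23c P) ▸ Subgroup.card_dvd_of_le hPN
  have hMlt : Nat.card M ≠ 244823040 := fun e => hMt (Subgroup.eq_top_of_card_eq M (e.trans hn.symm))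
  rw [← hNc, hj] at hMlt hMd
  have hj11 : j ∣ 11 := by
    rw [show (244823040 : ℕ) = 23 * 967680 * 11 by norm_num, mul_right_comm] at hMd
    exact Nat.dvd_of_mul_dvd_mul_left (by norm_num) hMd
  rcases (Nat.dvd_prime (by norm_num : Nat.Prime 11)).mp hj11 with rfl | rfl
  swap
  · exact hMlt (by norm_num)
  have hNP : N = (P : Subgroup M) :=
    (Subgroup.eq_of_le_of_card_ge hPN (by rw [hM23c P, hj])).symm
  haveI : IsCyclic (P : Subgroup M) := isCyclic_of_prime_card (hM23c P)
  have hcomm : N ≤ Subgroup.centralizer ((P : Subgroup M) : Set M) := by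
    rw [hNP]
    intro a ha
    refine Subgroup.mem_centralizer_iff.mpr fun b hb => ?_
    letI := IsCyclic.commGroup (α := (P : Subgroup M))
    exact congrArg Subtype.val (mul_comm (⟨b, hb⟩ : (P : Subgroup M)) ⟨a, ha⟩)
  set τ := MonoidHom.transferSylow P hcomm with hτ
  have hc' := MonoidHom.ker_transferSylow_isComplement' P hcomm
  have hKc : Nat.card τ.ker * 23 = Nat.card M := by
    have h := hc'.card_mul
    rwa [hM23c P] at h
  have hK : Nat.card τ.ker = 967680 := by
    rw [← hNc, hj] at hKc
    omega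
  have hKn : (τ.ker.map M.subtype).Normal := by
    refine ⟨?_⟩
    rintro _ ⟨a, ha, rfl⟩ g
    refine ⟨⟨g * a * g⁻¹, hM.conj_mem a a.2 g⟩, MonoidHom.mem_ker.mpr ?_, rfl⟩
    set b : M := ⟨g * a * g⁻¹, hM.conj_mem a a.2 g⟩ with hb
    have ho : orderOf b ∣ 967680 := by
      rw [← hK, ← Subgroup.orderOf_coe b, show ((b : M) : G) = MulAut.conj g (a : G) from rfl,
        MulEquiv.orderOf_eq, Subgroup.orderOf_coe]
      exact Subgroup.orderOf_dvd_natCard _ ha
    have h1 : orderOf (τ b) ∣ 967680 := (orderOf_map_dvd τ b).trans ho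
    have h2 : orderOf (τ b) ∣ 23 := (orderOf_dvd_natCard (τ b)).trans (hM23c P).dvd
    exact orderOf_eq_one_iff.mp (Nat.dvd_one.mp (show orderOf (τ b) ∣ 1 from
      (Nat.dvd_gcd h1 h2).trans (by norm_num)))
  have hKb : τ.ker.map M.subtype ≠ ⊥ := fun e => by
    have := Subgroup.card_map_of_injective (K := τ.ker) (f := M.subtype) M.subtype_injective
    rw [e, Subgroup.card_bot, hK] at this
    norm_num at this
  have := hdvd _ hKn hKb
  rw [Subgroup.card_map_of_injective (K := τ.ker) (f := M.subtype) M.subtype_injective, hK] at this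
  norm_num at this

theorem card_cen_twentythree {v : ↥Cfsg.M24} (hv : orderOf v = 23) :
    Nat.card ↥(cen v) = 23 := by
  classical
  set σ : Equiv.Perm GolayPt := (v : Equiv.Perm GolayPt) with hσ
  have hσo : orderOf σ = 23 := by rw [hσ, Subgroup.orderOf_coe, hv]
  obtain ⟨n, hn⟩ := Equiv.Perm.cycleType_prime_order (σ := σ) (by rw [hσo]; norm_num)
  have hcard : Fintype.card GolayPt = 24 := by simp [GolayPt, Fintype.card_option, ZMod.card]
  have hn0 : n = 0 := by
    have h := σ.sum_cycleType
    rw [hn, Multiset.sum_replicate, hσo, smul_eq_mul] at h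
    have := σ.support.card_le_univ
    omega
  subst hn0
  have hP : Nat.card ↥(Subgroup.centralizer ({σ} : Set (Equiv.Perm GolayPt))) = 23 := by
    rw [Equiv.Perm.nat_card_centralizer, hn, hcard, hσo]
    rfl
  refine Nat.dvd_antisymm ?_ (hv ▸ Subgroup.orderOf_dvd_natCard _ (mem_cen.mpr rfl))
  rw [← hP]
  have hle : (cen v).map Cfsg.M24.subtype ≤ Subgroup.centralizer ({σ} : Set (Equiv.Perm GolayPt)) := by
    rintro _ ⟨a, ha, rfl⟩
    exact mem_cen.mpr (congrArg Subtype.val (mem_cen.mp ha))
  rw [Nat.card_congr ((cen v).equivMapOfInjective _ Cfsg.M24.subtype_injective).toEquiv]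
  exact Subgroup.card_dvd_of_le hle

/-- The counts of `M₂₄`: only the count of the elements of order `23` is not a multiple of `23`, besides `1`. -/
theorem m24_counts (n : ℕ) :
    Nat.card {g : ↥Cfsg.M24 // orderOf g = n} = 1 ∨ Nat.card {g : ↥Cfsg.M24 // orderOf g = n} = 21288960 ∨
      23 ∣ Nat.card {g : ↥Cfsg.M24 // orderOf g = n} := by
  classical
  haveI : Fact (Nat.Prime 23) := ⟨by norm_num⟩
  have hn := natCard_M24
  rcases eq_or_ne n 1 with rfl | hn1
  · left
    exact Nat.card_eq_one_iff_exists.mpr ⟨⟨1, orderOf_one⟩, fun g => Subtype.ext (orderOf_eq_one_iff.mp g.2)⟩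
  obtain ⟨v, hv⟩ := exists_prime_orderOf_dvd_card' (G := ↥Cfsg.M24) 23 (by rw [hn]; norm_num)
  rcases eq_or_ne n 23 with rfl | hn23
  · right; left
    have hS : ∀ P : Sylow 23 ↥Cfsg.M24, Nat.card (P : Subgroup ↥Cfsg.M24) = 23 :=
      card_sylow_twentythree (m := 10644480) (hn.trans (by norm_num)) (by norm_num)
    rw [SmallOrder.card_orderOf_eq_prime hS]
    obtain ⟨d, m, hd, hm, h1, h2⟩ := card_norm_prime (K := (⊤ : Subgroup ↥Cfsg.M24)) (by norm_num) hv
      (Subgroup.mem_top v) (by rw [Subgroup.card_top, hn]; norm_num)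
    rw [top_inf_eq] at h1 h2
    rw [top_inf_eq, card_cen_twentythree hv] at h1
    rw [Subgroup.card_top, hn, h1] at h2
    have hd' := Nat.le_of_dvd (by norm_num) hd
    have hd11 : d = 11 := by interval_cases d <;> omega
    subst hd11
    have hY : Nat.card (Subgroup.zpowers v) = 23 := by rw [Nat.card_zpowers, hv]
    obtain ⟨P, hP⟩ := (IsPGroup.of_card (n := 1) (by rw [hY, pow_one]) :
      IsPGroup 23 (Subgroup.zpowers v)).exists_le_sylow
    have heq : Subgroup.zpowers v = (P : Subgroup ↥Cfsg.M24) :=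
      Subgroup.eq_of_le_of_card_ge hP (by rw [hS P, hY])
    have hidx := (norZ v).index_mul_card
    rw [h1, hn] at hidx
    rw [P.card_eq_index_normalizer]
    have : (norZ v).index = 967680 := by omega
    change (Subgroup.normalizer (((P : Subgroup ↥Cfsg.M24)) : Set ↥Cfsg.M24)).index * (23 - 1) = 21288960
    rw [← heq]
    change (norZ v).index * (23 - 1) = 21288960
    rw [this]
  right; right
  let α := {g : ↥Cfsg.M24 // orderOf g = n}
  let f : Function.End α := fun g => ⟨v * g * v⁻¹, by rw [order_conj, g.2]⟩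
  have hiter : ∀ k (g : α), ((f^[k]) g : ↥Cfsg.M24) = v ^ k * g * (v ^ k)⁻¹ := by
    intro k
    induction k with
    | zero => intro g; show (g : ↥Cfsg.M24) = _; simp
    | succ k ih =>
      intro g
      rw [Function.iterate_succ_apply']
      show v * (f^[k] g : ↥Cfsg.M24) * v⁻¹ = _
      rw [ih, pow_succ']
      group
  letI : Fintype α := Fintype.ofFinite α
  have h := Equiv.Perm.card_fixedPoints_modEq (α := α) (f := f) (p := 23) (n := 1) (by
    funext g
    refine Subtype.ext ?_
    show ((f^[23 ^ 1]) g : ↥Cfsg.M24) = (g : ↥Cfsg.M24)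
    rw [pow_one, hiter, pow_self_of_order hv, one_mul, inv_one, mul_one])
  haveI : IsEmpty (Function.fixedPoints f) := ⟨fun z => by
    have hz : v * (z.1.1 : ↥Cfsg.M24) * v⁻¹ = z.1.1 := congrArg Subtype.val z.2
    have hd := Subgroup.orderOf_dvd_natCard (cen v) (mem_cen.mpr (mul_inv_eq_iff_eq_mul.mp hz).symm)
    rw [card_cen_twentythree hv, z.1.2] at hd
    rcases (Nat.dvd_prime (by norm_num)).mp hd with e | e
    · exact hn1 e
    · exact hn23 e⟩
  rw [← Nat.card_eq_fintype_card, ← Nat.card_eq_fintype_card, Nat.card_of_isEmpty (α := Function.fixedPoints f)] at h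
  exact Nat.modEq_zero_iff_dvd.mp h

/-- A group with the order and the counts of `M₂₄` is simple. -/
theorem isSimple_of_nse {G : Type*} [Group G] [Finite G] (hcard : Nat.card G = Nat.card ↥Cfsg.M24)
    (hnse : {c : ℕ | 0 < c ∧ ∃ n : ℕ, c = Nat.card {g : G // orderOf g = n}} =
      {c : ℕ | 0 < c ∧ ∃ n : ℕ, c = Nat.card {g : ↥Cfsg.M24 // orderOf g = n}}) : IsSimpleGroup G :=
  isSimple_of_counts (hcard.trans natCard_M24) fun n hpos => by
    obtain ⟨-, m, hm⟩ := Set.ext_iff.mp hnse (Nat.card {g : G // orderOf g = n}) |>.mp ⟨hpos, n, rfl⟩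
    rw [hm]
    exact m24_counts m

end CfsgLib.M24Order.Counts
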