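import Cfsg.Agent.Lib.M24Order.Keys23Defs

/-!
# Simple groups of order 244823040: the computations for the primes 11, 7 and 5, definitions
-/

set_option autoImplicit false

namespace CfsgLib.M24Order

open CfsgLib.BrauerTuan CfsgLib.OrderBlocks

/-- Evaluate a natural number before use. -/
def forceN {α : Type} : ℕ → (ℕ → α) → α
  | 0, f => f 0
  | m + 1, f => f (m + 1)

/-- Evaluate an integer before use. -/
def forceI {α : Type} : ℤ → (ℤ → α) → α
  | .ofNat 0, f => f 0
  | .ofNat (m + 1), f => f (.ofNat (m + 1))
  | .negSucc 0, f => f (-1)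
  | .negSucc (m + 1), f => f (.negSucc (m + 1))

/-- Evaluate a list of integers before use. -/
def forceL {α : Type} : List ℤ → (List ℤ → α) → α
  | [], f => f []
  | a :: l, f => forceI a fun a' => forceL l fun l' => f (a' :: l')

/-- The residue filter on signed degrees. -/
def kp23 (x : ℤ) : Bool := g23 x.natAbs

/-- The bits of a square root. -/
def sqrtAux (v : ℕ) : ℕ → ℕ → ℕ
  | 0, lo => lo
  | j + 1, lo => if (lo + 2 ^ j) * (lo + 2 ^ j) ≤ v then sqrtAux v j (lo + 2 ^ j) else sqrtAux v j lo

/-- The number may be a square. -/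
def isSq (v : ℕ) : Bool := decide (2 ^ 256 ≤ v) || decide (sqrtAux v 128 0 * sqrtAux v 128 0 = v)

/-- No block with `e = 2` passes the square test. -/
def e2Dead (p k : ℕ) (X Y : List ℤ) : Bool :=
  X.all fun x => !Y.contains (1 + x) || !isSq (244823040 * k * p * (x * (x + 1)).natAbs)

/-- The offset of a bit set. -/
def off : ℕ := 16384

/-- The set of the sums of `m` members, as bits with offset `m * off`. -/
def sumBits (X : List ℤ) : ℕ → ℕ
  | 0 => 1
  | m + 1 => forceN (sumBits X m) fun S => X.foldr (fun x acc => (S <<< (x + (off : ℤ)).toNat) ||| acc) 0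

/-- The sum `s` of `m` members is not among the sums, or out of range. -/
def noBit (S m : ℕ) (s : ℤ) : Bool := !S.testBit (s + (m : ℤ) * (off : ℤ)).toNat

/-- The members are within the offset. -/
def inRange (X : List ℤ) : Bool := X.all fun x => decide (x.natAbs ≤ off)

/-- No list of signed degrees satisfies the degree equation, by the sets of sums. -/
def infeasB (p e : ℕ) (X Y : List ℤ) : Bool :=
  inRange X && (if e + 1 = p then noBit (sumBits X e) e (-1)
    else forceN (sumBits X (e - 1)) fun S => Y.all fun y => noBit S (e - 1) (y - 1))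

/-- The pairs with entries in the list, up to order. -/
def pairs : List ℤ → List (List ℤ)
  | [] => []
  | a :: l => ((a :: l).map fun b => [a, b]) ++ pairs l

/-- The triples with entries in the list, up to order. -/
def triples : List ℤ → List (List ℤ)
  | [] => []
  | a :: l => ((pairs (a :: l)).map fun s => a :: s) ++ triples l

/-- The members as bits. -/
def bitsOf (X : List ℤ) : ℕ := X.foldr (fun x acc => (1 <<< (x + (off : ℤ)).toNat) ||| acc) 0

/-- The lists of four with sum `-1` that may have a common member for `5` and `11`. -/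
def quads (X : List ℤ) : List (List ℤ) :=
  forceN (bitsOf X) fun B =>
  ((X.filter fun x => decide (x % 11 = 10)).flatMap fun x => (pairs X).filterMap fun s =>
      if B.testBit (-1 - x - s.sum + (off : ℤ)).toNat && s.all (fun a => decide (a ≤ -1 - x - s.sum)) then some (x :: (s ++ [-1 - x - s.sum])) else none) ++
    ((X.filter fun x => decide (x % 11 = 5)).flatMap fun x => X.filterMap fun a =>
      if B.testBit (-1 - x - x - a + (off : ℤ)).toNat then some [x, x, a, -1 - x - x - a] else none)

/-- The orders of centralisers divisible by `110` and prime to `23`. -/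
def cents11 : List ℕ := (divs [512, 27, 7]).map (110 * ·)

/-- The orders of centralisers left for a member of degree `5796`. -/
def cents13 : List ℕ :=
  [10560, 14080, 21120, 28160, 42240, 84480, 168960, 253440, 380160, 506880, 591360, 760320, 1182720]

/-- The integers congruent to `r` modulo `M` that can be values of degree `d` at centraliser order `C`. -/
def stepList (M i s d r : ℕ) : List ℤ :=
  forceN (Nat.gcd i d) fun H => forceN (d / H) fun g => forceN (min (d - 1) s) fun lim =>
  forceN (M / Nat.gcd M g) fun P =>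
  match (List.range P).find? fun j : ℕ => Nat.beq (g * j % M) r with
  | none => []
  | some j0 => forceN j0 fun j0 => forceN (lim / (g * P) + 1) fun L =>
      ((List.range (2 * L + 1)).map fun m : ℕ => (g : ℤ) * ((j0 : ℤ) + (P : ℤ) * ((m : ℤ) - (L : ℤ)))).filter
        fun A => decide (A.natAbs ≤ lim)

/-- The bound for values of degree at most `15646` with square at most `C`. -/
def lim14 (C : ℕ) : ℕ := sqrtAux C 14 0

/-- The values of a member of the block for `5`. -/
def opts5 (i s : ℕ) (x : ℤ) : List ℤ :=
  stepList 20 i s x.natAbs ((5 * (x.natAbs : ℤ) + 16 * sgn x) % 20).toNat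

/-- The values of a member of the block for `11`. -/
def opts11 (i s : ℕ) (x : ℤ) : List ℤ :=
  stepList 44 i s x.natAbs ((33 * (x.natAbs : ℤ) + 12 * sgn x) % 44).toNat

/-- A signed degree `≡ 5` modulo `11` occurring twice. -/
def dup5 (xs : List ℤ) : Bool := xs.any fun x => decide (x % 11 = 5) && decide (2 ≤ xs.count x)

/-- A common member of the blocks for `5` and `11` is possible. -/
def relevant (xs : List ℤ) : Bool := xs.any (fun x => decide (x % 11 = 10)) || dup5 xs

/-- The lists left to the prime `7`. -/
def listA : List ℤ := [-24, 46, 736, -759]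

/-- The second list left to the prime `7`. -/
def listB : List ℤ := [-24, 736, 1771, -2484]

/-- A value is possible for a member of the block for `5`. -/
def val5 (C : ℕ) (x A : ℤ) : Bool :=
  decide ((A - sgn x) % 5 = 0) && decide (((x.natAbs : ℤ) - A) % 4 = 0) && decide (A.natAbs < x.natAbs) &&
    decide (A * A ≤ (C : ℤ)) && decide (((244823040 / C : ℕ) : ℤ) * A % (x.natAbs : ℤ) = 0)

/-- The values do not fit, for a list of four. -/
def noVals5 (ks : List ℕ) (C : ℕ) : List ℤ → Bool
  | [x₁, x₂, x₃, x₄] =>
    forceN (244823040 / C) fun i => forceN (lim14 C) fun s =>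
    forceL (opts5 i s x₁) fun l₁ => l₁.isEmpty || forceL (opts5 i s x₂) fun l₂ => l₂.isEmpty ||
    forceL (opts5 i s x₃) fun l₃ => l₁.all fun A₁ => l₂.all fun A₂ => l₃.all fun A₃ =>
      forceI (-sgn x₄ * (1 + sgn x₁ * A₁ + sgn x₂ * A₂ + sgn x₃ * A₃)) fun A₄ =>
        !val5 C x₄ A₄ ||
        decide ((C : ℤ) < 1 + A₁ * A₁ + A₂ * A₂ + A₃ * A₃ + A₄ * A₄) ||
        !(dup5 [x₁, x₂, x₃, x₄] || ([(x₁, A₁), (x₂, A₂), (x₃, A₃), (x₄, A₄)].any fun a =>
          decide (a.1 % 11 = 10) && decide ((sgn a.1 * a.2 + 1) % 11 = 0))) ||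
        ks.all fun k => (let r := fracSum [x₁, x₂, x₃, x₄] [A₁, A₂, A₃, A₄]
         forceI (((244823040 * k * 5 : ℕ) : ℤ) * r.1 * r.2) fun v => forceI ((C : ℤ) * r.2) fun w =>
           decide (v < 0) || decide (v % (w * w) ≠ 0) || !isSq v.natAbs)
  | _ => false

/-- The lists to be killed by the values at an involution. -/
def table5 : List (List ℤ) :=
  [[-69, -184, -5544, 5796], [161, -414, -5544, 5796], [506, -759, -5544, 5796], [1771, -2024, -5544, 5796],
   [-24, -69, -644, 736], [-24, 736, 736, -1449], [-644, -644, -5544, 6831], [736, 1771, 3036, -5544],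
   [736, -2024, -5544, 6831], [-5544, 5796, 6831, -7084], [-69, 896, 5796, -6624], [-184, 736, 896, -1449],
   [-69, 5796, 8096, -13824]]

/-- The values of `k` for the lists of the table. -/
def kTable : List ℕ := [2, 12, 32, 72, 192]

/-- The list is killed, or goes to one of the later steps. -/
def ok5 (k : ℕ) (xs : List ℤ) : Bool :=
  !relevant xs || listA.isPerm xs || (listB.isPerm xs && decide (k % 7 ≠ 0)) ||
    (xs.all (fun x => decide (x % 11 ≠ 10)) &&
      xs.all (fun x => decide (x % 11 ≠ 5) || decide (xs.count x < 2) || decide (x = 126) || decide (x = 896))) ||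
    (kTable.contains k && table5.any fun l => l.isPerm xs)

/-- The values at an involution kill a list of the table. -/
def dead5 (xs : List ℤ) : Bool :=
  cents11.all fun C =>
    (cents13.contains C && !dup5 xs && decide ((xs.filter fun x => decide (x % 11 = 10)) = [5796])) ||
      noVals5 kTable C xs

/-- The check for a triple of the prime `5`. -/
def check5 (c e k : ℕ) : Bool :=
  forceL ((fastX 5 k (e * c)).filter kp23) fun X =>
    if e = 2 then forceL ((fastY 5 k (e * c) e).filter kp23) fun Y => e2Dead 5 k X Y
    else (quads X).all (ok5 k)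

/-- The values do not fit, for a block for `11` with `e = 5`. -/
def noVals11 (k C : ℕ) : List ℤ → ℤ → Bool
  | [x₁, x₂, x₃, x₄], y =>
    forceN (244823040 / C) fun i => forceN (lim14 C) fun s =>
    forceL (opts11 i s x₁) fun l₁ => l₁.isEmpty || forceL (opts11 i s x₂) fun l₂ => l₂.isEmpty ||
    forceL (opts11 i s x₃) fun l₃ => l₃.isEmpty || forceL (opts11 i s x₄) fun l₄ =>
    l₁.all fun A₁ => l₂.all fun A₂ => l₃.all fun A₃ => l₄.all fun A₄ =>
        let o : Opt := ⟨11, k, 5, [x₁, x₂, x₃, x₄], some y⟩
        let Y := yVal o [A₁, A₂, A₃, A₄]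
        decide (y.natAbs ≤ Y.natAbs) || decide (((y.natAbs : ℤ) - Y) % 4 ≠ 0) ||
          decide (((244823040 / C : ℕ) : ℤ) * Y % (y.natAbs : ℤ) ≠ 0) ||
          decide ((C : ℤ) < 1 + A₁ * A₁ + A₂ * A₂ + A₃ * A₃ + A₄ * A₄ + 2 * (Y * Y)) ||
          decide ((tFrac o [A₁, A₂, A₃, A₄] Y).1 ≠ 0)
  | _, _ => false

/-- The check for a triple of the prime `11` with `e = 5`. -/
def check11five (c k : ℕ) : Bool :=
  forceL ((fastX 11 k (5 * c)).filter fun x => kp23 x && decide (x ≠ 45)) fun X =>
  forceL ((fastY 11 k (5 * c) 5).filter kp23) fun Y =>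
    inRange X && (forceN (sumBits X 4) fun S =>
      Y.all fun y => (decide (y ≠ 126) && decide (y ≠ 896)) || noBit S 4 (y - 1)) &&
    (!X.contains (-5796) || forceN (bitsOf Y) fun B => (triples X).all fun s =>
      !B.testBit (1 + (-5796 + s.sum) + (off : ℤ)).toNat || cents13.all fun C => noVals11 k C (-5796 :: s) (1 + (-5796 + s.sum)))

/-- The check for the triple of the prime `11` with `e = 10` and `k = 12`. -/
def check11ten (c k : ℕ) : Bool :=
  forceL ((fastX 11 k (10 * c)).filter kp23) fun X => cents13.all fun C =>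
    forceN (244823040 / C) fun i => forceN (lim14 C) fun s => X.all fun x =>
    (opts11 i s x).isEmpty || decide (x % 23 = 0) || decide (x % 23 = 1)

/-- No values at an involution fit the block for `7` with the degrees `69`, `92`, `24`. -/
def free7 : Bool :=
  ((List.range 137).map fun i : ℕ => (i : ℤ) - 68).all fun A => decide ((69 - A) % 4 ≠ 0) ||
    ((List.range 183).map fun i : ℕ => (i : ℤ) - 91).all fun B => decide ((92 - B) % 4 ≠ 0) ||
      decide (24 ≤ (1 - A + B).natAbs) || decide (552 - 8 * (A * A) + 6 * (B * B) - 23 * ((1 - A + B) * (1 - A + B)) ≠ 0)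

end CfsgLib.M24Order
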