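import Cfsg.Agent.Lib.M24Order.Fast
import Cfsg.Agent.Lib.M24Order.Keys11Defs

/-!
# Simple groups of order 244823040: soundness of the computations for the primes 11, 7 and 5
-/

set_option autoImplicit false
set_option linter.unusedSectionVars false
set_option linter.style.haveILetI false

namespace CfsgLib.M24Order

open Cfsg
open CfsgLib CfsgLib.BrauerTuan CfsgLib.OrderBlocks

theorem forceN_eq {α : Type} : ∀ (n : ℕ) (f : ℕ → α), forceN n f = f n
  | 0, _ => rfl
  | _ + 1, _ => rfl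

theorem forceI_eq {α : Type} : ∀ (x : ℤ) (f : ℤ → α), forceI x f = f x
  | .ofNat 0, _ => rfl
  | .ofNat (_ + 1), _ => rfl
  | .negSucc 0, _ => rfl
  | .negSucc (_ + 1), _ => rfl

theorem forceL_eq {α : Type} : ∀ (l : List ℤ) (f : List ℤ → α), forceL l f = f l
  | [], _ => rfl
  | a :: l, f => by simp only [forceL, forceI_eq, forceL_eq l]

theorem sqrtAux_spec (v a : ℕ) (ha : a * a ≤ v) : ∀ (j lo : ℕ), lo * lo ≤ v → a < lo + 2 ^ j →
    a ≤ sqrtAux v j lo ∧ sqrtAux v j lo * sqrtAux v j lo ≤ v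
  | 0, lo, hlo, h => ⟨by rw [pow_zero] at h; simp only [sqrtAux]; omega, hlo⟩
  | j + 1, lo, hlo, h => by
    simp only [sqrtAux]
    split_ifs with hc
    · exact sqrtAux_spec v a ha j _ hc (by rw [pow_succ] at h; omega)
    · refine sqrtAux_spec v a ha j _ hlo ?_
      by_contra hh
      exact hc ((Nat.mul_le_mul (Nat.not_lt.mp hh) (Nat.not_lt.mp hh)).trans ha)

theorem isSq_of_sq (s : ℕ) : isSq (s * s) = true := by
  rw [isSq, Bool.or_eq_true, decide_eq_true_eq, decide_eq_true_eq]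
  by_cases h : 2 ^ 256 ≤ s * s
  · exact Or.inl h
  refine Or.inr ?_
  have hs : s < 0 + 2 ^ 128 := by
    by_contra hh
    exact h (le_trans (by norm_num) (Nat.mul_le_mul (Nat.not_lt.mp hh) (Nat.not_lt.mp hh)))
  obtain ⟨h1, h2⟩ := sqrtAux_spec (s * s) s le_rfl 128 0 (Nat.zero_le _) hs
  rw [← le_antisymm h1 (Nat.mul_self_le_mul_self_iff.mp h2)]

theorem le_lim14 {C : ℕ} {A : ℤ} (hA : A * A ≤ (C : ℤ)) (hlt : A.natAbs < 2 ^ 14) : A.natAbs ≤ lim14 C := by
  refine (sqrtAux_spec C A.natAbs ?_ 14 0 (Nat.zero_le _) (by omega)).1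
  have : ((A.natAbs * A.natAbs : ℕ) : ℤ) ≤ (C : ℤ) := by push_cast; rw [abs_mul_abs_self]; exact hA
  exact_mod_cast this

/-- The step in a value of degree `d`. -/
theorem dvd_value {i d : ℕ} {A : ℤ} (hd : 0 < d) (h : (d : ℤ) ∣ (i : ℤ) * A) :
    ((d / Nat.gcd i d : ℕ) : ℤ) ∣ A := by
  obtain ⟨H, hH⟩ : ∃ H, H = Nat.gcd i d := ⟨_, rfl⟩
  have hH0 : 0 < H := hH ▸ Nat.gcd_pos_of_pos_right _ hd
  rw [← hH]
  have h1 : d ∣ i * A.natAbs := by
    have := Int.natAbs_dvd_natAbs.mpr h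
    rwa [Int.natAbs_mul, Int.natAbs_natCast, Int.natAbs_natCast] at this
  obtain ⟨i', hi'⟩ : H ∣ i := hH ▸ Nat.gcd_dvd_left _ _
  have h2 : d / H ∣ i' * A.natAbs := by
    refine Nat.dvd_of_mul_dvd_mul_left hH0 ?_
    rw [← mul_assoc, ← hi', Nat.mul_div_cancel' (hH ▸ Nat.gcd_dvd_right _ _)]
    exact h1
  have hco : Nat.Coprime (d / H) i' := by
    have hgi : i / H = i' := by rw [hi', Nat.mul_div_cancel_left _ hH0]
    rw [← hgi, hH]
    exact (Nat.coprime_div_gcd_div_gcd (hH ▸ hH0)).symm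
  exact Int.natCast_dvd.mpr (hco.dvd_of_dvd_mul_left h2)

/-- A value is among the stepped ones. -/
theorem mem_stepList {M i s d r : ℕ} {A : ℤ} (hM : 0 < M) (hA : A.natAbs < d) (hs : A.natAbs ≤ s)
    (hω : (d : ℤ) ∣ (i : ℤ) * A) (hr : A % (M : ℤ) = (r : ℤ)) : A ∈ stepList M i s d r := by
  have hd : 0 < d := by omega
  obtain ⟨g, hg⟩ : ∃ g, g = d / Nat.gcd i d := ⟨_, rfl⟩
  obtain ⟨j, rfl⟩ := hg ▸ dvd_value hd hω
  have hg0 : 0 < g := hg ▸ Nat.div_pos (Nat.le_of_dvd hd (Nat.gcd_dvd_right _ _)) (Nat.gcd_pos_of_pos_right _ hd)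
  obtain ⟨P, hP⟩ : ∃ P, P = M / Nat.gcd M g := ⟨_, rfl⟩
  have hP0 : 0 < P := hP ▸ Nat.div_pos (Nat.le_of_dvd hM (Nat.gcd_dvd_left _ _)) (Nat.gcd_pos_of_pos_left _ hM)
  have hper : (M : ℤ) ∣ (g : ℤ) * P := by
    refine Int.natCast_dvd_natCast.mpr ?_ |>.trans (dvd_of_eq (Nat.cast_mul g P))
    rw [hP, ← Nat.mul_div_assoc _ (Nat.gcd_dvd_left _ _), Nat.mul_comm, Nat.mul_div_assoc _ (Nat.gcd_dvd_right _ _)]
    exact dvd_mul_right _ _
  simp only [stepList, forceN_eq, ← hg, ← hP]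
  cases hf : (List.range P).find? fun j : ℕ => Nat.beq (g * j % M) r with
  | none =>
    exfalso
    have h0 := List.find?_eq_none.mp hf (j % P).toNat
      (List.mem_range.mpr (by have := Int.emod_lt_of_pos j (show (0 : ℤ) < P by omega); omega))
    refine h0 ?_
    rw [Nat.beq_eq, ← Int.natCast_inj, Int.natCast_mod, Nat.cast_mul,
      Int.toNat_of_nonneg (Int.emod_nonneg _ (by omega)), ← hr]
    refine Int.emod_eq_emod_iff_emod_sub_eq_zero.mpr (Int.emod_eq_zero_of_dvd ?_)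
    rw [← mul_sub, show j % (P : ℤ) - j = (P : ℤ) * -(j / P) by
      have := Int.emod_add_mul_ediv j (P : ℤ); linarith, ← mul_assoc]
    exact dvd_mul_of_dvd_left hper _
  | some j0 =>
    have h1 := List.find?_some hf
    have h2 := List.mem_range.mp (List.mem_of_find?_eq_some hf)
    rw [Nat.beq_eq, ← Int.natCast_inj, Int.natCast_mod, Nat.cast_mul, ← hr] at h1
    obtain ⟨q, hq⟩ : (P : ℤ) ∣ j - j0 := by
      have h3 := Int.ModEq.cancel_left_div_gcd (c := (g : ℤ)) (a := (j0 : ℤ)) (b := j) (m := (M : ℤ))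
        (by omega) h1
      rw [Int.gcd_natCast_natCast, ← Int.natCast_div, ← hP] at h3
      exact Int.ModEq.dvd h3
    have hjb : g * j.natAbs ≤ min (d - 1) s := by
      rw [show g * j.natAbs = ((g : ℤ) * j).natAbs by rw [Int.natAbs_mul, Int.natAbs_natCast]]
      omega
    have hq' : q.natAbs ≤ min (d - 1) s / (g * P) + 1 := by
      rcases Nat.eq_zero_or_pos q.natAbs with h | h
      · rw [h]; exact Nat.zero_le _
      rw [← Nat.div_div_eq_div_mul]
      have e : P * q.natAbs ≤ j.natAbs + j0 := by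
        rw [show P * q.natAbs = (j - j0).natAbs by rw [hq, Int.natAbs_mul, Int.natAbs_natCast]]
        omega
      have e2 : (q.natAbs - 1) * P ≤ min (d - 1) s / g := by
        refine le_trans ?_ ((Nat.le_div_iff_mul_le hg0).mpr (by rwa [Nat.mul_comm] at hjb))
        rw [Nat.sub_mul, Nat.mul_comm q.natAbs, one_mul]
        omega
      have := (Nat.le_div_iff_mul_le hP0).mpr e2
      omega
    simp only [List.mem_filter, List.mem_map, List.mem_range, decide_eq_true_eq, forceN_eq]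
    refine ⟨⟨(q + (min (d - 1) s / (g * P) + 1 : ℕ)).toNat, by omega, ?_⟩, ?_⟩
    · rw [Int.toNat_of_nonneg (by omega), add_sub_cancel_right, ← hq]
      ring
    · rw [Int.natAbs_mul, Int.natAbs_natCast]
      omega

theorem mem_opts5 {i s : ℕ} {x A : ℤ} (h5 : (A - sgn x) % 5 = 0) (h4 : ((x.natAbs : ℤ) - A) % 4 = 0)
    (hA : A.natAbs < x.natAbs) (hs : A.natAbs ≤ s) (hω : (x.natAbs : ℤ) ∣ (i : ℤ) * A) : A ∈ opts5 i s x := by
  refine mem_stepList (by norm_num) hA hs hω ?_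
  rw [Int.toNat_of_nonneg (by omega)]
  simp only [Nat.cast_ofNat]
  unfold sgn at h5 ⊢
  split_ifs at h5 ⊢ <;> omega

theorem mem_opts11 {i s : ℕ} {x A : ℤ} (h11 : (A - sgn x) % 11 = 0) (h4 : ((x.natAbs : ℤ) - A) % 4 = 0)
    (hA : A.natAbs < x.natAbs) (hs : A.natAbs ≤ s) (hω : (x.natAbs : ℤ) ∣ (i : ℤ) * A) : A ∈ opts11 i s x := by
  refine mem_stepList (by norm_num) hA hs hω ?_
  rw [Int.toNat_of_nonneg (by omega)]
  simp only [Nat.cast_ofNat]
  unfold sgn at h11 ⊢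
  split_ifs at h11 ⊢ <;> omega

/-- What is known about the value `a.2` of a member of signed degree `a.1` at the involution. -/
structure ValOK (p C : ℕ) (a : ℤ × ℤ) : Prop where
  cong : (a.2 - sgn a.1) % (p : ℤ) = 0
  four : ((a.1.natAbs : ℤ) - a.2) % 4 = 0
  lt : a.2.natAbs < a.1.natAbs
  small : a.1.natAbs ≤ 15646
  sq : a.2 * a.2 ≤ (C : ℤ)
  omega : ((244823040 / C : ℕ) : ℤ) * a.2 % (a.1.natAbs : ℤ) = 0

theorem ValOK.le_lim {p C : ℕ} {a : ℤ × ℤ} (h : ValOK p C a) : a.2.natAbs ≤ lim14 C := by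
  have := h.lt
  have := h.small
  exact le_lim14 h.sq (by norm_num; omega)

theorem isEmpty_false_of_mem {a : ℤ} {l : List ℤ} (h : a ∈ l) : l.isEmpty = false := by
  cases l <;> simp_all

/-- Values fitting a list of four contradict the check for `5`. -/
theorem false_of_noVals5 {ks : List ℕ} {C k : ℕ} {a₁ a₂ a₃ a₄ : ℤ × ℤ} (hk : k ∈ ks)
    (h : noVals5 ks C [a₁.1, a₂.1, a₃.1, a₄.1] = true) (v₁ : ValOK 5 C a₁) (v₂ : ValOK 5 C a₂)
    (v₃ : ValOK 5 C a₃) (v₄ : ValOK 5 C a₄)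
    (hrel : 1 + sgn a₁.1 * a₁.2 + sgn a₂.1 * a₂.2 + sgn a₃.1 * a₃.2 + sgn a₄.1 * a₄.2 = 0)
    (hQ : 1 + a₁.2 * a₁.2 + a₂.2 * a₂.2 + a₃.2 * a₃.2 + a₄.2 * a₄.2 ≤ (C : ℤ))
    (hcom : dup5 [a₁.1, a₂.1, a₃.1, a₄.1] = true ∨
      ∃ a ∈ [a₁, a₂, a₃, a₄], a.1 % 11 = 10 ∧ (sgn a.1 * a.2 + 1) % 11 = 0)
    (hsq : ∃ m : ℕ, ((244823040 * k * 5 : ℕ) : ℤ) * (fracSum [a₁.1, a₂.1, a₃.1, a₄.1] [a₁.2, a₂.2, a₃.2, a₄.2]).1 =
      ((m * m : ℕ) : ℤ) * ((C : ℤ) * (C : ℤ)) * (fracSum [a₁.1, a₂.1, a₃.1, a₄.1] [a₁.2, a₂.2, a₃.2, a₄.2]).2) :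
    False := by
  have e4 : -sgn a₄.1 * (1 + sgn a₁.1 * a₁.2 + sgn a₂.1 * a₂.2 + sgn a₃.1 * a₃.2) = a₄.2 := by
    have : sgn a₄.1 * sgn a₄.1 = 1 := by unfold sgn; split_ifs <;> norm_num
    linear_combination (-sgn a₄.1) * hrel + a₄.2 * this
  have m₁ := mem_opts5 v₁.cong v₁.four v₁.lt v₁.le_lim (Int.dvd_of_emod_eq_zero v₁.omega)
  have m₂ := mem_opts5 v₂.cong v₂.four v₂.lt v₂.le_lim (Int.dvd_of_emod_eq_zero v₂.omega)
  have m₃ := mem_opts5 v₃.cong v₃.four v₃.lt v₃.le_lim (Int.dvd_of_emod_eq_zero v₃.omega)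
  simp only [noVals5, forceN_eq, forceI_eq, forceL_eq, isEmpty_false_of_mem m₁, isEmpty_false_of_mem m₂,
    Bool.false_or, List.all_eq_true] at h
  have h' := h _ m₁ _ m₂ _ m₃
  rw [e4] at h'
  have hval : val5 C a₄.1 a₄.2 = true := by
    simp only [val5, Bool.and_eq_true, decide_eq_true_eq]
    exact ⟨⟨⟨⟨v₄.cong, v₄.four⟩, v₄.lt⟩, v₄.sq⟩, v₄.omega⟩
  simp only [hval, Bool.not_true, Bool.false_or, Bool.or_eq_true, decide_eq_true_eq, Bool.not_eq_true',
    List.all_eq_true] at h'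
  rcases h' with (h' | h') | h'
  · omega
  · rw [Bool.or_eq_false_iff, List.any_eq_false] at h'
    rcases hcom with hcom | ⟨a, ha, h1, h2⟩
    · rw [h'.1] at hcom; exact Bool.false_ne_true hcom
    · exact h'.2 a ha (by simp only [h1, h2, decide_true, Bool.and_self])
  · obtain ⟨r, hr⟩ : ∃ r, r = fracSum [a₁.1, a₂.1, a₃.1, a₄.1] [a₁.2, a₂.2, a₃.2, a₄.2] := ⟨_, rfl⟩
    obtain ⟨m, hm⟩ := hsq
    have h2 := h' k hk
    rw [← hr] at h2 hm
    have hv : ((244823040 * k * 5 : ℕ) : ℤ) * r.1 * r.2 = ((m : ℤ) * C * r.2) * ((m : ℤ) * C * r.2) := by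
      rw [hm]; push_cast; ring
    rw [hv] at h2
    rcases h2 with (h2 | h2) | h2
    · exact absurd (mul_self_nonneg _) (not_le.mpr h2)
    · refine h2 (Int.emod_eq_zero_of_dvd ⟨(m : ℤ) * m, by ring⟩)
    · rw [Int.natAbs_mul, isSq_of_sq] at h2
      exact Bool.noConfusion h2

/-- Values fitting a block for `11` with `e = 5` contradict the check. -/
theorem false_of_noVals11 {k C : ℕ} {a₁ a₂ a₃ a₄ : ℤ × ℤ} {y : ℤ}
    (h : noVals11 k C [a₁.1, a₂.1, a₃.1, a₄.1] y = true) (v₁ : ValOK 11 C a₁) (v₂ : ValOK 11 C a₂)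
    (v₃ : ValOK 11 C a₃) (v₄ : ValOK 11 C a₄) {Y : ℤ}
    (hY : Y = yVal ⟨11, k, 5, [a₁.1, a₂.1, a₃.1, a₄.1], some y⟩ [a₁.2, a₂.2, a₃.2, a₄.2])
    (hlt : Y.natAbs < y.natAbs) (h4 : ((y.natAbs : ℤ) - Y) % 4 = 0)
    (hω : ((244823040 / C : ℕ) : ℤ) * Y % (y.natAbs : ℤ) = 0)
    (hQ : 1 + a₁.2 * a₁.2 + a₂.2 * a₂.2 + a₃.2 * a₃.2 + a₄.2 * a₄.2 + 2 * (Y * Y) ≤ (C : ℤ))
    (hT : (tFrac ⟨11, k, 5, [a₁.1, a₂.1, a₃.1, a₄.1], some y⟩ [a₁.2, a₂.2, a₃.2, a₄.2] Y).1 = 0) : False := by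
  have m₁ := mem_opts11 v₁.cong v₁.four v₁.lt v₁.le_lim (Int.dvd_of_emod_eq_zero v₁.omega)
  have m₂ := mem_opts11 v₂.cong v₂.four v₂.lt v₂.le_lim (Int.dvd_of_emod_eq_zero v₂.omega)
  have m₃ := mem_opts11 v₃.cong v₃.four v₃.lt v₃.le_lim (Int.dvd_of_emod_eq_zero v₃.omega)
  have m₄ := mem_opts11 v₄.cong v₄.four v₄.lt v₄.le_lim (Int.dvd_of_emod_eq_zero v₄.omega)
  simp only [noVals11, forceN_eq, forceL_eq, isEmpty_false_of_mem m₁, isEmpty_false_of_mem m₂,
    isEmpty_false_of_mem m₃, Bool.false_or, List.all_eq_true] at h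
  have h' := h _ m₁ _ m₂ _ m₃ _ m₄
  simp only [← hY, Bool.or_eq_true, decide_eq_true_eq] at h'
  rcases h' with (((h' | h') | h') | h') | h'
  · omega
  · exact h' h4
  · exact h' hω
  · omega
  · exact h' hT

theorem le_testBit_foldr {i : ℕ} (f : ℤ → ℕ) : ∀ (X : List ℤ) (x : ℤ), x ∈ X → (f x).testBit i = true →
    (X.foldr (fun x acc => f x ||| acc) 0).testBit i = true
  | a :: X, x, hx, h => by
    simp only [List.foldr_cons, Nat.testBit_lor, Bool.or_eq_true]
    rcases List.mem_cons.mp hx with rfl | hx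
    · exact Or.inl h
    · exact Or.inr (le_testBit_foldr f X x hx h)

theorem neg_le_sum {B : ℤ} : ∀ L : List ℤ, (∀ x ∈ L, -B ≤ x) → 0 ≤ L.sum + (L.length : ℤ) * B
  | [], _ => by simp
  | a :: L, h => by
    have := neg_le_sum L fun x hx => h x (List.mem_cons_of_mem _ hx)
    have := h a List.mem_cons_self
    simp only [List.sum_cons, List.length_cons, Nat.cast_succ, add_mul, one_mul]
    omega

theorem testBit_sumBits {X : List ℤ} (hX : inRange X = true) : ∀ L : List ℤ, (∀ x ∈ L, x ∈ X) →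
    (sumBits X L.length).testBit (L.sum + (L.length : ℤ) * (off : ℤ)).toNat = true
  | [], _ => by simp [sumBits]
  | a :: L, h => by
    have hr : ∀ x ∈ X, -(off : ℤ) ≤ x := fun x hx => by
      have := List.all_eq_true.mp hX x hx
      rw [decide_eq_true_eq] at this
      omega
    have ha := h a List.mem_cons_self
    have h0 := neg_le_sum L fun x hx => hr x (h x (List.mem_cons_of_mem _ hx))
    simp only [List.length_cons, sumBits, forceN_eq]
    refine le_testBit_foldr (fun x => sumBits X L.length <<< (x + (off : ℤ)).toNat) X a ha ?_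
    have := hr a ha
    rw [Nat.testBit_shiftLeft, Bool.and_eq_true, decide_eq_true_eq]
    have e : ((a :: L).sum + ((L.length + 1 : ℕ) : ℤ) * (off : ℤ)).toNat =
        (a + (off : ℤ)).toNat + (L.sum + (L.length : ℤ) * (off : ℤ)).toNat := by
      simp only [List.sum_cons, Nat.cast_succ, add_mul, one_mul]
      omega
    rw [e, Nat.add_sub_cancel_left]
    exact ⟨Nat.le_add_right _ _, testBit_sumBits hX L fun x hx => h x (List.mem_cons_of_mem _ hx)⟩

theorem testBit_bitsOf {X : List ℤ} {x : ℤ} (hx : x ∈ X) : (bitsOf X).testBit (x + (off : ℤ)).toNat = true :=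
  le_testBit_foldr (fun x => 1 <<< (x + (off : ℤ)).toNat) X x hx (by simp [Nat.testBit_shiftLeft])

theorem not_noBit {X L : List ℤ} (hX : inRange X = true) (h : ∀ x ∈ L, x ∈ X) {m : ℕ} (hm : L.length = m) :
    noBit (sumBits X m) m L.sum = false := by
  subst hm
  simp [noBit, testBit_sumBits hX L h]

theorem false_of_infeasB {p k e : ℕ} {X Y xs : List ℤ} {y : Option ℤ} (h : Fits p k e X Y xs y)
    (hb : infeasB p e X Y = true) : False := by
  simp only [infeasB, forceN_eq, Bool.and_eq_true] at hb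
  obtain ⟨hX, hb⟩ := hb
  split_ifs at hb with he
  · obtain ⟨-, h1, h2⟩ := h.one he
    rw [← h2, not_noBit hX h.mem h1] at hb
    exact Bool.false_ne_true hb
  · obtain ⟨y', -, h1, h2, h3⟩ := h.more he
    have := List.all_eq_true.mp hb y' h1
    rw [show y' - 1 = xs.sum by omega, not_noBit hX h.mem h2] at this
    exact Bool.false_ne_true this

theorem mem_pairs : ∀ (X : List ℤ) (a b : ℤ), a ∈ X → b ∈ X → [a, b] ∈ pairs X ∨ [b, a] ∈ pairs X
  | c :: X, a, b, ha, hb => by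
    simp only [pairs, List.mem_append, List.mem_map]
    rcases List.mem_cons.mp ha with rfl | ha'
    · exact Or.inl (Or.inl ⟨b, hb, rfl⟩)
    rcases List.mem_cons.mp hb with rfl | hb'
    · exact Or.inr (Or.inl ⟨a, ha, rfl⟩)
    exact (mem_pairs X a b ha' hb').imp Or.inr Or.inr

theorem exists_pairs {X : List ℤ} {a b : ℤ} (ha : a ∈ X) (hb : b ∈ X) : ∃ s ∈ pairs X, s.Perm [a, b] := by
  rcases mem_pairs X a b ha hb with h | h
  · exact ⟨_, h, List.Perm.refl _⟩
  · exact ⟨_, h, List.Perm.swap _ _ _⟩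

theorem exists_triples : ∀ (X : List ℤ) (s : List ℤ), s.length = 3 → (∀ a ∈ s, a ∈ X) → ∃ t ∈ triples X, t.Perm s
  | [], a :: _, _, h => absurd (h a List.mem_cons_self) List.not_mem_nil
  | c :: X, s, hs, h => by
    by_cases hc : c ∈ s
    · have hp := List.perm_cons_erase hc
      obtain ⟨a, b, hab⟩ := List.length_eq_two.mp
        (show (s.erase c).length = 2 by rw [List.length_erase_of_mem hc, hs])
      obtain ⟨q, hq, hqp⟩ := exists_pairs (h a (List.mem_of_mem_erase (hab ▸ List.mem_cons_self)))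
        (h b (List.mem_of_mem_erase (a := b) (b := c) (l := s) (by rw [hab]; simp)))
      refine ⟨c :: q, ?_, (hqp.cons c).trans (hab ▸ hp).symm⟩
      simp only [triples, List.mem_append, List.mem_map]
      exact Or.inl ⟨q, hq, rfl⟩
    · obtain ⟨t, ht, htp⟩ := exists_triples X s hs fun a ha => by
        rcases List.mem_cons.mp (h a ha) with rfl | h'
        · exact absurd ha hc
        · exact h'
      exact ⟨t, by simp only [triples, List.mem_append]; exact Or.inr ht, htp⟩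

theorem max_last (a b c : ℤ) : ∃ a' b' c', [a', b', c'].Perm [a, b, c] ∧ a' ≤ c' ∧ b' ≤ c' := by
  by_cases h1 : a ≤ c ∧ b ≤ c
  · exact ⟨a, b, c, List.Perm.refl _, h1⟩
  by_cases h2 : a ≤ b
  · exact ⟨a, c, b, (List.Perm.swap _ _ _).cons a, h2, by omega⟩
  · exact ⟨b, c, a, (List.perm_append_comm (l₁ := [b, c]) (l₂ := [a])), by omega, by omega⟩

/-- The relevant lists are among the candidates. -/
theorem exists_quads {X xs : List ℤ} (hlen : xs.length = 4) (hX : ∀ x ∈ xs, x ∈ X) (hsum : xs.sum = -1)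
    (hrel : relevant xs = true) : ∃ q ∈ quads X, q.Perm xs := by
  simp only [quads, forceN_eq, List.mem_append, List.mem_flatMap, List.mem_filterMap, List.mem_filter,
    decide_eq_true_eq]
  simp only [relevant, dup5, Bool.or_eq_true, List.any_eq_true, Bool.and_eq_true, decide_eq_true_eq] at hrel
  rcases hrel with ⟨x, hx, hx10⟩ | ⟨x, hx, hx5, hcnt⟩
  · have hp := List.perm_cons_erase hx
    obtain ⟨a, b, c, habc⟩ := List.length_eq_three.mp
      (show (xs.erase x).length = 3 by rw [List.length_erase_of_mem hx, hlen])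
    rw [habc] at hp
    obtain ⟨a', b', c', hperm, ha, hb⟩ := max_last a b c
    have hmem : ∀ u ∈ [a', b', c'], u ∈ X := fun u hu => hX u (hp.symm.subset (List.mem_cons_of_mem _ (hperm.subset hu)))
    obtain ⟨s, hs, hsp⟩ := exists_pairs (hmem a' (by simp)) (hmem b' (by simp))
    have hsum' : -1 - x - s.sum = c' := by
      have e1 := hp.sum_eq
      have e2 := hperm.sum_eq
      have e3 := hsp.sum_eq
      simp only [List.sum_cons, List.sum_nil] at e1 e2 e3
      omega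
    refine ⟨x :: (s ++ [c']), Or.inl ⟨x, ⟨hX x hx, hx10⟩, s, hs, ?_⟩, ?_⟩
    · rw [hsum', if_pos]
      rw [Bool.and_eq_true, List.all_eq_true]
      refine ⟨testBit_bitsOf (hmem c' (by simp)), fun u hu => decide_eq_true ?_⟩
      rcases List.mem_cons.mp (hsp.subset hu) with rfl | hu'
      · exact ha
      · rw [List.mem_singleton] at hu'; exact hu' ▸ hb
    · exact ((((hsp.append_right [c']).trans hperm).cons x).trans hp.symm)
  · have hp := List.perm_cons_erase hx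
    have hx' : x ∈ xs.erase x := List.count_pos_iff.mp (by rw [List.count_erase_self]; omega)
    have hp' := List.perm_cons_erase hx'
    obtain ⟨a, b, hab⟩ := List.length_eq_two.mp (show ((xs.erase x).erase x).length = 2 by
      rw [List.length_erase_of_mem hx', List.length_erase_of_mem hx, hlen])
    rw [hab] at hp'
    have hall := hp.trans (hp'.cons x)
    have hsum' : -1 - x - x - a = b := by
      have e1 := hall.sum_eq
      simp only [List.sum_cons, List.sum_nil] at e1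
      omega
    refine ⟨[x, x, a, b], Or.inr ⟨x, ⟨hX x hx, hx5⟩, a, hX a (hall.symm.subset (by simp)), ?_⟩, hall.symm⟩
    rw [hsum', if_pos (testBit_bitsOf (hX b (hall.symm.subset (by simp))))]

/-- The values at an involution fit no block for `7` with the degrees `69`, `92`, `24`. -/
theorem false_of_free7 {A B : ℤ} (hA : A.natAbs < 69) (hB : B.natAbs < 92) (hY : (1 - A + B).natAbs < 24)
    (hA4 : (69 - A) % 4 = 0) (hB4 : (92 - B) % 4 = 0)
    (hT : 552 - 8 * (A * A) + 6 * (B * B) - 23 * ((1 - A + B) * (1 - A + B)) = 0) (hkey : free7 = true) : False := by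
  simp only [free7, List.all_eq_true, List.mem_map, List.mem_range, Bool.or_eq_true, decide_eq_true_eq,
    forall_exists_index, and_imp] at hkey
  rcases hkey A (A + 68).toNat (by omega) (by omega) with h | h
  · exact h hA4
  rcases h B (B + 91).toNat (by omega) (by omega) with (h | h) | h
  · exact h hB4
  · omega
  · exact h hT

end CfsgLib.M24Order
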