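import Cfsg.Agent.Lib.M24Order.Dfs4Defs
import Cfsg.Agent.Lib.M24Order.Sound11

/-!
# A checked search for the values of a column: soundness
-/

set_option autoImplicit false
set_option linter.unusedSectionVars false
set_option linter.unusedSimpArgs false

namespace CfsgLib.M24Order.E3

open CfsgLib.M24Order

/-- The first linear sum. -/
def vsum : List Var → List ℤ → ℤ
  | V :: Vs, A :: As => V.s * A + vsum Vs As
  | _, _ => 0

/-- The quadratic sum. -/
def wsum : List Var → List ℤ → ℤ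
  | V :: Vs, A :: As => V.c * (A * A) + wsum Vs As
  | _, _ => 0

/-- The second linear sum. -/
def usum : List Var → List ℤ → ℤ
  | V :: Vs, A :: As => V.x * A + usum Vs As
  | _, _ => 0

/-- The weighted squares. -/
def msum : List Var → List ℤ → ℕ
  | V :: Vs, A :: As => V.m * (A * A).toNat + msum Vs As
  | _, _ => 0

/-- The order among unknowns marked equal, from a bound. -/
def OrdFrom : ℕ → List Var → List ℤ → Prop
  | prev, V :: Vs, A :: As =>
    (V.same = true → (prev : ℤ) ≤ biasV V + V.s * A) ∧ OrdFrom ((biasV V : ℤ) + V.s * A).toNat Vs As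
  | _, _, _ => True

/-- The values are options. -/
def Mem (Vs : List Var) (As : List ℤ) : Prop := List.Forall₂ (fun V A => A ∈ V.os) Vs As

theorem le_maxL : ∀ {l : List ℕ} {a : ℕ}, a ∈ l → a ≤ maxL l
  | b :: l, a, h => by
    show a ≤ Nat.max b (maxL l)
    rcases List.mem_cons.mp h with rfl | h
    · exact Nat.le_max_left _ _
    · exact (le_maxL h).trans (Nat.le_max_right _ _)

theorem minL_le : ∀ {l : List ℕ} {a : ℕ}, a ∈ l → minL l ≤ a
  | [b], a, h => by simp only [List.mem_singleton] at h; simp [minL, h]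
  | b :: c :: l, a, h => by
    show Nat.min b (minL (c :: l)) ≤ a
    rcases List.mem_cons.mp h with rfl | h
    · exact Nat.min_le_left _ _
    · exact (Nat.min_le_right _ _).trans (minL_le h)

theorem gcdL_dvd : ∀ {l : List ℕ} {a : ℕ}, a ∈ l → gcdL l ∣ a
  | b :: l, a, h => by
    simp only [gcdL]
    rcases List.mem_cons.mp h with rfl | h
    · exact Nat.gcd_dvd_left _ _
    · exact (Nat.gcd_dvd_right _ _).trans (gcdL_dvd h)

theorem natAbs_le_bias {f : ℤ → ℤ} {os : List ℤ} {A : ℤ} (h : A ∈ os) :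
    0 ≤ ((maxL (os.map fun a => (f a).natAbs) : ℕ) : ℤ) + f A := by
  have := le_maxL (List.mem_map.mpr ⟨A, h, rfl⟩ : (f A).natAbs ∈ os.map fun a => (f a).natAbs)
  omega

theorem sq_toNat (A : ℤ) : ((A * A).toNat : ℤ) = A * A := Int.toNat_of_nonneg (mul_self_nonneg A)

/-- A step of the inequality of Cauchy and Schwarz. -/
theorem cs_step {K p S i u I Q : ℤ} (hK : 0 ≤ K) (hi : 0 ≤ i) (hI : 0 ≤ I) (hu : 0 ≤ u) (hQ : 0 ≤ Q)
    (h1 : K * (p * p) ≤ i * u) (h2 : K * (S * S) ≤ I * Q) :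
    K * ((p + S) * (p + S)) ≤ (i + I) * (u + Q) := by
  have hx : 0 ≤ i * Q + I * u := add_nonneg (mul_nonneg hi hQ) (mul_nonneg hI hu)
  have h3 : (2 * (K * (p * S))) ^ 2 ≤ (i * Q + I * u) ^ 2 := by
    have h4 : K * (p * p) * (K * (S * S)) ≤ i * u * (I * Q) :=
      mul_le_mul h1 h2 (mul_nonneg hK (mul_self_nonneg S)) (mul_nonneg hi hu)
    nlinarith [sq_nonneg (i * Q - I * u)]
  have h5 : 2 * (K * (p * S)) ≤ i * Q + I * u :=
    (le_abs_self _).trans (abs_le_of_sq_le_sq h3 hx)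
  nlinarith

theorem ceil_mul (a m : ℕ) (hm : 0 < m) : a ≤ (a + m - 1) / m * m := by
  have := Nat.div_add_mod (a + m - 1) m
  have := Nat.mod_lt (a + m - 1) hm
  rw [Nat.mul_comm]
  omega

/-- What a level claims of the completions. -/
structure Valid (Vs : List Var) (l : Lvl) : Prop where
  bias : (l.bv, l.bw, l.bu) = biases Vs
  mn : ∀ As, Mem Vs As → l.mn ≤ msum Vs As
  inv : ∀ As, Mem Vs As → 2 * (vsum Vs As * vsum Vs As) ≤ (l.inv : ℤ) * msum Vs As
  ps : ∀ As, Mem Vs As → wsum Vs As ≤ (l.ps : ℤ) * msum Vs As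
  ng : ∀ As, Mem Vs As → -((l.ng : ℤ) * msum Vs As) ≤ wsum Vs As
  gl : ∀ As, Mem Vs As → (l.gl : ℤ) ∣ vsum Vs As
  gc : ∀ As, Mem Vs As → (l.gc : ℤ) ∣ wsum Vs As
  x2 : ∀ As, Mem Vs As → usum Vs As * usum Vs As ≤ (l.x2 : ℤ) * msum Vs As
  gx : ∀ As, Mem Vs As → (l.gx : ℤ) ∣ usum Vs As
  bits : l.bits ≠ 0 → ∀ As, Mem Vs As → ∃ a b c : ℕ, (a : ℤ) = l.bv + vsum Vs As ∧ (b : ℤ) = l.bw + wsum Vs As ∧
    (c : ℤ) = l.bu + usum Vs As ∧ l.bits.testBit (hashKey a b c) = true

theorem mkItems_eq (V : Var) : mkItems V = V.os.map fun a => ⟨a, ((biasV V : ℤ) + V.s * a).toNat,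
    ((biasW V : ℤ) + V.c * (a * a)).toNat, ((biasU V : ℤ) + V.x * a).toNat, V.m * (a * a).toNat⟩ := by
  simp only [mkItems, forceN_eq]

theorem step_facts {V : Var} (hV : 0 < V.m) {A : ℤ} (h : A ∈ V.os) :
    let q : ℤ := ((V.m * (A * A).toNat : ℕ) : ℤ)
    (lvl1 V).mn ≤ V.m * (A * A).toNat ∧
      2 * ((V.s * A) * (V.s * A)) ≤ ((lvl1 V).inv : ℤ) * q ∧
      V.c * (A * A) ≤ ((lvl1 V).ps : ℤ) * q ∧ -(((lvl1 V).ng : ℤ) * q) ≤ V.c * (A * A) ∧
      ((lvl1 V).gl : ℤ) ∣ V.s * A ∧ ((lvl1 V).gc : ℤ) ∣ V.c * (A * A) ∧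
      (V.x * A) * (V.x * A) ≤ ((lvl1 V).x2 : ℤ) * q ∧ ((lvl1 V).gx : ℤ) ∣ V.x * A := by
  intro q
  have hq : q = (V.m : ℤ) * (A * A) := by simp only [q, Nat.cast_mul, sq_toNat]
  have hAA := mul_self_nonneg A
  have hm : (0 : ℤ) < V.m := by exact_mod_cast hV
  have hce : (V.c.natAbs : ℤ) ≤ ((V.c.natAbs / V.m + 1 : ℕ) : ℤ) * V.m := by
    have := Nat.div_add_mod V.c.natAbs V.m
    have := Nat.mod_lt V.c.natAbs hV
    have h' : V.c.natAbs ≤ (V.c.natAbs / V.m + 1) * V.m := by rw [Nat.add_mul, one_mul, Nat.mul_comm]; omega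
    exact_mod_cast h'
  refine ⟨?_, ?_, ?_, ?_, ?_, ?_, ?_, ?_⟩
  · exact minL_le (List.mem_map.mpr ⟨A, h, rfl⟩)
  · have h' := ceil_mul (2 * (V.s * V.s).natAbs) V.m hV
    have h'' : 2 * ((V.s * V.s).natAbs : ℤ) ≤ ((lvl1 V).inv : ℤ) * V.m := by exact_mod_cast h'
    rw [Int.natAbs_of_nonneg (mul_self_nonneg _)] at h''
    rw [hq]
    nlinarith [mul_le_mul_of_nonneg_right h'' hAA]
  · rw [hq]
    simp only [lvl1]
    split_ifs with hc
    · rw [Int.natAbs_of_nonneg hc.le] at hce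
      nlinarith [mul_le_mul_of_nonneg_right hce hAA]
    · rw [Nat.cast_zero, zero_mul]
      exact mul_nonpos_iff.mpr (Or.inr ⟨not_lt.mp hc, hAA⟩)
  · rw [hq]
    simp only [lvl1]
    split_ifs with hc
    · rw [Int.ofNat_natAbs_of_nonpos hc.le] at hce
      nlinarith [mul_le_mul_of_nonneg_right hce hAA]
    · rw [Nat.cast_zero, zero_mul, neg_zero]
      exact mul_nonneg (not_lt.mp hc) hAA
  · exact Int.natCast_dvd.mpr (gcdL_dvd (List.mem_map.mpr ⟨A, h, rfl⟩))
  · exact Int.natCast_dvd.mpr (gcdL_dvd (List.mem_map.mpr ⟨A, h, rfl⟩))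
  · have h' := ceil_mul (V.x * V.x).natAbs V.m hV
    have h'' : ((V.x * V.x).natAbs : ℤ) ≤ ((lvl1 V).x2 : ℤ) * V.m := by exact_mod_cast h'
    rw [Int.natAbs_of_nonneg (mul_self_nonneg _)] at h''
    rw [hq]
    nlinarith [mul_le_mul_of_nonneg_right h'' hAA]
  · exact Int.natCast_dvd.mpr (gcdL_dvd (List.mem_map.mpr ⟨A, h, rfl⟩))

theorem valid_one {V : Var} (hV : 0 < V.m) : Valid [V] (lvl1 V) := by
  have hmem : ∀ As, Mem [V] As → ∃ A, A ∈ V.os ∧ As = [A] := by
    intro As h
    rcases h with _ | ⟨hA, hnil⟩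
    rcases hnil with _ | _
    exact ⟨_, hA, rfl⟩
  refine ⟨by simp [lvl1, biases], ?_, ?_, ?_, ?_, ?_, ?_, ?_, ?_, fun h => absurd rfl h⟩ <;> intro As hAs <;>
    obtain ⟨A, hA, rfl⟩ := hmem As hAs <;>
    obtain ⟨f1, f2, f3, f4, f5, f6, f7, f8⟩ := step_facts hV hA <;>
    simp only [msum, vsum, wsum, usum, add_zero] <;> assumption

theorem le_testBit_foldr' {β : Type} (g : β → ℕ → ℕ) (hg : ∀ b acc i, acc.testBit i = true → (g b acc).testBit i = true)
    {i : ℕ} : ∀ (l : List β) (b : β), b ∈ l → (∀ acc, (g b acc).testBit i = true) → (l.foldr g 0).testBit i = true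
  | c :: l, b, hb, h => by
    simp only [List.foldr_cons]
    rcases List.mem_cons.mp hb with rfl | hb
    · exact h _
    · exact hg _ _ _ (le_testBit_foldr' g hg l b hb h)

theorem testBit_bitsPair {a b : List Item} {i j : Item} (hi : i ∈ a) (hj : j ∈ b) :
    (bitsPair a b).testBit (hashKey (i.dv + j.dv) (i.dw + j.dw) (i.du + j.du)) = true := by
  have hin : ∀ (x : Item) (l : List Item) (acc n : ℕ), acc.testBit n = true →
      (l.foldr (fun y acc' =>
        Nat.lor (Nat.shiftLeft 1 (hashKey (x.dv + y.dv) (x.dw + y.dw) (x.du + y.du))) acc') acc).testBit n = true := by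
    intro x l acc n h
    induction l with
    | nil => exact h
    | cons y l ih =>
      simp only [List.foldr_cons]
      show ((_ : ℕ) ||| _).testBit n = true
      rw [Nat.testBit_or, ih, Bool.or_true]
  refine le_testBit_foldr' _ (fun x acc n h => hin x b acc n h) a i hi fun acc => ?_
  have key : ∀ (l : List Item), j ∈ l → (l.foldr (fun y acc' =>
      Nat.lor (Nat.shiftLeft 1 (hashKey (i.dv + y.dv) (i.dw + y.dw) (i.du + y.du))) acc') acc).testBit
        (hashKey (i.dv + j.dv) (i.dw + j.dw) (i.du + j.du)) = true := by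
    intro l hl
    induction l with
    | nil => simp at hl
    | cons y l ih =>
      simp only [List.foldr_cons]
      show ((_ : ℕ) ||| _).testBit _ = true
      rcases List.mem_cons.mp hl with rfl | hl
      · rw [Nat.testBit_or, show Nat.shiftLeft 1 (hashKey (i.dv + j.dv) (i.dw + j.dw) (i.du + j.du)) =
          1 <<< (hashKey (i.dv + j.dv) (i.dw + j.dw) (i.du + j.du)) from rfl, Nat.one_shiftLeft, Nat.testBit_two_pow_self, Bool.true_or]
      · rw [Nat.testBit_or, ih hl, Bool.or_true]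
  exact key b hj

theorem valid_cons {V : Var} (hV : 0 < V.m) {Vs : List Var} {l : Lvl} (h : Valid Vs l) (bits : ℕ)
    (hb : bits ≠ 0 → ∀ As, Mem (V :: Vs) As → ∃ a b c : ℕ, (a : ℤ) = (biasV V + l.bv : ℕ) + vsum (V :: Vs) As ∧
      (b : ℤ) = (biasW V + l.bw : ℕ) + wsum (V :: Vs) As ∧ (c : ℤ) = (biasU V + l.bu : ℕ) + usum (V :: Vs) As ∧
      bits.testBit (hashKey a b c) = true) :
    Valid (V :: Vs) (consLvl (lvl1 V) l bits) := by
  have hcons : ∀ As, Mem (V :: Vs) As → ∃ A As', A ∈ V.os ∧ Mem Vs As' ∧ As = A :: As' := by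
    intro As h'
    rcases h' with _ | ⟨hA, hrest⟩
    exact ⟨_, _, hA, hrest, rfl⟩
  refine ⟨?_, ?_, ?_, ?_, ?_, ?_, ?_, ?_, ?_, hb⟩
  · have := h.bias
    simp only [Prod.ext_iff] at this
    obtain ⟨e1, e2, e3⟩ := this
    simp only [consLvl, biases, lvl1, e1, e2, e3]
  all_goals
    intro As hAs
    obtain ⟨A, As', hA, hAs', rfl⟩ := hcons As hAs
    obtain ⟨f1, f2, f3, f4, f5, f6, f7, f8⟩ := step_facts hV hA
    simp only [msum, vsum, wsum, usum, consLvl]
  · exact Nat.add_le_add f1 (h.mn As' hAs')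
  · push_cast at f2 ⊢
    exact cs_step (by norm_num) (Int.natCast_nonneg _) (Int.natCast_nonneg _) (by positivity) (by positivity) f2
      (h.inv As' hAs')
  · have e := h.ps As' hAs'
    push_cast at f3 e ⊢
    have m1 : ((lvl1 V).ps : ℤ) ≤ max ((lvl1 V).ps : ℤ) (l.ps : ℤ) := le_max_left _ _
    have m2 : (l.ps : ℤ) ≤ max ((lvl1 V).ps : ℤ) (l.ps : ℤ) := le_max_right _ _
    have n1 : (0 : ℤ) ≤ (V.m : ℤ) * ((A * A).toNat : ℤ) := by positivity
    have n2 : (0 : ℤ) ≤ (msum Vs As' : ℤ) := by positivity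
    nlinarith [mul_le_mul_of_nonneg_right m1 n1, mul_le_mul_of_nonneg_right m2 n2]
  · have e := h.ng As' hAs'
    push_cast at f4 e ⊢
    have m1 : ((lvl1 V).ng : ℤ) ≤ max ((lvl1 V).ng : ℤ) (l.ng : ℤ) := le_max_left _ _
    have m2 : (l.ng : ℤ) ≤ max ((lvl1 V).ng : ℤ) (l.ng : ℤ) := le_max_right _ _
    have n1 : (0 : ℤ) ≤ (V.m : ℤ) * ((A * A).toNat : ℤ) := by positivity
    have n2 : (0 : ℤ) ≤ (msum Vs As' : ℤ) := by positivity
    nlinarith [mul_le_mul_of_nonneg_right m1 n1, mul_le_mul_of_nonneg_right m2 n2]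
  · exact dvd_add ((Int.natCast_dvd_natCast.mpr (Nat.gcd_dvd_left _ _)).trans f5)
      ((Int.natCast_dvd_natCast.mpr (Nat.gcd_dvd_right _ _)).trans (h.gl As' hAs'))
  · exact dvd_add ((Int.natCast_dvd_natCast.mpr (Nat.gcd_dvd_left _ _)).trans f6)
      ((Int.natCast_dvd_natCast.mpr (Nat.gcd_dvd_right _ _)).trans (h.gc As' hAs'))
  · push_cast at f7 ⊢
    have := cs_step (K := 1) (by norm_num) (Int.natCast_nonneg (lvl1 V).x2) (Int.natCast_nonneg l.x2)
      (by positivity : (0 : ℤ) ≤ (V.m : ℤ) * ((A * A).toNat : ℤ)) (by positivity : (0 : ℤ) ≤ (msum Vs As' : ℤ))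
      (by rw [one_mul]; exact f7) (by rw [one_mul]; exact h.x2 As' hAs')
    rw [one_mul] at this
    exact this
  · exact dvd_add ((Int.natCast_dvd_natCast.mpr (Nat.gcd_dvd_left _ _)).trans f8)
      ((Int.natCast_dvd_natCast.mpr (Nat.gcd_dvd_right _ _)).trans (h.gx As' hAs'))

/-- The levels are valid. -/
theorem mkLvls_spec (ub : Bool) : ∀ (V : Var) (Vs : List Var), (∀ U ∈ V :: Vs, 0 < U.m) →
    ∃ l, mkLvls ub (V :: Vs) = l :: mkLvls ub Vs ∧ Valid (V :: Vs) l ∧ l.same = V.same ∧ l.items = mkItems V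
  | V, [], h => ⟨lvl1 V, by simp [mkLvls], valid_one (h V List.mem_cons_self), rfl, rfl⟩
  | V, W :: Ws, h => by
    obtain ⟨l, hl, hv, -, hit⟩ := mkLvls_spec ub W Ws fun U hU => h U (List.mem_cons_of_mem _ hU)
    refine ⟨_, by rw [mkLvls, hl], valid_cons (h V List.mem_cons_self) hv _ ?_, rfl, rfl⟩
    rcases hls : mkLvls ub Ws with _ | ⟨l', ls'⟩
    swap
    · exact fun hb => absurd rfl hb
    intro hb As hAs
    have hWs : Ws = [] := by
      rcases Ws with _ | ⟨U, Us⟩
      · rfl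
      · obtain ⟨l'', e, -⟩ := mkLvls_spec ub U Us fun X hX => h X (List.mem_cons_of_mem _ (List.mem_cons_of_mem _ hX))
        rw [hls] at e
        simp at e
    subst hWs
    have hub : ub = true := by
      by_contra hc
      exact hb (if_neg hc)
    simp only [hub, if_true]
    rcases hAs with _ | ⟨hA, hrest⟩
    rcases hrest with _ | ⟨hB, hnil⟩
    rcases hnil with _ | _
    rename_i A B
    have hbias := hv.bias
    simp only [Prod.ext_iff, biases, add_zero] at hbias
    obtain ⟨e1, e2, e3⟩ := hbias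
    have p1 := natAbs_le_bias (f := fun a => V.s * a) hA
    have p2 := natAbs_le_bias (f := fun a => V.c * (a * a)) hA
    have p3 := natAbs_le_bias (f := fun a => V.x * a) hA
    have q1 := natAbs_le_bias (f := fun a => W.s * a) hB
    have q2 := natAbs_le_bias (f := fun a => W.c * (a * a)) hB
    have q3 := natAbs_le_bias (f := fun a => W.x * a) hB
    change 0 ≤ (biasV V : ℤ) + V.s * A at p1
    change 0 ≤ (biasW V : ℤ) + V.c * (A * A) at p2
    change 0 ≤ (biasU V : ℤ) + V.x * A at p3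
    change 0 ≤ (biasV W : ℤ) + W.s * B at q1
    change 0 ≤ (biasW W : ℤ) + W.c * (B * B) at q2
    change 0 ≤ (biasU W : ℤ) + W.x * B at q3
    refine ⟨((biasV V : ℤ) + V.s * A).toNat + ((biasV W : ℤ) + W.s * B).toNat,
      ((biasW V : ℤ) + V.c * (A * A)).toNat + ((biasW W : ℤ) + W.c * (B * B)).toNat,
      ((biasU V : ℤ) + V.x * A).toNat + ((biasU W : ℤ) + W.x * B).toNat, ?_, ?_, ?_, ?_⟩
    · simp only [vsum, add_zero, e1]; push_cast [Int.toNat_of_nonneg p1, Int.toNat_of_nonneg q1]; ring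
    · simp only [wsum, add_zero, e2]; push_cast [Int.toNat_of_nonneg p2, Int.toNat_of_nonneg q2]; ring
    · simp only [usum, add_zero, e3]; push_cast [Int.toNat_of_nonneg p3, Int.toNat_of_nonneg q3]; ring
    · rw [hit]
      refine testBit_bitsPair (i := ⟨A, _, _, _, V.m * (A * A).toNat⟩) (j := ⟨B, _, _, _, W.m * (B * B).toNat⟩) ?_ ?_
      · rw [mkItems_eq]; exact List.mem_map.mpr ⟨A, hA, rfl⟩
      · rw [mkItems_eq]; exact List.mem_map.mpr ⟨B, hB, rfl⟩

theorem beq_of_eq {a b : ℕ} (h : a = b) : Nat.beq a b = true := by subst h; exact Nat.beq_refl a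

theorem absd_cast (a b : ℕ) : (absd a b : ℤ) = |(a : ℤ) - b| := by
  simp only [absd, Nat.add_eq, Nat.sub_eq]
  push_cast
  rcases le_total a b with h | h
  · rw [abs_of_nonpos (by omega)]; omega
  · rw [abs_of_nonneg (by omega)]; omega

theorem absd_sq (a b : ℕ) : ((absd a b ^ 2 : ℕ) : ℤ) = ((a : ℤ) - b) * ((a : ℤ) - b) := by
  rw [Nat.cast_pow, absd_cast, sq_abs, pow_two]

theorem absd_mod {a b g : ℕ} (h : (g : ℤ) ∣ (a : ℤ) - b) : absd a b % g = 0 := by
  refine Nat.mod_eq_zero_of_dvd (Int.natCast_dvd_natCast.mp ?_)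
  rw [absd_cast]
  exact (dvd_abs _ _).mpr h

/-- The condition on the quadratic sum. -/
def WOK (md : ℕ) (W : ℤ) : Prop := (md = 0 → W = 0) ∧ 0 ≤ W ∧ (md : ℤ) ∣ W

theorem okLvl_true {Vs : List Var} {l : Lvl} (hl : Valid Vs l) {md BV BW BU R v w u : ℕ} {As : List ℤ}
    (hA : Mem Vs As) (hR : msum Vs As ≤ R)
    (hv : (v : ℤ) + l.bv + vsum Vs As = BV) (hw : WOK md ((w : ℤ) + l.bw + wsum Vs As - BW))
    (hu : (u : ℤ) + l.bu + usum Vs As = BU) : okLvl l md BV BW BU R v w u = true := by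
  have hR' : (msum Vs As : ℤ) ≤ R := by exact_mod_cast hR
  obtain ⟨hw0, hw1, hw2⟩ := hw
  have c1 : Nat.ble BW (Nat.add (Nat.add w l.bw) (Nat.mul l.ps R)) = true := by
    rw [Nat.ble_eq, ← Int.ofNat_le]
    simp only [Nat.add_eq, Nat.mul_eq]
    push_cast
    have := hl.ps As hA
    nlinarith [mul_le_mul_of_nonneg_left hR' (Int.natCast_nonneg l.ps)]
  have c2 : cond (Nat.beq md 0) (Nat.ble (Nat.add w l.bw) (Nat.add BW (Nat.mul l.ng R))) true = true := by
    cases hmd : Nat.beq md 0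
    · rfl
    · simp only [cond_true]
      rw [Nat.ble_eq, ← Int.ofNat_le]
      simp only [Nat.add_eq, Nat.mul_eq]
      push_cast
      have := hl.ng As hA
      have := hw0 (Nat.eq_of_beq_eq_true hmd)
      nlinarith [mul_le_mul_of_nonneg_left hR' (Int.natCast_nonneg l.ng)]
  have c3 : Nat.ble l.mn R = true := by rw [Nat.ble_eq]; exact (hl.mn As hA).trans hR
  have c4 : Nat.ble (Nat.mul 2 (Nat.pow (absd (Nat.add v l.bv) BV) 2)) (Nat.mul l.inv R) = true := by
    rw [Nat.ble_eq, ← Int.ofNat_le]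
    simp only [Nat.add_eq, Nat.mul_eq, Nat.pow_eq]
    rw [Nat.cast_mul, absd_sq, Nat.cast_mul, Nat.cast_add,
      show (v : ℤ) + l.bv - BV = -vsum Vs As by linarith, neg_mul_neg]
    push_cast
    exact (hl.inv As hA).trans (mul_le_mul_of_nonneg_left hR' (Int.natCast_nonneg _))
  have c5 : Nat.beq (Nat.mod (absd (Nat.add v l.bv) BV) l.gl) 0 = true := by
    have h' : absd (v + l.bv) BV % l.gl = 0 := absd_mod (by
      rw [Nat.cast_add, show (v : ℤ) + l.bv - BV = -vsum Vs As by linarith]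
      exact dvd_neg.mpr (hl.gl As hA))
    simp only [Nat.add_eq] at h' ⊢
    exact beq_of_eq h'
  have c6 : Nat.beq (Nat.mod (absd (Nat.add w l.bw) BW) (Nat.gcd l.gc md)) 0 = true := by
    have h' : absd (w + l.bw) BW % Nat.gcd l.gc md = 0 := absd_mod (by
      rw [Nat.cast_add, show (w : ℤ) + l.bw - BW = ((w : ℤ) + l.bw + wsum Vs As - BW) - wsum Vs As by ring]
      exact dvd_sub ((Int.natCast_dvd_natCast.mpr (Nat.gcd_dvd_right _ _)).trans hw2)
        ((Int.natCast_dvd_natCast.mpr (Nat.gcd_dvd_left _ _)).trans (hl.gc As hA)))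
    simp only [Nat.add_eq] at h' ⊢
    exact beq_of_eq h'
  have c7 : Nat.ble (Nat.pow (absd (Nat.add u l.bu) BU) 2) (Nat.mul l.x2 R) = true := by
    rw [Nat.ble_eq, ← Int.ofNat_le]
    simp only [Nat.add_eq, Nat.mul_eq, Nat.pow_eq]
    rw [absd_sq, Nat.cast_mul, Nat.cast_add, show (u : ℤ) + l.bu - BU = -usum Vs As by linarith, neg_mul_neg]
    exact (hl.x2 As hA).trans (mul_le_mul_of_nonneg_left hR' (Int.natCast_nonneg _))
  have c8 : Nat.beq (Nat.mod (absd (Nat.add u l.bu) BU) l.gx) 0 = true := by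
    have h' : absd (u + l.bu) BU % l.gx = 0 := absd_mod (by
      rw [Nat.cast_add, show (u : ℤ) + l.bu - BU = -usum Vs As by linarith]
      exact dvd_neg.mpr (hl.gx As hA))
    simp only [Nat.add_eq] at h' ⊢
    exact beq_of_eq h'
  simp only [okLvl, c1, c2, c3, c4, c5, c6, c7, c8, cond_true]
  cases hb : Nat.beq l.bits 0
  · simp only [cond_false]
    cases hmd : Nat.beq md 0
    · rfl
    simp only [cond_true]
    obtain ⟨a, b, c, ea, eb, ec, ht⟩ := hl.bits (Nat.ne_of_beq_eq_false hb) As hA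
    have := hw0 (Nat.eq_of_beq_eq_true hmd)
    have e1 : Nat.sub BV v = a := by simp only [Nat.sub_eq]; omega
    have e2 : Nat.sub BW w = b := by simp only [Nat.sub_eq]; omega
    have e3 : Nat.sub BU u = c := by simp only [Nat.sub_eq]; omega
    rw [e1, e2, e3]
    rw [Nat.testBit, bne_iff_ne] at ht
    have h1 : Nat.land (Nat.shiftRight l.bits (hashKey a b c)) 1 = 1 := by
      show (l.bits >>> hashKey a b c) &&& 1 = 1
      rw [Nat.and_comm] at ht
      have := Nat.and_one_is_mod (l.bits >>> hashKey a b c)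
      omega
    exact beq_of_eq h1
  · rfl

theorem allI_true {f : Item → Bool} : ∀ {l : List Item}, allI f l = true → ∀ i ∈ l, f i = true
  | j :: l, h, i, hi => by
    simp only [allI] at h
    cases hj : f j
    · rw [hj] at h; exact Bool.noConfusion h
    · rw [hj] at h
      rcases List.mem_cons.mp hi with rfl | hi
      · exact hj
      · exact allI_true h i hi

/-- **Soundness of the search.** -/
theorem dfs_sound (md BV BW BU : ℕ) (fin : List ℤ → Bool) (ub : Bool) :
    ∀ (Vs : List Var) (prev R v w u : ℕ) (acc As : List ℤ), (∀ U ∈ Vs, 0 < U.m) →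
      dfs md BV BW BU fin (mkLvls ub Vs) prev R v w u acc = true → Mem Vs As → msum Vs As ≤ R → OrdFrom prev Vs As →
      (v : ℤ) + (biases Vs).1 + vsum Vs As = BV → WOK md ((w : ℤ) + (biases Vs).2.1 + wsum Vs As - BW) →
      (u : ℤ) + (biases Vs).2.2 + usum Vs As = BU → fin (acc.reverse ++ As) = true
  | [], prev, R, v, w, u, acc, As, _, h, hA, _, _, hv, hw, hu => by
    rcases hA with _ | _
    simp only [biases, vsum, wsum, usum, add_zero, Nat.cast_zero] at hv hw hu
    simp only [mkLvls, dfs] at h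
    obtain ⟨hw0, hw1, hw2⟩ := hw
    have e1 : Nat.beq v BV = true := beq_of_eq (by exact_mod_cast hv)
    have e3 : Nat.beq u BU = true := beq_of_eq (by exact_mod_cast hu)
    have e2 : cond (Nat.beq md 0) (Nat.beq w BW)
        (cond (Nat.ble BW w) (Nat.beq (Nat.mod (Nat.sub w BW) md) 0) false) = true := by
      cases hmd : Nat.beq md 0
      · simp only [cond_false]
        rw [show Nat.ble BW w = true by rw [Nat.ble_eq]; omega, cond_true]
        have : (w - BW) % md = 0 := Nat.mod_eq_zero_of_dvd (Int.natCast_dvd_natCast.mp (by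
          rw [Nat.cast_sub (by omega)]; exact hw2))
        exact beq_of_eq this
      · simp only [cond_true]
        have := hw0 (Nat.eq_of_beq_eq_true hmd)
        exact beq_of_eq (by omega : w = BW)
    rw [e1, e2, e3] at h
    simpa using h
  | V :: Vs, prev, R, v, w, u, acc, As, hm, h, hA, hR, hO, hv, hw, hu => by
    obtain ⟨l, hl, hval, hsame, hit⟩ := mkLvls_spec ub V Vs hm
    rcases hA with _ | ⟨hA, hrest⟩
    rename_i A As'
    have hb := hval.bias
    simp only [Prod.ext_iff] at hb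
    obtain ⟨b1, b2, b3⟩ := hb
    rw [hl, dfs, okLvl_true hval (List.Forall₂.cons hA hrest) hR (by rw [b1]; exact hv) (by rw [b2]; exact hw)
      (by rw [b3]; exact hu), cond_true] at h
    obtain ⟨hO1, hO2⟩ := hO
    simp only [msum] at hR
    have hmem : (⟨A, ((biasV V : ℤ) + V.s * A).toNat, ((biasW V : ℤ) + V.c * (A * A)).toNat,
        ((biasU V : ℤ) + V.x * A).toNat, V.m * (A * A).toNat⟩ : Item) ∈ l.items := by
      rw [hit, mkItems_eq]; exact List.mem_map.mpr ⟨A, hA, rfl⟩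
    have hi := allI_true h _ hmem
    have p1 : 0 ≤ (biasV V : ℤ) + V.s * A := natAbs_le_bias (f := fun a => V.s * a) hA
    have p2 : 0 ≤ (biasW V : ℤ) + V.c * (A * A) := natAbs_le_bias (f := fun a => V.c * (a * a)) hA
    have p3 : 0 ≤ (biasU V : ℤ) + V.x * A := natAbs_le_bias (f := fun a => V.x * a) hA
    simp only [hsame] at hi
    rw [show cond V.same (Nat.ble prev ((biasV V : ℤ) + V.s * A).toNat) true = true by
      cases hs : V.same
      · rfl
      · simp only [cond_true]; rw [Nat.ble_eq]; have := hO1 hs; omega,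
      cond_true, show Nat.ble (V.m * (A * A).toNat) R = true by rw [Nat.ble_eq]; omega, cond_true] at hi
    simp only [forceN_eq] at hi
    have := dfs_sound md BV BW BU fin ub Vs _ _ _ _ _ (A :: acc) As' (fun U hU => hm U (List.mem_cons_of_mem _ hU))
      hi hrest (by simp only [Nat.sub_eq]; omega) hO2 ?_ ?_ ?_
    · simpa using this
    · simp only [biases, vsum] at hv
      simp only [Nat.add_eq]; push_cast [Int.toNat_of_nonneg p1] at hv ⊢; linarith
    · simp only [biases, wsum] at hw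
      simp only [Nat.add_eq]
      convert hw using 2
      push_cast [Int.toNat_of_nonneg p2]; ring
    · simp only [biases, usum] at hu
      simp only [Nat.add_eq]; push_cast [Int.toNat_of_nonneg p3] at hu ⊢; linarith

theorem forceItems_eq {α : Type} : ∀ (l : List Item) (f : List Item → α), forceItems l f = f l
  | [], _ => rfl
  | i :: l, f => by simp only [forceItems, forceN_eq, forceI_eq, forceItems_eq l]

theorem forceLvls_eq {α : Type} : ∀ (l : List Lvl) (f : List Lvl → α), forceLvls l f = f l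
  | [], _ => rfl
  | i :: l, f => by simp only [forceLvls, forceN_eq, forceItems_eq, forceLvls_eq l]

/-- Every solution passes the test of its start. -/
theorem search_sound {md : ℕ} {ub : Bool} {Vs : List Var} {seeds : List Seed} (h : search md ub Vs seeds = true)
    (hm : ∀ U ∈ Vs, 0 < U.m) {t : Seed} (ht : t ∈ seeds) {As : List ℤ} (hA : Mem Vs As) (hR : msum Vs As ≤ t.R)
    (hO : OrdFrom 0 Vs As) (hv : t.v + vsum Vs As = 0) (hw : WOK md (t.w + wsum Vs As))
    (hu : t.u + usum Vs As = 0) : t.fin As = true := by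
  simp only [search, Bool.or_eq_true, List.isEmpty_iff, List.any_eq_true] at h
  rcases h with (h | ⟨V, hV, he⟩) | h
  · rw [h] at ht; simp at ht
  · exfalso
    obtain ⟨i, hi, rfl⟩ := List.getElem_of_mem hV
    have hlen := List.Forall₂.length_eq hA
    have := hA.get (i := i) hi (hlen ▸ hi)
    simp only [List.get_eq_getElem] at this
    rw [List.eq_nil_iff_forall_not_mem] at he
    exact he _ this
  simp only [forceN_eq, forceLvls_eq, List.all_eq_true] at h
  have h' := h t ht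
  refine (List.nil_append As) ▸ dfs_sound md _ _ _ t.fin ub Vs 0 t.R _ _ _ [] As hm h' hA hR hO ?_ ?_ ?_
  · push_cast; omega
  · convert hw using 1; push_cast; omega
  · push_cast; omega

end CfsgLib.M24Order.E3
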