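import Cfsg.Agent.Lib.M24Order.Keys11Defs

/-!
# A checked search for the values of a column: definitions

A column is a list of unknown integers `A`, each from a list of options, with one linear condition
`v + Σ s A = 0`, one quadratic condition on `W = w + Σ c A²`, a second linear condition `u + Σ x A = 0` and the
bound `Σ m A² ≤ R`. The search returns `true` if all solutions pass a test.
-/

set_option autoImplicit false

namespace CfsgLib.M24Order.E3

open CfsgLib.M24Order

/-- An unknown of a column. -/
structure Var where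
  same : Bool
  s : ℤ
  c : ℤ
  x : ℤ
  m : ℕ
  os : List ℤ

/-- An option, with the shifted contributions. -/
structure Item where
  a : ℤ
  dv : ℕ
  dw : ℕ
  du : ℕ
  q : ℕ

/-- What is known about the unknowns from a place on. -/
structure Lvl where
  same : Bool
  mn : ℕ
  inv : ℕ
  ps : ℕ
  ng : ℕ
  gl : ℕ
  gc : ℕ
  x2 : ℕ
  gx : ℕ
  bv : ℕ
  bw : ℕ
  bu : ℕ
  bits : ℕ
  items : List Item

def maxL : List ℕ → ℕ
  | [] => 0
  | a :: l => Nat.max a (maxL l)

def minL : List ℕ → ℕ
  | [] => 0
  | a :: l => match l with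
    | [] => a
    | _ :: _ => Nat.min a (minL l)

def gcdL : List ℕ → ℕ
  | [] => 0
  | a :: l => Nat.gcd a (gcdL l)

def biasV (V : Var) : ℕ := maxL (V.os.map fun a => (V.s * a).natAbs)

def biasW (V : Var) : ℕ := maxL (V.os.map fun a => (V.c * (a * a)).natAbs)

def biasU (V : Var) : ℕ := maxL (V.os.map fun a => (V.x * a).natAbs)

def mkItems (V : Var) : List Item :=
  forceN (biasV V) fun p => forceN (biasW V) fun q => forceN (biasU V) fun r =>
    V.os.map fun a => ⟨a, ((p : ℤ) + V.s * a).toNat, ((q : ℤ) + V.c * (a * a)).toNat, ((r : ℤ) + V.x * a).toNat,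
      V.m * (a * a).toNat⟩

def hashP : ℕ := 8191

/-- The key of three shifted contributions. -/
def hashKey (v w u : ℕ) : ℕ :=
  Nat.mod (Nat.add (Nat.add v (Nat.mul 9973 w)) (Nat.mul 12347 u)) hashP

/-- The keys of the sums over two unknowns, as bits. -/
def bitsPair (a b : List Item) : ℕ :=
  a.foldr (fun i acc => b.foldr (fun j acc' =>
    Nat.lor (Nat.shiftLeft 1 (hashKey (i.dv + j.dv) (i.dw + j.dw) (i.du + j.du))) acc') acc) 0

/-- The contributions of one unknown. -/
def lvl1 (V : Var) : Lvl :=
  ⟨V.same, minL (V.os.map fun a => V.m * (a * a).toNat), (2 * (V.s * V.s).natAbs + V.m - 1) / V.m,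
    if 0 < V.c then V.c.natAbs / V.m + 1 else 0, if V.c < 0 then V.c.natAbs / V.m + 1 else 0,
    gcdL (V.os.map fun a => (V.s * a).natAbs), gcdL (V.os.map fun a => (V.c * (a * a)).natAbs),
    ((V.x * V.x).natAbs + V.m - 1) / V.m, gcdL (V.os.map fun a => (V.x * a).natAbs),
    biasV V, biasW V, biasU V, 0, mkItems V⟩

/-- One unknown in front of the others. -/
def consLvl (a l : Lvl) (bits : ℕ) : Lvl :=
  ⟨a.same, a.mn + l.mn, a.inv + l.inv, Nat.max a.ps l.ps, Nat.max a.ng l.ng, Nat.gcd a.gl l.gl,
    Nat.gcd a.gc l.gc, a.x2 + l.x2, Nat.gcd a.gx l.gx, a.bv + l.bv, a.bw + l.bw, a.bu + l.bu, bits, a.items⟩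

def mkLvls (ub : Bool) : List Var → List Lvl
  | [] => []
  | V :: Vs =>
    match mkLvls ub Vs with
    | [] => [lvl1 V]
    | l :: ls => consLvl (lvl1 V) l
        (match ls with
          | [] => if ub then bitsPair (mkItems V) l.items else 0
          | _ :: _ => 0) :: l :: ls

def forceItems {α : Type} : List Item → (List Item → α) → α
  | [], f => f []
  | i :: is, f => forceI i.a fun z => forceN i.dv fun a => forceN i.dw fun b => forceN i.du fun c =>
      forceN i.q fun d => forceItems is fun is' => f (⟨z, a, b, c, d⟩ :: is')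

def forceLvls {α : Type} : List Lvl → (List Lvl → α) → α
  | [], f => f []
  | l :: ls, f => forceN l.mn fun a => forceN l.inv fun b => forceN l.ps fun c => forceN l.ng fun d =>
      forceN l.gl fun e => forceN l.gc fun g => forceN l.x2 fun h => forceN l.gx fun i => forceN l.bv fun j =>
        forceN l.bw fun k => forceN l.bu fun n => forceN l.bits fun o => forceItems l.items fun is =>
          forceLvls ls fun ls' => f (⟨l.same, a, b, c, d, e, g, h, i, j, k, n, o, is⟩ :: ls')

def absd (a b : ℕ) : ℕ := Nat.add (Nat.sub a b) (Nat.sub b a)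

/-- No completion is possible: negated. -/
def okLvl (l : Lvl) (md BV BW BU R v w u : ℕ) : Bool :=
  cond (Nat.ble BW (Nat.add (Nat.add w l.bw) (Nat.mul l.ps R)))
    (cond (cond (Nat.beq md 0) (Nat.ble (Nat.add w l.bw) (Nat.add BW (Nat.mul l.ng R))) true)
      (cond (Nat.ble l.mn R)
        (cond (Nat.ble (Nat.mul 2 (Nat.pow (absd (Nat.add v l.bv) BV) 2)) (Nat.mul l.inv R))
          (cond (Nat.beq (Nat.mod (absd (Nat.add v l.bv) BV) l.gl) 0)
            (cond (Nat.beq (Nat.mod (absd (Nat.add w l.bw) BW) (Nat.gcd l.gc md)) 0)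
              (cond (Nat.ble (Nat.pow (absd (Nat.add u l.bu) BU) 2) (Nat.mul l.x2 R))
                (cond (Nat.beq (Nat.mod (absd (Nat.add u l.bu) BU) l.gx) 0)
                  (cond (Nat.beq l.bits 0) true
                    (cond (Nat.beq md 0)
                      (Nat.beq (Nat.land (Nat.shiftRight l.bits
                        (hashKey (Nat.sub BV v) (Nat.sub BW w) (Nat.sub BU u))) 1) 1)
                      true))
                  false) false) false) false) false) false) false) false

def allI (f : Item → Bool) : List Item → Bool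
  | [] => true
  | i :: is => cond (f i) (allI f is) false

/-- All completions pass the test. -/
def dfs (md BV BW BU : ℕ) (fin : List ℤ → Bool) : List Lvl → ℕ → ℕ → ℕ → ℕ → ℕ → List ℤ → Bool
  | [], _, _, v, w, u, acc =>
    cond (Nat.beq v BV)
      (cond (cond (Nat.beq md 0) (Nat.beq w BW) (cond (Nat.ble BW w) (Nat.beq (Nat.mod (Nat.sub w BW) md) 0) false))
        (cond (Nat.beq u BU) (fin acc.reverse) true) true) true
  | l :: ls, prev, R, v, w, u, acc =>
    cond (okLvl l md BV BW BU R v w u)
      (allI (fun i => cond (cond l.same (Nat.ble prev i.dv) true)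
        (cond (Nat.ble i.q R)
          (forceN (Nat.sub R i.q) fun R' => forceN (Nat.add v i.dv) fun v' => forceN (Nat.add w i.dw) fun w' =>
            forceN (Nat.add u i.du) fun u' => dfs md BV BW BU fin ls i.dv R' v' w' u' (i.a :: acc))
          true) true) l.items)
      true

/-- A start of the search. -/
structure Seed where
  R : ℕ
  v : ℤ
  w : ℤ
  u : ℤ
  fin : List ℤ → Bool

def biases : List Var → ℕ × ℕ × ℕ
  | [] => (0, 0, 0)
  | V :: Vs => (biasV V + (biases Vs).1, biasW V + (biases Vs).2.1, biasU V + (biases Vs).2.2)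

/-- All solutions from all starts pass their tests. -/
def search (md : ℕ) (ub : Bool) (Vs : List Var) (seeds : List Seed) : Bool :=
  seeds.isEmpty || (Vs.any fun V => V.os.isEmpty) ||
    forceN md fun md => forceLvls (mkLvls ub Vs) fun ls => forceN (biases Vs).1 fun bv =>
      forceN (biases Vs).2.1 fun bw => forceN (biases Vs).2.2 fun bu =>
        seeds.all fun t => forceN (bv + (-t.v).toNat) fun BV => forceN (bw + (-t.w).toNat) fun BW =>
          forceN (bu + (-t.u).toNat) fun BU => forceN t.v.toNat fun v => forceN t.w.toNat fun w =>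
            forceN t.u.toNat fun u => forceN t.R fun R => dfs md BV BW BU t.fin ls 0 R v w u []

end CfsgLib.M24Order.E3
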