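import Cfsg.Agent.Lib.M24Order.Dfs6Defs
import Cfsg.Agent.Lib.M24Order.Dfs4

/-!
# A checked search for the values of a column, with residues of the completions: soundness
-/

set_option autoImplicit false
set_option linter.unusedSectionVars false
set_option linter.unusedSimpArgs false

namespace CfsgLib.M24Order.E6

open CfsgLib.M24Order CfsgLib.M24Order.E3

theorem forceS_eq {α : Type} : ∀ (n : ℕ) (f : ℕ → α), forceS n f = f n
  | 0, _ => rfl
  | _ + 1, _ => rfl

theorem key3_eq (v w u : ℕ) : key3 v w u = (v + 9973 * w + 12347 * u) % keyP := rfl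

theorem key3_lt (v w u : ℕ) : key3 v w u < keyP := Nat.mod_lt _ (by norm_num [keyP])

/-- A bit after turning. -/
theorem testBit_rot {S k j : ℕ} (hk : k < keyP) (hj : j < keyP) (h : S.testBit j = true) :
    (rot (2 ^ keyP - 1) S k).testBit ((j + k) % keyP) = true := by
  show (((S <<< k) ||| (S >>> (keyP - k))) &&& (2 ^ keyP - 1)).testBit ((j + k) % keyP) = true
  generalize keyP = P at hk hj ⊢
  simp only [Nat.testBit_and, Nat.testBit_or, Nat.testBit_shiftLeft, Nat.testBit_shiftRight,
    Nat.testBit_two_pow_sub_one, Bool.and_eq_true, Bool.or_eq_true, decide_eq_true_eq, ge_iff_le]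
  by_cases hc : j + k < P
  · rw [Nat.mod_eq_of_lt hc]
    exact ⟨Or.inl ⟨by omega, by rw [Nat.add_sub_cancel]; exact h⟩, hc⟩
  · rw [Nat.mod_eq_sub_mod (by omega), Nat.mod_eq_of_lt (show j + k - P < P by omega)]
    exact ⟨Or.inr (by rw [show P - k + (j + k - P) = j by omega]; exact h), by omega⟩

theorem testBit_joinBits {S j k : ℕ} (hj : j < keyP) (h : S.testBit j = true) : ∀ {ks : List ℕ},
    (∀ x ∈ ks, x < keyP) → k ∈ ks → (joinBits S ks).testBit ((j + k) % keyP) = true
  | x :: ks, hlt, hk => by
    rw [joinBits, forceS_eq, forceS_eq, forceS_eq]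
    show Nat.testBit (Nat.lor (rot (2 ^ keyP - 1) S x) (joinBits S ks)) ((j + k) % keyP) = true
    rw [show ∀ a b : ℕ, Nat.lor a b = a ||| b from fun _ _ => rfl]
    rw [Nat.testBit_or]
    rcases List.mem_cons.mp hk with rfl | hk
    · rw [testBit_rot (hlt _ List.mem_cons_self) hj h, Bool.true_or]
    · rw [testBit_joinBits hj h (fun y hy => hlt y (List.mem_cons_of_mem _ hy)) hk, Bool.or_true]

/-- The shifted contribution of one value. -/
def item (V : Var) (A : ℤ) : Item :=
  ⟨A, ((biasV V : ℤ) + V.s * A).toNat, ((biasW V : ℤ) + V.c * (A * A)).toNat, ((biasU V : ℤ) + V.x * A).toNat,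
    V.m * (A * A).toNat⟩

theorem item_mem {V : Var} {A : ℤ} (h : A ∈ V.os) : item V A ∈ mkItems V := by
  rw [mkItems_eq]; exact List.mem_map.mpr ⟨A, h, rfl⟩

theorem item_pos {V : Var} {A : ℤ} (h : A ∈ V.os) :
    ((item V A).dv : ℤ) = biasV V + V.s * A ∧ ((item V A).dw : ℤ) = biasW V + V.c * (A * A) ∧
      ((item V A).du : ℤ) = biasU V + V.x * A :=
  ⟨Int.toNat_of_nonneg (natAbs_le_bias (f := fun a => V.s * a) h),
    Int.toNat_of_nonneg (natAbs_le_bias (f := fun a => V.c * (a * a)) h),
    Int.toNat_of_nonneg (natAbs_le_bias (f := fun a => V.x * a) h)⟩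

theorem key_add (a b c a' b' c' : ℕ) :
    (key3 a' b' c' + key3 a b c) % keyP = key3 (a + a') (b + b') (c + c') := by
  rw [key3_eq, key3_eq, key3_eq, ← Nat.add_mod]
  congr 1
  ring

theorem child_key (a b c a' b' c' : ℕ) :
    Nat.mod (Nat.sub (Nat.add (key3 (a + a') (b + b') (c + c')) keyP) (key3 a b c)) keyP = key3 a' b' c' := by
  rw [← key_add]
  have h1 := key3_lt a b c
  have h2 := key3_lt a' b' c'
  show ((key3 a' b' c' + key3 a b c) % keyP + keyP - key3 a b c) % keyP = key3 a' b' c'
  by_cases hc : key3 a' b' c' + key3 a b c < keyP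
  · rw [Nat.mod_eq_of_lt hc, show key3 a' b' c' + key3 a b c + keyP - key3 a b c = key3 a' b' c' + keyP by omega,
      Nat.add_mod_right, Nat.mod_eq_of_lt h2]
  · rw [Nat.mod_eq_sub_mod (show key3 a' b' c' + key3 a b c ≥ keyP by omega),
      Nat.mod_eq_of_lt (show key3 a' b' c' + key3 a b c - keyP < keyP by omega),
      show key3 a' b' c' + key3 a b c - keyP + keyP - key3 a b c = key3 a' b' c' by omega, Nat.mod_eq_of_lt h2]

/-- The residues contain those of every completion. -/
theorem sufBits_spec : ∀ (Vs : List Var) (As : List ℤ), Mem Vs As → sufBits Vs ≠ 0 →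
    ∃ a b c : ℕ, (a : ℤ) = (biases Vs).1 + vsum Vs As ∧ (b : ℤ) = (biases Vs).2.1 + wsum Vs As ∧
      (c : ℤ) = (biases Vs).2.2 + usum Vs As ∧ (sufBits Vs).testBit (key3 a b c) = true
  | [], As, hA, _ => by
    rcases hA with _ | _
    exact ⟨0, 0, 0, by simp [biases, vsum], by simp [biases, wsum], by simp [biases, usum],
      by simp [sufBits, key3_eq]⟩
  | V :: Vs, As, hA, hne => by
    rcases hA with _ | ⟨hA, hrest⟩
    rename_i A As'
    rw [sufBits] at hne ⊢
    by_cases h5 : 5 ≤ Vs.length
    · rw [if_pos h5] at hne; exact absurd rfl hne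
    rw [if_neg h5, forceS_eq] at hne ⊢
    by_cases h0 : sufBits Vs = 0
    · rw [if_pos h0] at hne; exact absurd rfl hne
    rw [if_neg h0]
    obtain ⟨a, b, c, ea, eb, ec, ht⟩ := sufBits_spec Vs As' hrest h0
    obtain ⟨p1, p2, p3⟩ := item_pos hA
    refine ⟨(item V A).dv + a, (item V A).dw + b, (item V A).du + c, ?_, ?_, ?_, ?_⟩
    · simp only [biases, vsum]; push_cast [p1, ea]; ring
    · simp only [biases, wsum]; push_cast [p2, eb]; ring
    · simp only [biases, usum]; push_cast [p3, ec]; ring
    · rw [← key_add]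
      refine testBit_joinBits (key3_lt _ _ _) ht (fun x hx => ?_) ?_
      · obtain ⟨i, -, rfl⟩ := List.mem_map.mp hx; exact key3_lt _ _ _
      · exact List.mem_map.mpr ⟨_, item_mem hA, rfl⟩

/-- What the evaluated levels are. -/
def levels : List Var → List L6
  | [] => []
  | V :: Vs => match mkLvls false (V :: Vs) with
    | [] => []
    | l :: _ => ⟨l, sufBits Vs, l.items.map fun i => (i, key3 i.dv i.dw i.du)⟩ :: levels Vs

theorem forceKs_eq {α : Type} : ∀ (l : List (Item × ℕ)) (f : List (Item × ℕ) → α), forceKs l f = f l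
  | [], _ => rfl
  | (i, k) :: l, f => by simp only [forceKs, forceS_eq, forceI_eq, forceKs_eq l]

theorem mkL6_eq {α : Type} : ∀ (Vs : List Var), (∀ U ∈ Vs, 0 < U.m) → ∀ f : List L6 → α,
    mkL6 (mkLvls false Vs) Vs f = f (levels Vs)
  | [], _, _ => rfl
  | V :: Vs, hm, f => by
    obtain ⟨l, hl, -⟩ := mkLvls_spec false V Vs hm
    rw [levels, hl]
    simp only [mkL6, forceS_eq, forceKs_eq, mkL6_eq Vs fun U hU => hm U (List.mem_cons_of_mem _ hU)]

theorem allK_true {f : Item → ℕ → Bool} : ∀ {l : List (Item × ℕ)}, allK f l = true → ∀ p ∈ l, f p.1 p.2 = true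
  | (i, k) :: l, h, p, hp => by
    simp only [allK] at h
    cases hj : f i k
    · rw [hj] at h; exact Bool.noConfusion h
    · rw [hj] at h
      rcases List.mem_cons.mp hp with rfl | hp
      · exact hj
      · exact allK_true h p hp

/-- **Soundness of the search from one place.** -/
theorem dfs6_sound (BV BW BU : ℕ) (fin : List ℤ → Bool) :
    ∀ (Vs : List Var) (prev R v w u : ℕ) (acc As : List ℤ), (∀ U ∈ Vs, 0 < U.m) →
      dfs6 BV BW BU fin (levels Vs) prev R v w u acc = true → Mem Vs As → msum Vs As ≤ R → OrdFrom prev Vs As →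
      (v : ℤ) + (biases Vs).1 + vsum Vs As = BV → (w : ℤ) + (biases Vs).2.1 + wsum Vs As = BW →
      (u : ℤ) + (biases Vs).2.2 + usum Vs As = BU → fin (acc.reverse ++ As) = true
  | [], prev, R, v, w, u, acc, As, _, h, hA, _, _, hv, hw, hu => by
    rcases hA with _ | _
    simp only [biases, vsum, wsum, usum, add_zero, Nat.cast_zero] at hv hw hu
    simp only [levels, dfs6] at h
    rw [E3.beq_of_eq (by exact_mod_cast hv : v = BV), E3.beq_of_eq (by exact_mod_cast hw : w = BW),
      E3.beq_of_eq (by exact_mod_cast hu : u = BU)] at h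
    simpa using h
  | V :: Vs, prev, R, v, w, u, acc, As, hm, h, hA, hR, hO, hv, hw, hu => by
    obtain ⟨l, hl, hval, hsame, hit⟩ := mkLvls_spec false V Vs hm
    rcases hA with _ | ⟨hA, hrest⟩
    rename_i A As'
    have hb := hval.bias
    simp only [Prod.ext_iff] at hb
    obtain ⟨b1, b2, b3⟩ := hb
    rw [levels, hl] at h
    simp only [dfs6] at h
    rw [okLvl_true hval (List.Forall₂.cons hA hrest) hR (by rw [b1]; exact hv)
      ⟨fun _ => by rw [b2]; linarith, by rw [b2]; linarith, ⟨0, by rw [b2]; linarith⟩⟩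
      (by rw [b3]; exact hu), cond_true, forceS_eq] at h
    obtain ⟨hO1, hO2⟩ := hO
    simp only [msum] at hR
    obtain ⟨p1, p2, p3⟩ := item_pos hA
    simp only [biases, vsum, wsum, usum] at hv hw hu
    push_cast at hv hw hu
    have hi := allK_true h (item V A, key3 (item V A).dv (item V A).dw (item V A).du)
      (List.mem_map.mpr ⟨item V A, by rw [hit]; exact item_mem hA, rfl⟩)
    have hchild : childOK (sufBits Vs) (key3 (Nat.sub BV v) (Nat.sub BW w) (Nat.sub BU u))
        (key3 (item V A).dv (item V A).dw (item V A).du) = true := by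
      by_cases h0 : sufBits Vs = 0
      · simp [childOK, h0]
      obtain ⟨a, b, c, ea, eb, ec, ht⟩ := sufBits_spec Vs As' hrest h0
      have e1 : Nat.sub BV v = (item V A).dv + a := by simp only [Nat.sub_eq]; omega
      have e2 : Nat.sub BW w = (item V A).dw + b := by simp only [Nat.sub_eq]; omega
      have e3 : Nat.sub BU u = (item V A).du + c := by simp only [Nat.sub_eq]; omega
      rw [childOK, e1, e2, e3, child_key]
      cases Nat.beq (sufBits Vs) 0
      · simp only [cond_false]
        rw [Nat.testBit, bne_iff_ne] at ht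
        refine E3.beq_of_eq ?_
        show (sufBits Vs >>> key3 a b c) &&& 1 = 1
        rw [Nat.and_comm] at ht
        have := Nat.and_one_is_mod (sufBits Vs >>> key3 a b c)
        omega
      · rfl
    simp only [hsame] at hi
    rw [hchild, cond_true, show cond V.same (Nat.ble prev (item V A).dv) true = true by
      cases hs : V.same
      · rfl
      · simp only [cond_true]; rw [Nat.ble_eq]; have := hO1 hs; omega,
      cond_true, show Nat.ble (item V A).q R = true by
        rw [Nat.ble_eq]; show V.m * (A * A).toNat ≤ R; omega, cond_true] at hi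
    simp only [forceS_eq] at hi
    have := dfs6_sound BV BW BU fin Vs _ _ _ _ _ (A :: acc) As'
      (fun U hU => hm U (List.mem_cons_of_mem _ hU)) hi hrest
      (by show msum Vs As' ≤ R - V.m * (A * A).toNat; omega) hO2 ?_ ?_ ?_
    · simpa using this
    · simp only [Nat.add_eq]; push_cast [p1]; linarith
    · simp only [Nat.add_eq]; push_cast [p2]; linarith
    · simp only [Nat.add_eq]; push_cast [p3]; linarith

/-- Every solution passes the test of its start. -/
theorem search6_sound {Vs : List Var} {seeds : List Seed} (h : search6 Vs seeds = true)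
    (hm : ∀ U ∈ Vs, 0 < U.m) {t : Seed} (ht : t ∈ seeds) {As : List ℤ} (hA : Mem Vs As) (hR : msum Vs As ≤ t.R)
    (hO : OrdFrom 0 Vs As) (hv : t.v + vsum Vs As = 0) (hw : t.w + wsum Vs As = 0)
    (hu : t.u + usum Vs As = 0) : t.fin As = true := by
  simp only [search6, Bool.or_eq_true, List.isEmpty_iff, List.any_eq_true] at h
  rcases h with (h | ⟨V, hV, he⟩) | h
  · rw [h] at ht; simp at ht
  · exfalso
    obtain ⟨i, hi, rfl⟩ := List.getElem_of_mem hV
    have hlen := List.Forall₂.length_eq hA
    have := hA.get (i := i) hi (hlen ▸ hi)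
    simp only [List.get_eq_getElem] at this
    rw [List.eq_nil_iff_forall_not_mem] at he
    exact he _ this
  simp only [forceLvls_eq, mkL6_eq Vs hm, forceS_eq, List.all_eq_true] at h
  have h' := h t ht
  refine (List.nil_append As) ▸ dfs6_sound _ _ _ t.fin Vs 0 t.R _ _ _ [] As hm h' hA hR hO ?_ ?_ ?_
  · push_cast; omega
  · push_cast; omega
  · push_cast; omega

end CfsgLib.M24Order.E6
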