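import Cfsg.Agent.Lib.M24Order.Dfs4Defs

/-!
# A checked search for the values of a column, with residues of the completions: definitions

The search of `Dfs4Defs` without modulus, which besides keeps, for the last places, the set of the residues of the
contributions of all completions as bits, so that a child with no completion is passed over at once.
-/

set_option autoImplicit false

namespace CfsgLib.M24Order.E6

open CfsgLib.M24Order

/-- Evaluate a natural number before use. -/
def forceS {α : Type} : ℕ → (ℕ → α) → α
  | 0, f => f 0
  | m + 1, f => f (Nat.succ m)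

/-- The modulus of the keys. -/
def keyP : ℕ := 131071

/-- The key of three contributions. -/
def key3 (v w u : ℕ) : ℕ := Nat.mod (Nat.add (Nat.add v (Nat.mul 9973 w)) (Nat.mul 12347 u)) keyP

/-- The bits turned by `k` places, in a window of `keyP` bits. -/
def rot (mask S k : ℕ) : ℕ :=
  Nat.land (Nat.lor (Nat.shiftLeft S k) (Nat.shiftRight S (Nat.sub keyP k))) mask

/-- The keys of the items. -/
def itemKeys (is : List E3.Item) : List ℕ := is.map fun i => key3 i.dv i.dw i.du

/-- The residues of one item and a completion. -/
def joinBits (S : ℕ) : List ℕ → ℕ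
  | [] => 0
  | k :: ks => forceS (2 ^ keyP - 1) fun mask =>
      forceS (joinBits S ks) fun acc => forceS (rot mask S k) fun T => Nat.lor T acc

/-- The residues of the completions, for at most `5` places; `0`: not known. -/
def sufBits : List E3.Var → ℕ
  | [] => 1
  | V :: Vs =>
    if 5 ≤ Vs.length then 0
    else forceS (sufBits Vs) fun S => if S = 0 then 0 else joinBits S (itemKeys (E3.mkItems V))

/-- A level: the facts of `Dfs4Defs`, the residues of the completions after it, the items with their keys. -/
structure L6 where
  l : E3.Lvl
  nb : ℕ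
  items : List (E3.Item × ℕ)

def forceKs {α : Type} : List (E3.Item × ℕ) → (List (E3.Item × ℕ) → α) → α
  | [], f => f []
  | (i, k) :: is, f => forceI i.a fun z => forceS i.dv fun a => forceS i.dw fun b => forceS i.du fun c =>
      forceS i.q fun d => forceS k fun k' => forceKs is fun is' => f ((⟨z, a, b, c, d⟩, k') :: is')

/-- The levels, evaluated. -/
def mkL6 {α : Type} : List E3.Lvl → List E3.Var → (List L6 → α) → α
  | l :: ls, _ :: Vs, f =>
    forceS (sufBits Vs) fun nb => forceKs (l.items.map fun i => (i, key3 i.dv i.dw i.du)) fun is =>
      mkL6 ls Vs fun ls' => f (⟨l, nb, is⟩ :: ls')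
  | _, _, f => f []

/-- The child may have a completion. -/
def childOK (nb t k : ℕ) : Bool :=
  cond (Nat.beq nb 0) true
    (Nat.beq (Nat.land (Nat.shiftRight nb (Nat.mod (Nat.sub (Nat.add t keyP) k) keyP)) 1) 1)

def allK (f : E3.Item → ℕ → Bool) : List (E3.Item × ℕ) → Bool
  | [] => true
  | (i, k) :: is => cond (f i k) (allK f is) false

/-- All completions pass the test. -/
def dfs6 (BV BW BU : ℕ) (fin : List ℤ → Bool) : List L6 → ℕ → ℕ → ℕ → ℕ → ℕ → List ℤ → Bool
  | [], _, _, v, w, u, acc =>
    cond (Nat.beq v BV) (cond (Nat.beq w BW) (cond (Nat.beq u BU) (fin acc.reverse) true) true) true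
  | l :: ls, prev, R, v, w, u, acc =>
    cond (E3.okLvl l.l 0 BV BW BU R v w u)
      (forceS (key3 (Nat.sub BV v) (Nat.sub BW w) (Nat.sub BU u)) fun t =>
        allK (fun i k =>
          cond (childOK l.nb t k)
            (cond (cond l.l.same (Nat.ble prev i.dv) true)
              (cond (Nat.ble i.q R)
                (forceS (Nat.sub R i.q) fun R' => forceS (Nat.add v i.dv) fun v' =>
                  forceS (Nat.add w i.dw) fun w' => forceS (Nat.add u i.du) fun u' =>
                    dfs6 BV BW BU fin ls i.dv R' v' w' u' (i.a :: acc))
                true) true) true) l.items)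
      true

/-- All solutions from all starts pass their tests; the quadratic condition is an equation. -/
def search6 (Vs : List E3.Var) (seeds : List E3.Seed) : Bool :=
  seeds.isEmpty || (Vs.any fun V => V.os.isEmpty) ||
    E3.forceLvls (E3.mkLvls false Vs) fun ls0 => mkL6 ls0 Vs fun ls =>
      forceS (E3.biases Vs).1 fun bv => forceS (E3.biases Vs).2.1 fun bw => forceS (E3.biases Vs).2.2 fun bu =>
        seeds.all fun t => forceS (bv + (-t.v).toNat) fun BV => forceS (bw + (-t.w).toNat) fun BW =>
          forceS (bu + (-t.u).toNat) fun BU => forceS t.v.toNat fun v => forceS t.w.toNat fun w =>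
            forceS t.u.toNat fun u => forceS t.R fun R => dfs6 BV BW BU t.fin ls 0 R v w u []

end CfsgLib.M24Order.E6
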