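import Cfsg.Agent.Lib.M24Order.Keys4Defs
import Cfsg.Agent.Lib.M24Order.Dfs6Defs

/-!
# Simple groups of order 244823040: the computations for `|N(P₇) : C(P₇)| = 6`, definitions

The members of the principal blocks for 23 and 11 and their values at an element `y` of order 5, at an element `w`
of order 7, at an involution `s` inverting `P₁₁` with `5` in the order of its centraliser and at an involution `z`
with `7` there. A member carries a tag: `1` for the member of degree 22 of the block for 7, `2` for its alternating
square, `3` for that of degree 3520, `4` for the pair of degree 6336.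
-/

set_option autoImplicit false

namespace CfsgLib.M24Order.E6

open CfsgLib.M24Order CfsgLib.OrderBlocks CfsgLib.BrauerTuan

/-- An entry with its tag. -/
abbrev TEnt := E3.Ent × ℕ

/-- The budget for the squares of the degrees of the free members. -/
def budget : ℤ := 244823040 - (1 + 1771 * 1771 + 2024 * 2024 + 5544 * 5544 + 5796 * 5796)

/-- The cases for the member of the block for `7` in the block for `23`, with the values of `|C(P₇) : P₇|`. -/
def k7s (com : ℕ) : List ℕ := if com = 22 then [192, 24, 3] else [24, 3]

/-- The number of members of the block for `7` among the free members. -/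
def comNum (com : ℕ) : ℕ := if com = 6336 then 2 else 1

/-- The values at an involution, with the congruence modulo 7 of a degree divisible by 7. -/
def opts (C : ℕ) (spec : Bool) (d : ℕ) : List ℤ :=
  (E3.opts C spec d).filter fun A => !(decide (C % 7 = 0) && decide (d % 7 = 0)) || decide (A % 7 = 0)

/-- What the tag says about a value at an involution. -/
def tagI (C : ℕ) (spec : Bool) (t : ℕ) (A : ℤ) : Bool :=
  match t with
  | 1 => !decide (C % 7 = 0) || decide (A % 7 = 1)
  | 2 => decide (A = if spec then -9 else 7)
  | 3 => !decide (C % 7 = 0) || decide (A % 7 = 6)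
  | 4 => !decide (C % 7 = 0) || decide (A % 7 = 1)
  | _ => true

/-- The values of an entry at an involution. -/
def optsI (C : ℕ) (spec : Bool) (e : TEnt) : List ℤ := (opts C spec e.1.1.natAbs).filter (tagI C spec e.2)

/-- What the tag says about a value at an element of order 5. -/
def tagY (t : ℕ) (A : ℤ) : Bool :=
  match t with
  | 1 => decide (A = 2)
  | 2 => decide (A = 1)
  | _ => true

/-- The values of an entry at an element of order 5. -/
def optsY (k : ℕ) (e : TEnt) : List ℤ := (E3.opts5 k e.1.1.natAbs).filter (tagY e.2)

/-- The values at an element of order 7 with centraliser of order `7 k`. -/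
def opts7 (k d : ℕ) : List ℤ :=
  forceN (d / Nat.gcd (E3.order / (7 * k)) d) fun q => forceN (min (d - 1) (lim14 (7 * k))) fun l =>
    forceN (l / q) fun m =>
      ((List.range (2 * m + 1)).map fun i : ℕ => (q : ℤ) * ((i : ℤ) - (m : ℤ))).filter fun A =>
        decide ((A - (d : ℤ)) % 7 = 0) && (decide (d % 7 ≠ 0) || decide (A = 0))

/-- What the tag says about a value at an element of order 7. -/
def tagW (t : ℕ) (A : ℤ) : Bool :=
  match t with
  | 1 => decide (A = 1)
  | 2 => decide (A = 0)
  | 3 => decide (A = -1)
  | 4 => decide (A = 1)
  | _ => true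

/-- The values of an entry at an element of order 7. -/
def optsW (k : ℕ) (e : TEnt) : List ℤ := (opts7 k e.1.1.natAbs).filter (tagW e.2)

/-- The values of the members of the block for 5. -/
structure T5 where
  a : ℤ
  b : ℤ
  c : ℤ
  d : ℤ
deriving DecidableEq

/-- The sum of the squares, with the trivial character. -/
def T5.sq (t : T5) : ℤ := 1 + t.a * t.a + t.b * t.b + t.c * t.c + t.d * t.d

/-- The values of the member of degree 2024 of the blocks for 5 and 7. -/
def optsB (C : ℕ) (spec : Bool) : List ℤ :=
  (E3.opts55 C spec 2024 (-1)).filter fun A => !decide (C % 7 = 0) || decide (A % 7 = 1)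

/-- The values of a member of the block for 5 of degree divisible by 7 or congruent to no sign. -/
def opts56 (C : ℕ) (spec : Bool) (d : ℕ) (s : ℤ) : List ℤ :=
  (opts C spec d).filter fun A => !decide (C % 5 = 0) || decide ((A - s) % 5 = 0)

/-- All tuples of values are in the table. -/
def checkTups (k : ℕ) (spec : Bool) (m : ℕ) (table : List (ℕ × T5)) : Bool :=
  (E3.centsP m).all fun C => forceN C fun C => forceL (opts56 C spec 1771 1) fun la =>
    forceL (opts56 C spec 5544 (-1)) fun lc => forceL (opts56 C spec 5796 1) fun ld =>
      (optsB C spec).all fun b => la.all fun a => lc.all fun c => forceI (-1 - a + b + c) fun d =>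
        !(decide ((T5.mk a b c d).sq ≤ (C : ℤ)) && ld.contains d && E3.sqOK C k ⟨a, b, c, d, 0, 0⟩) ||
          table.contains (C, ⟨a, b, c, d⟩)

/-- The values at a class: the order of the centraliser, the block for 5, the other members. -/
structure Sol where
  C : ℕ
  t : T5
  vs : List ℤ
deriving DecidableEq

/-- The entries without tags. -/
def ents (es : List TEnt) : List E3.Ent := es.map Prod.fst

/-- A common multiple of the degrees. -/
def lcmT (es : List TEnt) : ℕ := E3.lcmEs (ents es)

/-- The unknowns of a column at an involution; the list `us` scales the second linear condition. -/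
def vars (C : ℕ) (spec dd : Bool) (L : ℕ) : Option TEnt → List TEnt → List ℤ → List E3.Var
  | _, [], _ => []
  | p, e :: es, us =>
    ⟨dd && decide (p = some e), sgn e.1.1, (L : ℤ) / e.1.1, (L : ℤ) / e.1.1 * us.headD 0, e.1.2, optsI C spec e⟩ ::
      vars C spec dd L (some e) es us.tail

/-- The start of the second linear condition; `c`: the value of the member of degree 5544. -/
def uStart (L : ℕ) (ref : Option Sol) (c : ℤ) : ℤ :=
  match ref with
  | none => 0
  | some s => (L : ℤ) + s.t.c * c * ((L : ℤ) / 5544)

/-- The integers of a list, once each. -/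
def nub : List ℤ → List ℤ
  | [] => []
  | a :: l => if l.contains a then nub l else a :: nub l

/-- The weighted squares of a value list. -/
def sqv : List TEnt → List ℤ → ℤ
  | e :: es, A :: As => (e.1.2 : ℤ) * (A * A) + sqv es As
  | _, _ => 0

/-- The largest bound among the rows with a given value of the member of degree 5544. -/
def maxR (C : ℕ) (c : ℤ) : List (ℕ × T5) → ℕ
  | [] => 0
  | p :: rows => if p.2.c = c then Nat.max ((C : ℤ) - p.2.sq).toNat (maxR C c rows) else maxR C c rows

/-- The start of the search for one value of the member of degree 5544. -/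
def seedCol (C L : ℕ) (es : List TEnt) (rows : List (ℕ × T5)) (ref : Option Sol) (fin : Sol → Bool) (c : ℤ) :
    E3.Seed :=
  ⟨maxR C c rows, 1 + c, (L : ℤ) + c * c * ((L : ℤ) / 5544), uStart L ref c, fun vs =>
    rows.all fun p => !(decide (p.2.c = c) && decide (p.2.sq + sqv es vs ≤ (C : ℤ))) || fin ⟨C, p.2, vs⟩⟩

/-- The search in a column at an involution. -/
def searchCol (C : ℕ) (spec dd : Bool) (es : List TEnt) (table : List (ℕ × T5)) (us : List ℤ) (ref : Option Sol)
    (fin : Sol → Bool) : Bool :=
  forceN (lcmT es) fun L =>
    search6 (vars C spec dd L none es us)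
      ((nub ((table.filter fun p => decide (p.1 = C)).map fun p => p.2.c)).map
        (seedCol C L es (table.filter fun p => decide (p.1 = C)) ref fin))

/-- The unknowns at an element of order 5 or 7, with the values from `os`. -/
def varsR (os : TEnt → List ℤ) (L : ℕ) : List TEnt → List E3.Var
  | [] => []
  | e :: es => ⟨false, sgn e.1.1, 244823040 * ((L : ℤ) / e.1.1), 0, e.1.2, os e⟩ :: varsR os L es

/-- All value lists at an element of order 5 pass. -/
def searchY (k : ℕ) (es : List TEnt) (fin : List ℤ → Bool) : Bool :=
  forceN (lcmT es) fun L =>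
    E3.search (E3.mod5 k L) false (varsR (optsY k) L es)
      [⟨5 * k - 5, 0, 244823040 * ((L : ℤ) + (L : ℤ) / 5544), 0, fin⟩]

/-- The scale at an element of order 7. -/
def mod7 (k L : ℕ) : ℕ := L * (7 * k) * (7 * k) * 23

/-- All value lists at an element of order 7 pass. -/
def searchW (com k : ℕ) (es : List TEnt) (fin : List ℤ → Bool) : Bool :=
  forceN (lcmT es) fun L =>
    E3.search (mod7 k L) false (varsR (optsW k) L es)
      [⟨7 * k - 1 - (6 - comNum com), 1, 244823040 * (L : ℤ), 0, fin⟩]

/-- The class multiplication with centralisers of orders `C`, `D` and the scaled sum `X` fits. -/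
def fits (L C D : ℕ) (X : ℤ) : Bool :=
  decide (0 ≤ X) && decide ((244823040 * X) % ((L * C * D * 23 : ℕ) : ℤ) = 0)

/-- The elements of orders 5 and 7 fit. -/
def compYW (k5 k7 : ℕ) (es : List TEnt) (u z : List ℤ) : Bool :=
  forceN (lcmT es) fun L => forceI ((L : ℤ) + E3.pairSum L (ents es) u z) fun X => fits L (5 * k5) (7 * k7) X

/-- A class of involutions fits the element of order 5. -/
def compY (k5 : ℕ) (es : List TEnt) (s : Sol) (u : List ℤ) : Bool :=
  forceN (lcmT es) fun L => forceI ((L : ℤ) - s.t.c * ((L : ℤ) / 5544) + E3.pairSum L (ents es) s.vs u) fun X =>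
    fits L s.C (5 * k5) X

/-- A class of involutions fits the element of order 7. -/
def compW (k7 : ℕ) (es : List TEnt) (s : Sol) (z : List ℤ) : Bool :=
  forceN (lcmT es) fun L => forceI ((L : ℤ) + E3.pairSum L (ents es) s.vs z) fun X => fits L s.C (7 * k7) X

/-- Two classes of involutions fit: they have the same values, or the sum over the block for 23 vanishes. -/
def compat2 (k5 k7 : ℕ) (es : List TEnt) (ryw : List (List ℤ × List ℤ)) (s z : Sol) : Bool :=
  (decide (s = z) || forceN (lcmT es) fun L =>
    decide ((L : ℤ) + s.t.c * z.t.c * ((L : ℤ) / 5544) + E3.pairSum L (ents es) s.vs z.vs = 0)) &&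
    ryw.any fun p => compY k5 es z p.1 && compW k7 es z p.2 && compY k5 es s p.1 && compW k7 es s p.2

/-- All lists of further members of the block for `11` pass. -/
def allMs (es : List E3.Ent) (P : List ℤ → Bool) : Bool :=
  decide (9 < E3.fixedNum es) ||
    E3.allM E3.free11 (9 - E3.fixedNum es) (-1 + 5796 - E3.fixedSum es) (budget - E3.sqSum es) [] P

/-- The share of the members in the mixed sum of the block for `11`. -/
def shared2 (L : ℕ) : List E3.Ent → List ℤ → List ℤ → ℤ
  | e :: es, A :: As, B :: Bs =>
    (e.2 : ℤ) * E3.delta e.1.natAbs * (A * B) * ((L / e.1.natAbs : ℕ) : ℤ) + shared2 L es As Bs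
  | _, _, _ => 0

/-- The unknowns in the block for `11`; the list `us` scales the second linear condition. -/
def vars11 (C : ℕ) (spec dd : Bool) (L : ℕ) : Option ℤ → List ℤ → List ℤ → List E3.Var
  | _, [], _ => []
  | p, x :: ms, us =>
    ⟨dd && decide (p = some x), sgn x, 244823040 * ((L : ℤ) / x), (L : ℤ) / x * us.headD 0, 1,
      opts C spec x.natAbs⟩ :: vars11 C spec dd L (some x) ms us.tail

/-- The unknowns, the first with a known value if `lv` gives one. -/
def vars11L (C : ℕ) (spec dd : Bool) (L : ℕ) : Option ℤ → List ℤ → List ℤ → List E3.Var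
  | some v, x :: ms, us =>
    ⟨false, sgn x, 244823040 * ((L : ℤ) / x), (L : ℤ) / x * us.headD 0, 1,
      (opts C spec x.natAbs).filter fun A => decide (A = v)⟩ :: vars11 C spec dd L none ms us.tail
  | _, ms, us => vars11 C spec dd L none ms us

/-- The member of degree 230 is known: one member of degree 22 and none of degree 252. -/
def linkOn (es : List TEnt) : Bool :=
  es.any (fun e => decide (e.2 = 1)) && decide ((ents es).count (-22, 1) = 1) && !(ents es).contains (-252, 1)

/-- The value of the member of degree 22 of the block for 7. -/
def valOne : List TEnt → List ℤ → ℤ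
  | e :: es, A :: As => if e.2 = 1 then A else valOne es As
  | _, _ => 0

/-- The value of the member of degree 230. -/
def lv (es : List TEnt) (s : Sol) : Option ℤ :=
  if linkOn es then some (valOne es s.vs * valOne es s.vs / 2 + 10 - valOne es s.vs) else none

/-- A common multiple for the block for `11`. -/
def lcm11 (es : List TEnt) (ms : List ℤ) : ℕ :=
  Nat.lcm (E3.lcmEs (ents es ++ ms.map fun x => (x, 1))) 5796

/-- The start of the search in the block for `11` at a class; `T`: the number of sections that are hit. -/
def seed11 (T L : ℕ) (es : List TEnt) (s : Sol) (u0 : ℤ) (fin : List ℤ → Bool) : E3.Seed :=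
  let r := E3.shared11 L (ents es) s.vs
  ⟨((s.C : ℤ) - s.t.sq - r.2.2).toNat, 1 - s.t.d + r.1,
    244823040 * ((L : ℤ) - s.t.d * s.t.d * ((L : ℤ) / 5796) + r.2.1) -
      (T : ℤ) * 11 * ((s.C : ℤ) * (s.C : ℤ)) * (L : ℤ), u0, fin⟩

/-- No values in the block for `11` at a class. -/
def noB11 (spec : Bool) (T : ℕ) (es : List TEnt) (s : Sol) (ms : List ℤ) : Bool :=
  forceN (lcm11 es ms) fun L =>
    search6 (vars11L s.C spec true L (lv es s) ms []) [seed11 T L es s 0 fun _ => false]

/-- No values in the block for `11` at two classes that are not conjugate. -/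
def noB11Two (es : List TEnt) (s z : Sol) (ms : List ℤ) : Bool :=
  forceN (lcm11 es ms) fun L =>
    forceI ((L : ℤ) - s.t.d * z.t.d * ((L : ℤ) / 5796) + shared2 L (ents es) s.vs z.vs) fun u0 =>
      search6 (vars11L s.C true true L (lv es s) ms [])
        [seed11 1 L es s 0 fun vs =>
          search6 (vars11L z.C false false L (lv es z) ms vs) [seed11 0 L es z u0 fun _ => false]]

/-- What is computed for one list of members and one value of `|C(P₇) : P₇|`. -/
structure KP where
  k7 : ℕ
  ryw : List (List ℤ × List ℤ)
  sols : List Sol
  useX : Bool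
  zp : List ℕ
  zi : List ℕ
  grp : List (Sol × List Sol)

/-- What is computed for one list of members. -/
structure Plan where
  base : List TEnt
  es : List TEnt
  ry : List (List ℤ)
  ks : List KP

/-- The values at an element of order 5. -/
def okY (k5 : ℕ) (P : Plan) : Bool := searchY k5 P.es fun u => P.ry.contains u

/-- The values at an element of order 7, with those at the element of order 5. -/
def okW (com k5 : ℕ) (P : Plan) (K : KP) : Bool :=
  searchW com K.k7 P.es fun z => P.ry.all fun u => !compYW k5 K.k7 P.es u z || K.ryw.contains (u, z)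

/-- The order of the further members of the block for `11` in the search. -/
def arrange (es : List TEnt) (ms : List ℤ) : List ℤ :=
  if linkOn es then (-230) :: ms.erase (-230) else ms

/-- No values in the block for `11` at an involution inverting `P₁₁`, whatever its further members. -/
def deadS (es : List TEnt) (s : Sol) : Bool :=
  allMs (ents es) fun ms0 =>
    (linkOn es && !ms0.contains (-230)) || forceL (arrange es ms0) fun ms => noB11 true 1 es s ms

/-- The values at the involution inverting `P₁₁`. -/
def okS (k5 : ℕ) (table : List (ℕ × T5)) (P : Plan) (K : KP) : Bool :=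
  K.ryw.isEmpty || (E3.centsP 5).all fun C => forceN C fun C => searchCol C true true P.es table [] none fun s =>
    K.sols.contains s || !(K.ryw.any fun p => compY k5 P.es s p.1 && compW K.k7 P.es s p.2) || deadS P.es s

/-- The pair is listed. -/
def inGrp (K : KP) (s z : Sol) : Bool := K.grp.any fun g => decide (g.1 = s) && g.2.contains z

/-- A value list in the order of the entries. -/
def unpick (K : KP) (z : Sol) : Sol := ⟨z.C, z.t, E3.pick z.vs 0 K.zi⟩

/-- The values at the involution in `C(P₇)`. -/
def okZ (com k5 : ℕ) (table : List (ℕ × T5)) (P : Plan) (K : KP) : Bool :=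
  K.sols.isEmpty || (decide (K.k7 % 2 = 0) && (P.es.length == K.zp.length) && K.zp.isPerm (List.range P.es.length) &&
    (E3.pick K.zp 0 K.zi == List.range P.es.length) && K.zi.all (fun i => decide (i < P.es.length)) &&
    (!K.useX || decide (com = 22)) &&
    (E3.centsP 7).all fun C => forceN C fun C =>
      if K.useX then
        K.sols.all fun s =>
          searchCol C false false (E3.pick P.es ((0, 0), 0) K.zp) table (E3.pick s.vs 0 K.zp) (some s) fun z =>
            !(compat2 k5 K.k7 P.es K.ryw s (unpick K z)) || inGrp K s (unpick K z)
      else searchCol C false false (E3.pick P.es ((0, 0), 0) K.zp) table [] none fun z =>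
        K.sols.all fun s => !(compat2 k5 K.k7 P.es K.ryw s (unpick K z)) || inGrp K s (unpick K z))

/-- The block for `11`. -/
def okM (P : Plan) (K : KP) : Bool :=
  K.grp.isEmpty || allMs (ents P.es) fun ms0 =>
    (linkOn P.es && !ms0.contains (-230)) || forceL (arrange P.es ms0) fun ms =>
      K.grp.all fun g => noB11 true 1 P.es g.1 ms ||
        g.2.all fun z => decide (z ≠ g.1) && (noB11 false 0 P.es z ms || noB11Two P.es g.1 z ms)

/-- No values at an element of order 7. -/
def noW (com : ℕ) (P : Plan) : Bool := (k7s com).all fun k => searchW com k P.es fun _ => false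

/-- All checks for one list. -/
def okPlan (com k5 : ℕ) (tabS tabZ : List (ℕ × T5)) (P : Plan) : Bool :=
  (okY k5 P && (P.ry.isEmpty || (k7s com).all fun k => P.ks.any fun K =>
    decide (K.k7 = k) && okW com k5 P K && okS k5 tabS P K && okZ com k5 tabZ P K && okM P K)) || noW com P

/-- A list of integers from a number. -/
def dec : ℕ → ℕ → List ℤ
  | 0, _ => []
  | k + 1, n => forceI (((n % 1048576 : ℕ) : ℤ) - 524288) fun a => a :: dec k (n / 1048576)

/-- Tagged entries from a number for the degrees and tags, and the place of the pair. -/
def mkT (n j : ℕ) : List TEnt :=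
  (((dec 20 n).take 10).zip ((dec 20 n).drop 10)).zipIdx.map fun p =>
    ((p.1.1, if p.2 = j then 2 else 1), p.1.2.toNat)

/-- A number from a list of integers. -/
def enc : List ℤ → ℕ
  | [] => 0
  | a :: l => (a + 524288).toNat + 1048576 * enc l

/-- The members of the block for `7` among the free ones, and what is linked to them. -/
def fixedTags (com : ℕ) : List TEnt :=
  if com = 22 then [((-22, 1), 1), ((231, 1), 2)] else if com = 3520 then [((3520, 1), 3)] else []

/-- The tag of the pair. -/
def pairTag (com : ℕ) : ℕ := if com = 6336 then 4 else 0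

/-- The entries with their tags, in a standard order. -/
def mkBase (com : ℕ) (rest : List ℤ) (y : ℤ) : List TEnt :=
  fixedTags com ++ ((rest.map fun x => ((x, 1), 0)) ++ [((-y, 2), pairTag com)])

/-- The squares of the degrees of the known members among the free ones. -/
def knownSq (com : ℕ) : ℤ := ((fixedTags com).map fun e => e.1.1 * e.1.1).sum

/-- The base is in the table, given by numbers. -/
def inCanon (canon : List ℕ) (base : List TEnt) : Bool :=
  forceN (enc (base.map (fun e => e.1.1) ++ base.map fun e => (e.2 : ℤ))) fun n =>
    canon.any (fun m => Nat.beq m n) && decide (mkT n 9 = base)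

/-- All lists of free members of the block for `23` are in the table. -/
def checkLists (com : ℕ) (canon : List ℕ) : Bool :=
  if com = 6336 then
    E3.allM E3.xs23.reverse 9 (6336 - 5545) (budget - 2 * (6336 * 6336)) [] fun rest =>
      inCanon canon (mkBase com rest 6336)
  else
    E3.allL E3.xs23.reverse (9 - (fixedTags com).length) (budget - knownSq com) [] fun rest =>
      forceI (1 + 5544 + ((fixedTags com).map fun e => e.1.1).sum + rest.sum) fun y =>
        !(E3.ys23.contains y) ||
          decide (budget < knownSq com + (rest.map fun x => x * x).sum + 2 * (y * y)) ||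
          inCanon canon (mkBase com rest y)

end CfsgLib.M24Order.E6
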