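import Cfsg.Agent.Lib.M24Order.Invol4

/-!
# Simple groups of order 244823040: no members of the blocks pass the computations
-/

set_option autoImplicit false
set_option linter.unusedSectionVars false
set_option linter.style.haveILetI false
set_option maxHeartbeats 1000000

namespace CfsgLib.M24Order.E3

open Cfsg
open scoped ComplexConjugate CfsgLib.Char
open CfsgLib CfsgLib.BrauerTuan CfsgLib.OrderBlocks CfsgLib.M24Order
open scoped _root_.Classical

universe u

theorem pick_map {α β : Type*} (f : α → β) (l : List α) (d : α) (d' : β) (ix : List ℕ) (h : ∀ i ∈ ix, i < l.length) :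
    pick (l.map f) d' ix = (pick l d ix).map f := by
  rw [pick, pick, List.map_map]
  refine List.map_congr_left fun i hi => ?_
  rw [Function.comp_apply, List.getD_eq_getElem _ _ (by rw [List.length_map]; exact h i hi), List.getD_eq_getElem _ _ (h i hi),
    List.getElem_map]

theorem pick_range {α : Type*} (l : List α) (d : α) : (List.range l.length).map (fun i => l.getD i d) = l := by
  refine List.ext_getElem (by simp) fun i h1 h2 => ?_
  rw [List.getElem_map, List.getElem_range, List.getD_eq_getElem _ _ h2]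

theorem length_filter_ne {β : Type*} (w : β → ℤ) : ∀ l : List β,
    ((l.filter fun a => decide (w a ≠ 0)).length : ℤ) = (l.map fun a => if w a = 0 then (0 : ℤ) else 1).sum
  | [] => rfl
  | a :: l => by
    rw [List.map_cons, List.sum_cons, List.filter_cons, ← length_filter_ne w l]
    by_cases h : w a = 0 <;> simp [h, add_comm]

theorem lcmEs_pos : ∀ {es : List Ent}, (∀ e ∈ es, 0 < e.1.natAbs) → 0 < lcmEs es
  | [], _ => Nat.lcm_pos (by norm_num) (by norm_num)
  | e :: es, h => Nat.lcm_pos (h e List.mem_cons_self) (lcmEs_pos fun x hx => h x (List.mem_cons_of_mem _ hx))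

variable {G : Type u} [Group G] [Fintype G] [IsSimpleGroup G]

theorem intAt_one : IntAt (1 : G) :=
  ⟨fun χ => by rw [iv_one, value_one']; push_cast; rfl, by simp, by simp, by simp⟩

theorem orderOf_isConj {g x : G} (h : IsConj g x) : orderOf x = orderOf g := by
  obtain ⟨c, rfl⟩ := isConj_iff.mp h
  exact (MulAut.conj c).orderOf_eq g

theorem not_conj_P {p : ℕ} [Fact p.Prime] {P : Sylow p G} (hP : Nat.card (P : Subgroup G) = p) {g : G}
    (h1 : orderOf g ≠ 1) (hp : orderOf g ≠ p) : ∀ x ∈ (P : Subgroup G), ¬ IsConj g x := fun x hx h => by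
  by_cases hx1 : x = 1
  · exact h1 (by rw [← orderOf_isConj h, hx1, orderOf_one])
  · exact hp (by rw [← orderOf_isConj h, orderOf_of_mem hP hx hx1])

theorem sum_sq_nonneg' {β : Type*} (A : β → ℤ) (l : List β) : 0 ≤ (l.map fun x => A x * A x).sum :=
  List.sum_nonneg fun z hz => by
    obtain ⟨a, -, rfl⟩ := List.mem_map.mp hz
    exact mul_self_nonneg _

variable [Fact (Nat.Prime 5)] [Fact (Nat.Prime 7)] [Fact (Nat.Prime 11)] [Fact (Nat.Prime 23)] {k5 : ℕ}
  {M : Members G k5} {rs : List (IrrCharacter G)}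

theorem Members.card_G (M : Members G k5) : Nat.card G = 244823040 := M.B5.card_eq

theorem Members.adm_ne_triv (hr : M.Adm rs) {χ : IrrCharacter G} (h : χ ∈ rs) : χ ≠ Blocks.trivIrr G := by
  refine M.ne_triv ?_
  rcases M.adm_mem hr h with h' | rfl
  · exact List.mem_append_left _ (List.mem_append_right _ (List.mem_append_left _ h'))
  · exact List.mem_append_left _ (List.mem_append_right _ (List.mem_append_right _ List.mem_cons_self))

theorem Members.ms_ne_triv {χ : IrrCharacter G} (h : χ ∈ M.ms) : χ ≠ Blocks.trivIrr G :=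
  M.ne_triv (List.mem_append_right _ h)

theorem Members.x11_deg {χ : IrrCharacter G} (h : χ ∈ M.ms) : (M.x11 χ).natAbs = deg χ :=
  (M.B11.sgn_eq (M.mem_ms h)).2

theorem Members.lcm_pos (hr : M.Adm rs) : 0 < lcmEs (rs.map M.ent) := by
  refine lcmEs_pos fun e he => ?_
  obtain ⟨χ, hχ, rfl⟩ := List.mem_map.mp he
  rw [(M.ent_deg hr hχ).1]
  exact deg_pos χ

/-- The squares of the degrees. -/
theorem Members.sq_one (hr : M.Adm rs) :
    (rs.map fun χ => ((M.ent χ).2 : ℤ) * ((M.ent χ).1 * (M.ent χ).1)).sum +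
      (M.ms.map fun χ => M.x11 χ * M.x11 χ).sum ≤ budget := by
  have h := M.sq_bound hr intAt_one
  simp only [Tup.sq, Members.tup, iv_one, cC_one M.card_G, M.sa.2, M.sb.2.2, M.sc.2.2, M.sd.2.2, M.se.2.2,
    M.sf.2] at h
  rw [List.map_congr_left (l := rs) (g := fun χ => ((M.ent χ).2 : ℤ) * ((deg χ : ℤ) * (deg χ : ℤ))) fun χ hχ => by
      rw [← (M.ent_deg hr hχ).1, Int.natAbs_mul_self'],
    List.map_congr_left (l := M.ms) (g := fun χ => (deg χ : ℤ) * (deg χ : ℤ)) fun χ hχ => by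
      rw [← M.x11_deg hχ, Int.natAbs_mul_self']]
  simp only [budget]
  push_cast at h ⊢
  linarith

/-- The list of the members is in the table. -/
theorem Members.exists_canon (M : Members G k5) {canon : List (List Ent)} (hL : checkLists canon = true) :
    ∃ e ∈ canon, ((M.cs ++ [M.ψ]).map M.ent).Perm e := by
  have h := M.sq_one (rs := M.cs ++ [M.ψ]) (List.Perm.refl _)
  rw [List.map_append, List.sum_append, List.map_congr_left (l := M.cs)
    (g := fun χ => (M.B23.σ χ * (deg χ : ℤ)) * (M.B23.σ χ * (deg χ : ℤ))) fun χ hχ => by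
      rw [M.ent_cs hχ]; simp] at h
  simp only [List.map_cons, List.map_nil, List.sum_cons, List.sum_nil, M.ent_ψ] at h
  have h0 := sum_sq_nonneg' M.x11 M.ms
  have hy0 : 0 ≤ M.y * M.y := mul_self_nonneg _
  have hsq : ((M.cs.map fun χ => M.B23.σ χ * (deg χ : ℤ)).map fun a => a * a).sum + 2 * (M.y * M.y) ≤ budget := by
    rw [List.map_map, show ((fun a : ℤ => a * a) ∘ fun χ : IrrCharacter G => M.B23.σ χ * (deg χ : ℤ)) =
      fun χ => (M.B23.σ χ * (deg χ : ℤ)) * (M.B23.σ χ * (deg χ : ℤ)) from rfl]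
    push_cast at h
    linarith
  obtain ⟨s', hs', hP⟩ := allL_sound _ xs23 7 budget [] (M.cs.map fun χ => M.B23.σ χ * (deg χ : ℤ)) hL
    (fun a ha => by obtain ⟨χ, hχ, rfl⟩ := List.mem_map.mp ha; exact M.mem23 χ hχ)
    (by rw [List.length_map, M.len]) (by linarith)
  simp only [List.nil_append, forceI_eq] at hP
  have hq : ¬ budget < (s'.map fun a : ℤ => a * a).sum + 2 * (M.y * M.y) := by
    rw [(hs'.map fun a : ℤ => a * a).sum_eq]
    linarith
  rw [hs'.sum_eq, ← M.sum23, List.contains_iff_mem.mpr M.memy, decide_eq_false hq] at hP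
  simp only [Bool.not_true, Bool.false_or, Bool.or_false, List.contains_iff_mem] at hP
  refine ⟨_, hP, ?_⟩
  rw [List.map_append, List.map_congr_left (l := M.cs) (g := fun χ => ((M.B23.σ χ * (deg χ : ℤ), 1) : Ent))
    fun χ hχ => M.ent_cs hχ, List.map_cons, List.map_nil, M.ent_ψ]
  refine List.Perm.append_right _ ?_
  have := (hs'.symm.map fun x : ℤ => ((x, 1) : Ent))
  rwa [List.map_map] at this

/-- The values of the members of the blocks for 5 and 7 are in the table. -/
theorem Members.tup_mem {g : G} (hg : orderOf g = 2) {spec : Bool}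
    (hs : spec = true → g ∈ Subgroup.normalizer ((M.B11.T.P : Subgroup G) : Set G)) {m : ℕ}
    (hC : cC g ∈ centsP m) {tab : List (ℕ × Tup)} (hT : checkTups k5 spec m tab = true) :
    (cC g, M.tup g) ∈ tab := by
  have hI := intAt_invol hg
  have hgg := mul_self_of_order_two hg
  have hop : ∀ χ : IrrCharacter G, χ ≠ Blocks.trivIrr G → iv χ g ∈ opts (cC g) spec (deg χ) :=
    fun χ hne => iv_mem_opts M.B11 hne M.res11 M.B5 hg hs
  have h55 : ∀ χ ∈ M.B5.xl, iv χ g ∈ opts55 (cC g) spec (deg χ) (M.B5.σ χ) := fun χ hχ => by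
    refine List.mem_filter.mpr ⟨hop χ (M.B5.ne_triv (List.mem_append_left _ hχ)), ?_⟩
    simp only [Bool.or_eq_true, Bool.not_eq_true', decide_eq_false_iff_not, decide_eq_true_eq]
    by_cases h5 : cC g % 5 = 0
    · obtain ⟨-, z', hz', hzC, -, hiv⟩ := exists_five M.B5.T hg (Nat.dvd_of_mod_eq_zero h5)
      rw [← hiv]
      exact Or.inr (Int.emod_eq_zero_of_dvd (M.B5.dvd_sub (by norm_num) hz' hzC hχ))
    · exact Or.inl h5
  have ha := h55 M.a (by rw [M.xl5]; simp)
  have hb := h55 M.b (by rw [M.xl5]; simp)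
  have hc := h55 M.c (by rw [M.xl5]; simp)
  have hd := h55 M.d (by rw [M.xl5]; simp)
  rw [M.sa.1, M.sa.2] at ha
  rw [M.sb.1, M.sb.2.2] at hb
  rw [M.sc.1, M.sc.2.2] at hc
  rw [M.sd.1, M.sd.2.2] at hd
  have he : iv M.e g ∈ opts (cC g) spec 1035 := M.se.2.2 ▸ hop M.e (M.ne_triv (by simp))
  have hf : iv M.f g ∈ opts (cC g) spec 990 := M.sf.2 ▸ hop M.f (M.ne_triv (by simp))
  have h7 := (M.rel7 hI).1
  have h5 := M.rel5 (by rw [hg]; norm_num) hI.int
  have hsq := M.sq_bound (rs := M.cs ++ [M.ψ]) (List.Perm.refl _) hI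
  have n1 := sum_sq_nonneg' (fun χ => iv χ g) M.ms
  have n2 : 0 ≤ ((M.cs ++ [M.ψ]).map fun χ => ((M.ent χ).2 : ℤ) * (iv χ g * iv χ g)).sum :=
    List.sum_nonneg fun z hz => by
      obtain ⟨a, -, rfl⟩ := List.mem_map.mp hz
      exact mul_nonneg (Int.natCast_nonneg _) (mul_self_nonneg _)
  have hs7 : sum7 (iv M.b g) (iv M.e g) (iv M.f g) = 0 := by
    have h0 := M.B7.tFrac_eq_zero_of_odd (by norm_num) (by norm_num) hgg (fun φ => iv φ g) (iv M.f g)
      (fun φ _ => hI.int φ) (fun φ hφ => by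
        rw [M.yl7] at hφ
        simp only [List.mem_cons, List.not_mem_nil, or_false] at hφ
        rcases hφ with rfl | rfl
        · exact hI.int _
        · rw [← (M.rel7 hI).2]; exact hI.int _)
    simp only [M.xl7, List.map_cons, List.map_nil, tFrac, fracSum] at h0
    simp only [sum7, show lcm7 = 91080 by decide +kernel]
    norm_num at h0 ⊢
    linarith
  obtain ⟨v, hv, hv1⟩ := M12Order.exists_ne_one_P M.B5.T
  obtain ⟨q, -, hq⟩ := count_square M.B5 (by norm_num) hgg hv hv1 (fun φ => iv φ g) 0 (fun φ _ => hI.int φ)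
    (fun ψ hψ => by rw [M.B5.yl_none rfl] at hψ; simp at hψ)
  simp only [M.xl5, List.map_cons, List.map_nil, tFrac, fracSum] at hq
  have hnu : 244823040 * (k5 : ℤ) * 5 * sum5 (M.tup g) = ((q * q * (127512 * cC g * cC g) : ℕ) : ℤ) := by
    simp only [sum5, Members.tup, show lcm5 = 127512 by decide +kernel]
    push_cast at hq ⊢
    norm_num at hq ⊢
    linarith
  have hsqOK : sqOK (cC g) k5 (M.tup g) = true := by
    have hpos : 0 < 127512 * cC g * cC g := by
      have : 0 < cC g := Nat.card_pos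
      positivity
    simp only [sqOK, forceI_eq, forceN_eq, show lcm5 = 127512 by decide +kernel, hnu, Int.toNat_natCast,
      Nat.mul_div_cancel _ hpos, isSq_of_sq, Bool.and_true, Bool.and_eq_true, decide_eq_true_eq]
    exact ⟨Int.natCast_nonneg _, by push_cast; exact Int.mul_emod_left _ _⟩
  have h := List.all_eq_true.mp hT _ hC
  simp only [forceL_eq] at h
  have h := List.all_eq_true.mp (List.all_eq_true.mp h _ hb) _ he
  simp only [forceI_eq] at h
  have hsq7 : 1 + iv M.b g * iv M.b g + iv M.e g * iv M.e g + 2 * (iv M.f g * iv M.f g) ≤ (cC g : ℤ) := by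
    simp only [Tup.sq, Members.tup] at hsq
    nlinarith [mul_self_nonneg (iv M.a g), mul_self_nonneg (iv M.c g), mul_self_nonneg (iv M.d g)]
  rw [← h7, List.contains_iff_mem.mpr hf, decide_eq_true hsq7, decide_eq_true hs7] at h
  simp only [Bool.and_self, Bool.not_true, Bool.false_or] at h
  have h := List.all_eq_true.mp (List.all_eq_true.mp h _ ha) _ hc
  have hsq5 : (M.tup g).sq ≤ (cC g : ℤ) := by linarith
  rw [← h5] at h
  change (!(decide ((M.tup g).sq ≤ _) && _ && sqOK _ _ (M.tup g)) || _) = true at h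
  rw [decide_eq_true hsq5, List.contains_iff_mem.mpr hd, hsqOK] at h
  simpa [Members.tup] using h

/-- Class multiplication at `P₂₃` for two involutions. -/
theorem Members.pair23_zero (hr : M.Adm rs) {g h : G} (hg : orderOf g = 2) (hh : orderOf h = 2) {L : ℕ}
    (hL : L = lcmEs (rs.map M.ent)) :
    (L : ℤ) + iv M.c g * iv M.c h * ((L : ℤ) / 5544) + 2 * (iv M.f g * iv M.f h) * ((L : ℤ) / 990) +
      (rs.map fun χ => (L : ℤ) / (M.ent χ).1 * (iv χ g * iv χ h)).sum = 0 := by
  obtain ⟨v, hv, hv1⟩ := M12Order.exists_ne_one_P M.B23.T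
  have h0 := M.count23 hr (intAt_invol hg) (intAt_invol hh) hL hv hv1
  rw [no_pairs_of_odd M.B23 (by norm_num) (show ¬ 2 ∣ 11 by norm_num) hg hh hv hv1, Nat.cast_zero, zero_mul,
    zero_mul, mul_eq_zero] at h0
  exact h0.resolve_left (by norm_num)

/-- The search in the column of an involution. -/
theorem Members.col_fin {g : G} (hg : orderOf g = 2) {spec dd : Bool}
    (hs : spec = true → g ∈ Subgroup.normalizer ((M.B11.T.P : Subgroup G) : Set G)) {tab : List (ℕ × Tup)}
    (ht : (cC g, M.tup g) ∈ tab) (hr : M.Adm rs) {us : List ℤ} {ref : Option Sol}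
    (hO : (∀ χ ∈ rs, iv χ g ∈ opts (cC g) spec (M.ent χ).1.natAbs) →
      OrdFrom 0 (vars (cC g) spec dd (lcmEs (rs.map M.ent)) none (rs.map M.ent) us) (rs.map fun χ => iv χ g))
    (hu : uStart (lcmEs (rs.map M.ent)) ref (M.tup g) +
      usum (vars (cC g) spec dd (lcmEs (rs.map M.ent)) none (rs.map M.ent) us) (rs.map fun χ => iv χ g) = 0)
    {fin : Sol → Bool} (h : searchCol (cC g) spec dd (rs.map M.ent) tab us ref fin = true) :
    fin ⟨cC g, M.tup g, rs.map fun χ => iv χ g⟩ = true := by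
  obtain ⟨L, hL⟩ : ∃ L, L = lcmEs (rs.map M.ent) := ⟨_, rfl⟩
  rw [searchCol, forceN_eq, ← hL] at h
  rw [← hL] at hO hu
  have hI := intAt_invol hg
  have hA : ∀ χ ∈ rs, iv χ g ∈ opts (cC g) spec (M.ent χ).1.natAbs := fun χ hχ => by
    rw [(M.ent_deg hr hχ).1]
    exact iv_mem_opts M.B11 (M.adm_ne_triv hr hχ) M.res11 M.B5 hg hs
  refine search_sound h (vars_pos M.ent none rs us fun χ hχ => (M.ent_deg hr hχ).2)
    (List.mem_map.mpr ⟨(cC g, M.tup g), List.mem_filter.mpr ⟨ht, decide_eq_true rfl⟩, rfl⟩)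
    (mem_vars M.ent _ none rs us hA) ?_ (hO hA) ?_ ⟨fun _ => ?_, ?_⟩ hu
  · have h1 := M.sq_bound hr hI
    have h2 := sum_sq_nonneg' (fun χ => iv χ g) M.ms
    have h3 := msum_vars M.ent (fun χ => iv χ g) (C := cC g) (spec := spec) (dd := dd) (L := L) none rs us
    simp only
    omega
  · rw [vsum_vars]
    simpa [Members.tup] using M.rel23 hr hI
  all_goals
    have hw := M.pair23_zero hr hg hg hL
    rw [wsum_vars]
    simp only [Members.tup]
  · linarith
  · rw [show (L : ℤ) + iv M.c g * iv M.c g * ((L : ℤ) / 5544) + 2 * (iv M.f g * iv M.f g) * ((L : ℤ) / 990) +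
      (rs.map fun χ => (L : ℤ) / (M.ent χ).1 * (iv χ g * iv χ g)).sum = 0 from hw]
    exact ⟨le_rfl, dvd_zero _⟩

/-- An element of order 5: the values of the members of the blocks for 5 and 7. -/
theorem Members.at5 {h : G} (hh : orderOf h = 5) :
    IntAt h ∧ cC h = 5 * k5 ∧ iv M.a h = 1 ∧ iv M.b h = -1 ∧ iv M.c h = -1 ∧ iv M.d h = 1 ∧ iv M.e h = 0 ∧
      iv M.f h = 0 := by
  obtain ⟨a, ha⟩ := exists_conj_mem_P M.B5.T hh
  have ha1 : a * h * a⁻¹ ≠ 1 := fun e => by
    rw [mul_inv_eq_one] at e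
    rw [mul_eq_left.mp e, orderOf_one] at hh
    omega
  have hval : ∀ χ ∈ M.B5.xl, iv χ h = M.B5.σ χ := fun χ hχ => iv_eq
    ((Char.isClassFunction_of_isCharacter (Char.isCharacter_of_isIrr χ.2) h a).symm.trans
      (M.B5.value_P hχ ha ha1))
  have hvan : ∀ χ : IrrCharacter G, 5 ∣ deg χ → iv χ h = 0 := fun χ hd =>
    iv_eq (by rw [M.B5.vanish hd (by rw [hh])]; simp)
  refine ⟨⟨fun χ => iv_spec_of_int (int_value_five M.B5.T M.B5.e_eq χ hh), by rw [hh]; norm_num,
    by rw [hh]; norm_num, by rw [hh]; norm_num⟩, cC_of_ctx M.B5.T hh, ?_, ?_, ?_, ?_, hvan _ ?_, hvan _ ?_⟩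
  · rw [hval _ (by rw [M.xl5]; simp), M.sa.1]
  · rw [hval _ (by rw [M.xl5]; simp), M.sb.1]
  · rw [hval _ (by rw [M.xl5]; simp), M.sc.1]
  · rw [hval _ (by rw [M.xl5]; simp), M.sd.1]
  · rw [M.se.2.2]; norm_num
  · rw [M.sf.2]; norm_num

/-- The search at an element of order 5. -/
theorem Members.col5 {h : G} (hh : orderOf h = 5)
    (hN : h ∈ Subgroup.normalizer ((M.B11.T.P : Subgroup G) : Set G)) (hP : h ∉ (M.B11.T.P : Subgroup G))
    (hr : M.Adm rs) {fin : List ℤ → Bool} (hY : searchY k5 (rs.map M.ent) fin = true) :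
    fin (rs.map fun χ => iv χ h) = true := by
  obtain ⟨L, hL⟩ : ∃ L, L = lcmEs (rs.map M.ent) := ⟨_, rfl⟩
  have hLpos : 0 < L := hL ▸ M.lcm_pos hr
  rw [searchY, forceN_eq, ← hL] at hY
  obtain ⟨hI, hC, va, vb, vc, vd, ve, vf⟩ := M.at5 hh
  have hk0 : 0 < k5 := by
    have : 0 < cC h := Nat.card_pos
    omega
  have hA : ∀ χ ∈ rs, iv χ h ∈ opts5 k5 (M.ent χ).1.natAbs := fun χ hχ => by
    rw [(M.ent_deg hr hχ).1]
    exact (iv_mem_opts5 M.B11 (M.adm_ne_triv hr hχ) M.res11 M.B5 M.B5.e_eq hh hN hP).2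
  obtain ⟨h1, h2, h3, h4, h5⟩ := sums_vars5 M.ent (fun χ => iv χ h) (k := k5) (L := L) rs
  refine search_sound hY (vars5_pos M.ent rs fun χ hχ => (M.ent_deg hr hχ).2) List.mem_cons_self
    (mem_vars5 M.ent _ rs hA) ?_ (h5 0) ?_ ?_ ?_
  · have hb := M.sq_bound hr hI
    have hn := sum_sq_nonneg' (fun χ => iv χ h) M.ms
    simp only [Tup.sq, Members.tup, va, vb, vc, vd, ve, vf, hC] at hb
    push_cast at hb
    simp only
    omega
  · have hrel := M.rel23 hr hI
    rw [vc, vf] at hrel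
    simp only [h1]
    linarith
  · obtain ⟨v, hv, hv1⟩ := M12Order.exists_ne_one_P M.B23.T
    have hc := M.count23 hr hI hI hL hv hv1
    obtain ⟨j, hj⟩ := dvd_card_pairs (g := h) (h := h) M.B23.T.card_P (M.B23.cent rfl) hv
      (not_conj_P M.B23.T.card_P (by rw [hh]; norm_num) (by rw [hh]; norm_num))
    rw [hj, vc, vf, hC] at hc
    push_cast at hc
    refine ⟨fun h0 => ?_, ?_, ?_⟩
    · have : 0 < mod5 k5 L := by unfold mod5; positivity
      omega
    all_goals
      simp only [h2]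
      rw [show 244823040 * ((L : ℤ) + (L : ℤ) / 5544) +
          244823040 * (rs.map fun χ => (L : ℤ) / (M.ent χ).1 * (iv χ h * iv χ h)).sum =
          23 * (j : ℤ) * (5 * (k5 : ℤ) * (5 * (k5 : ℤ))) * (L : ℤ) by linarith]
    · positivity
    · exact ⟨j, by simp only [mod5]; push_cast; ring⟩
  · simp only [h3, add_zero]

/-- Class multiplication with an element of order 5. -/
theorem Members.compat_ok {g h : G} (hg : orderOf g = 2) (hh : orderOf h = 5) (hr : M.Adm rs) :
    compat k5 (rs.map M.ent) ⟨cC g, M.tup g, rs.map fun χ => iv χ g⟩ (rs.map fun χ => iv χ h) = true := by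
  obtain ⟨L, hL⟩ : ∃ L, L = lcmEs (rs.map M.ent) := ⟨_, rfl⟩
  obtain ⟨hI, hC, -, -, vc, -, -, vf⟩ := M.at5 hh
  obtain ⟨v, hv, hv1⟩ := M12Order.exists_ne_one_P M.B23.T
  have hc := M.count23 hr (intAt_invol hg) hI hL hv hv1
  obtain ⟨j, hj⟩ := dvd_card_pairs (g := g) (h := h) M.B23.T.card_P (M.B23.cent rfl) hv
    (not_conj_P M.B23.T.card_P (by rw [hg]; norm_num) (by rw [hg]; norm_num))
  rw [hj, vc, vf, hC] at hc
  push_cast at hc
  simp only [compat, forceN_eq, forceI_eq, ← hL, pairSum_map, Members.tup, Bool.and_eq_true, decide_eq_true_eq]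
  obtain ⟨X, hX⟩ : ∃ X : ℤ, X = (L : ℤ) - iv M.c g * ((L : ℤ) / 5544) +
    (rs.map fun χ => (L : ℤ) / (M.ent χ).1 * (iv χ g * iv χ h)).sum := ⟨_, rfl⟩
  rw [← hX]
  have hnX : 244823040 * X = (j : ℤ) * ((L : ℤ) * (cC g : ℤ) * (5 * (k5 : ℤ)) * 23) := by rw [hX]; linarith
  refine ⟨?_, ?_⟩
  · have : 0 ≤ (j : ℤ) * ((L : ℤ) * (cC g : ℤ) * (5 * (k5 : ℤ)) * 23) := by positivity
    linarith
  · rw [hnX]
    push_cast
    exact Int.mul_emod_left _ _

/-- The further members of the block for `11`, in the bounds of `allMs`. -/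
theorem Members.exists_ms (hr : M.Adm rs) {P : List ℤ → Bool} (h : allMs (rs.map M.ent) P = true) :
    ∃ ms : List ℤ, ms.Perm (M.ms.map M.x11) ∧ P ms = true := by
  have hlen := M.lenM
  have hfn : (fixedNum (rs.map M.ent) : ℤ) =
      (((M.cs ++ [M.ψ, M.ψ']).filter fun χ => decide (delta (deg χ) ≠ 0)).length : ℤ) := by
    rw [fixedNum_map, length_filter_ne (fun χ => delta (deg χ)),
      M.sum_ext hr (fun χ => if delta (deg χ) = 0 then (0 : ℤ) else 1) (by rw [M.ψ'_deg])]
    refine congrArg List.sum (List.map_congr_left fun χ hχ => ?_)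
    rw [(M.ent_deg hr hχ).1]
    split_ifs <;> simp
  simp only [allMs, Bool.or_eq_true, decide_eq_true_eq] at h
  have hrel := M.rel11 hr intAt_one
  simp only [iv_one, M.sd.2.2, M.se.2.2] at hrel
  have hsum : (M.ms.map M.x11).sum = -1 + 5796 - 1035 - fixedSum (rs.map M.ent) := by
    rw [fixedSum_map, List.map_congr_left (l := rs) (g := fun χ => ((M.ent χ).2 : ℤ) * delta (M.ent χ).1.natAbs *
      (deg χ : ℤ)) fun χ hχ => by rw [(M.ent_deg hr hχ).1],
      List.map_congr_left (l := M.ms) (f := M.x11) (g := fun χ => sgn (M.x11 χ) * (deg χ : ℤ)) fun χ hχ => by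
        simp only [Members.x11]; rw [(M.B11.sgn_eq (M.mem_ms hχ)).1]]
    push_cast at hrel
    linarith
  obtain ⟨ms, hms, hP⟩ := allM_sound P free11 _ _ _ [] (M.ms.map M.x11) (h.resolve_left (by omega))
    (fun a ha => by obtain ⟨χ, hχ, rfl⟩ := List.mem_map.mp ha; exact M.memM χ hχ)
    (by rw [List.length_map]; omega) hsum (by
      have := M.sq_one hr
      rw [sqSum_map, List.map_map]
      simp only [Function.comp_def]
      linarith)
  exact ⟨ms, hms, hP⟩

/-- The values in the block for `11`. -/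
theorem Members.noB11_false {g : G} (hg : orderOf g = 2) {spec : Bool}
    (hs : spec = true → g ∈ Subgroup.normalizer ((M.B11.T.P : Subgroup G) : Set G)) (hr : M.Adm rs) {T : ℕ}
    {v : G} (hv : v ∈ (M.B11.T.P : Subgroup G)) (hv1 : v ≠ 1)
    (hN : Nat.card {pr : G × G // IsConj g pr.1 ∧ IsConj g pr.2 ∧ pr.1 * pr.2 = v} = T * 11)
    {ms : List ℤ} (hms : ms.Perm (M.ms.map M.x11)) :
    noB11 spec T (rs.map M.ent) ⟨cC g, M.tup g, rs.map fun χ => iv χ g⟩ ms = false := by
  have hI := intAt_invol hg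
  obtain ⟨ms1, hp1, hm1⟩ := exists_perm_map M.x11 ms M.ms hms
  obtain ⟨ms2, hp2, hm2, hasc⟩ := exists_asc M.x11 (fun χ => sgn (M.x11 χ) * iv χ g) ms1
  have hp := hp2.trans hp1
  rw [← hm1, ← hm2]
  rw [Bool.eq_false_iff]
  intro h
  obtain ⟨L, hL⟩ : ∃ L, L = Nat.lcm (lcmEs (rs.map M.ent ++ (ms2.map M.x11).map fun x => (x, 1)))
    (Nat.lcm 5796 1035) := ⟨_, rfl⟩
  simp only [noB11, forceN_eq, forceI_eq, ← hL] at h
  have hl := (dvd_lcmEs (es := rs.map M.ent ++ (ms2.map M.x11).map fun x => (x, 1))).1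
  have hlL : ∀ {d : ℕ}, (d : ℤ) ∣ (lcmEs (rs.map M.ent ++ (ms2.map M.x11).map fun x => (x, 1)) : ℤ) → d ∣ L :=
    fun {d} hd => hL ▸ (Int.natCast_dvd_natCast.mp hd).trans (Nat.dvd_lcm_left _ _)
  have hLr : ∀ χ ∈ rs, deg χ ∣ L := fun χ hχ => by
    rw [← (M.ent_deg hr hχ).1]
    exact hlL (hl _ (List.mem_append_left _ (List.mem_map.mpr ⟨χ, hχ, rfl⟩)))
  have hLm : ∀ χ ∈ M.ms, deg χ ∣ L := fun χ hχ => by
    rw [← M.x11_deg hχ]
    exact hlL (hl (M.x11 χ, 1) (List.mem_append_right _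
      (List.mem_map.mpr ⟨_, List.mem_map.mpr ⟨χ, hp.symm.subset hχ, rfl⟩, rfl⟩)))
  have hA : ∀ χ ∈ ms2, iv χ g ∈ opts (cC g) spec (M.x11 χ).natAbs := fun χ hχ => by
    have hm := hp.subset hχ
    rw [M.x11_deg hm]
    exact iv_mem_opts M.B11 (M.ms_ne_triv hm) M.res11 M.B5 hg hs
  obtain ⟨s1, s2, s3, s4, s5⟩ :=
    sums_vars11 (fun χ => iv χ g) M.x11 (C := cC g) (spec := spec) (L := L) none ms2
  obtain ⟨q1, q2, q3⟩ := shared11_map M.ent (fun χ => iv χ g) (L := L) rs
  rw [q1, q2, q3] at h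
  refine Bool.false_ne_true (search_sound h s5 List.mem_cons_self (mem_vars11 _ _ none ms2 hA) ?_
    (ord_vars11 _ _ ms2 hasc hA) ?_ ?_ ?_)
  · have hb := M.sq_bound hr hI
    rw [← (hp.map fun χ => iv χ g * iv χ g).sum_eq] at hb
    simp only
    omega
  · have hrel := M.rel11 hr hI
    rw [← (hp.map fun χ => sgn (M.x11 χ) * iv χ g).sum_eq] at hrel
    simp only [s1, Members.tup]
    linarith
  · have hc := M.count11 hr hI hLr (hL ▸ (Nat.dvd_lcm_left 5796 1035).trans (Nat.dvd_lcm_right _ _))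
      (hL ▸ (Nat.dvd_lcm_right 5796 1035).trans (Nat.dvd_lcm_right _ _)) hLm hv hv1
    rw [hN, ← (hp.map fun χ => (L : ℤ) / M.x11 χ * (iv χ g * iv χ g)).sum_eq] at hc
    simp only [Nat.cast_mul, Nat.cast_ofNat] at hc
    simp only [s2, Members.tup]
    refine ⟨fun _ => by linear_combination hc, le_of_eq (by linear_combination -hc), ?_⟩
    exact dvd_of_eq (by rw [Nat.cast_zero]; linear_combination -hc)
  · simp only [s3, add_zero]

/-- No members pass the computations. -/
theorem false_of_members (M : Members G k5) {canon : List (List Ent)} {tabS tabZ : List (ℕ × Tup)}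
    {plans : List Plan} (T23 : Ctx G 23 1) {z : G} (hz : orderOf z = 2) (hz7 : 7 ∣ cC z)
    (hlists : checkLists canon = true) (hS : checkTups k5 true 5 tabS = true)
    (hZ : checkTups k5 false 7 tabZ = true)
    (hbase : ∀ e ∈ canon, ∃ P ∈ plans, P.base = e) (hperm : ∀ P ∈ plans, P.es.Perm P.base)
    (hplans : ∀ P ∈ plans, okY k5 P = true ∧ okS k5 tabS P = true ∧ okZ k5 tabZ P = true ∧ okM P = true) :
    False := by
  obtain ⟨e, he, hpe⟩ := M.exists_canon hlists
  obtain ⟨P, hP, hPb⟩ := hbase e he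
  obtain ⟨rs0, hrs0, hmap0⟩ := exists_perm_map M.ent P.es (M.cs ++ [M.ψ]) ((hperm P hP).trans (hPb ▸ hpe.symm))
  obtain ⟨pY, pS, pZ, pM⟩ := hplans P hP
  obtain ⟨s, hs2, hs5, hsN, hsP⟩ := exists_invol_nor M.B11.T M.B11.e_eq
  obtain ⟨rs, hrs, hmap, hasc⟩ := exists_asc M.ent (fun χ => sgn (M.ent χ).1 * iv χ s) rs0
  have hr : M.Adm rs := hrs.trans hrs0
  rw [hmap0] at hmap
  obtain ⟨h, hh, hhN, hhP⟩ := exists_five_nor M.B11 M.B11.e_eq
  -- the element of order 5
  rw [okY, ← hmap] at pY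
  have hY := List.contains_iff_mem.mp (M.col5 hh hhN hhP hr pY)
  have hne : P.ry.isEmpty = false := by
    rw [List.isEmpty_eq_false_iff]
    exact List.ne_nil_of_mem hY
  -- the involution inverting the Sylow subgroup
  have hCs := mem_centsP M.card_G T23 M.B11.T hs2 hs5
  have hts := M.tup_mem (spec := true) hs2 (fun _ => hsN) hCs hS
  rw [okS, hne, Bool.false_or] at pS
  have pS' := List.all_eq_true.mp pS _ hCs
  rw [← hmap] at pS'
  have hS1 := M.col_fin hs2 (fun _ => hsN) hts hr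
    (fun hA => ord_vars M.ent (fun χ => iv χ s) rs hasc hA)
    (by rw [usum_vars_nil]; rfl) pS'
  have hcs := M.compat_ok hs2 hh hr
  rw [List.any_eq_true.mpr ⟨_, hY, hcs⟩, Bool.not_true, Bool.or_false, List.contains_iff_mem] at hS1
  obtain ⟨v, hv, hv1⟩ := M12Order.exists_ne_one_P M.B11.T
  obtain ⟨hinv, hNs⟩ := inverts_and_pairs M.B11 rfl (by norm_num) hs2 hsN hsP hv hv1
  have hnS : ∀ ms : List ℤ, ms.Perm (M.ms.map M.x11) →
      noB11 true 1 P.es ⟨cC s, M.tup s, rs.map fun χ => iv χ s⟩ ms = false := fun ms hms => by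
    rw [← hmap]
    exact M.noB11_false hs2 (fun _ => hsN) hr hv hv1 (by rw [hNs, one_mul]) hms
  rw [okM] at pM
  cases hb : P.byZ with
  | false =>
    rw [hb, if_neg Bool.false_ne_true] at pM
    have pM' := List.all_eq_true.mp pM _ hS1
    rw [← hmap] at pM'
    obtain ⟨ms, hms, this⟩ := M.exists_ms hr pM'
    rw [hmap, hnS ms hms] at this
    exact Bool.false_ne_true this
  | true =>
    rw [hb, if_pos rfl] at pM
    rw [okZ, hb, Bool.not_true, Bool.false_or] at pZ
    simp only [Bool.and_eq_true, beq_iff_eq, List.isPerm_iff, List.all_eq_true, decide_eq_true_eq] at pZ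
    obtain ⟨⟨⟨⟨hlen, hzp⟩, hzi⟩, hzil⟩, pC⟩ := pZ
    have hrl : rs.length = P.es.length := by rw [← hmap, List.length_map]
    have hzp' : ∀ i ∈ P.zp, i < rs.length := fun i hi => hrl ▸ List.mem_range.mp (hzp.subset hi)
    have hrz : M.Adm (pick rs M.ψ P.zp) := by
      refine List.Perm.trans ?_ hr
      have := hzp.map fun i => rs.getD i M.ψ
      rwa [← hrl, pick_range] at this
    have hCz := mem_centsP M.card_G T23 M.B11.T hz hz7
    have htz := M.tup_mem (spec := false) hz (fun e => Bool.noConfusion e) hCz hZ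
    have hpick : ∀ A : IrrCharacter G → ℤ, pick ((pick rs M.ψ P.zp).map A) 0 P.zi = rs.map A := fun A => by
      rw [pick_map A _ M.ψ 0 _ (fun i hi => by
        simp only [pick, List.length_map]; rw [← hlen]; exact hzil i hi)]
      refine congrArg (List.map A) ?_
      have h1 : pick (pick rs M.ψ P.zp) M.ψ P.zi = pick rs M.ψ (pick P.zp 0 P.zi) := by
        simp only [pick, List.map_map]
        refine List.map_congr_left fun i hi => ?_
        have hi' : i < P.zp.length := hlen ▸ hzil i hi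
        simp [hi']
      rw [h1, hzi, ← hrl]
      exact pick_range rs M.ψ
    obtain ⟨S, hSdef⟩ : ∃ S : Sol, S = ⟨cC s, M.tup s, rs.map fun χ => iv χ s⟩ := ⟨_, rfl⟩
    obtain ⟨Z, hZdef⟩ : ∃ Z : Sol, Z = ⟨cC z, M.tup z, rs.map fun χ => iv χ z⟩ := ⟨_, rfl⟩
    have hun : unpick P ⟨cC z, M.tup z, (pick rs M.ψ P.zp).map fun χ => iv χ z⟩ = Z := by
      rw [hZdef, unpick, hpick]
    have hc2 : compat2 k5 P.es P.ry S Z = true := by
      simp only [compat2, forceN_eq, Bool.and_eq_true, decide_eq_true_eq, List.any_eq_true]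
      refine ⟨?_, _, hY, ?_, ?_⟩
      · rw [hSdef, hZdef, ← hmap]
        simp only [pairSum_map, Members.tup]
        exact M.pair23_zero hr hs2 hz rfl
      · rw [hSdef, ← hmap]; exact hcs
      · rw [hZdef, ← hmap]; exact M.compat_ok hz hh hr
    have pC' := pC _ hCz
    rw [forceN_eq, ← hmap] at pC'
    have hmz : pick (rs.map M.ent) ((0, 0) : Ent) P.zp = (pick rs M.ψ P.zp).map M.ent :=
      pick_map M.ent rs M.ψ _ _ hzp'
    rw [hmz] at pC'
    have hpair : (S, Z) ∈ P.pairs := by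
      cases hX : P.useX with
      | true =>
        rw [hX, if_pos rfl] at pC'
        have p1 := List.all_eq_true.mp pC' _ hS1
        rw [pick_map (fun χ => iv χ s) rs M.ψ 0 _ hzp'] at p1
        have p2 := M.col_fin hz (fun e => Bool.noConfusion e) htz hrz (fun _ => ord_false M.ent _ none 0 _ _) (by
          rw [usum_vars]
          simp only [uStart]
          exact M.pair23_zero hrz hs2 hz rfl) p1
        rw [hmap, ← hSdef, hun, hc2, Bool.not_true, Bool.false_or, List.contains_iff_mem] at p2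
        exact p2
      | false =>
        rw [hX, if_neg Bool.false_ne_true] at pC'
        have p2 := M.col_fin hz (fun e => Bool.noConfusion e) htz hrz (fun _ => ord_false M.ent _ none 0 _ _) (by
          rw [usum_vars_nil]; rfl) pC'
        have p3 := List.all_eq_true.mp p2 _ hS1
        rw [hmap, ← hSdef, hun, hc2, Bool.not_true, Bool.false_or, List.contains_iff_mem] at p3
        exact p3
    have pM' := List.all_eq_true.mp pM _ hpair
    rw [← hmap] at pM'
    obtain ⟨ms, hms, hok'⟩ := M.exists_ms hr pM'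
    simp only [hmap] at hok'
    rw [hSdef, hnS ms hms, Bool.false_or, Bool.and_eq_true, decide_eq_true_eq] at hok'
    obtain ⟨hne', hok'⟩ := hok'
    by_cases hc : IsConj s z
    · refine hne' ?_
      obtain ⟨c, rfl⟩ := isConj_iff.mp hc
      simp only [hZdef, Members.tup, cC_conj, iv_conj _ (mul_self_of_order_two hs2)]
    · have h0 := no_pairs_of_not_conj M.B11 rfl (mul_self_of_order_two hs2) (mul_self_of_order_two hz) hv hv1 hsN
        hsP hinv hc
      rw [hZdef, ← hmap, M.noB11_false hz (fun e => Bool.noConfusion e) hr hv hv1 (by rw [h0, zero_mul]) hms] at hok'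
      exact Bool.false_ne_true hok'

end CfsgLib.M24Order.E3
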