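import Cfsg.Agent.Lib.M24Order.Keys23Defs

/-!
# Simple groups of order 244823040: soundness of the block computations
-/

set_option autoImplicit false
set_option linter.unusedSectionVars false
set_option linter.style.haveILetI false

namespace CfsgLib.M24Order

open Cfsg
open scoped ComplexConjugate CfsgLib.Char
open CfsgLib CfsgLib.BrauerTuan CfsgLib.OrderBlocks
open scoped _root_.Classical

universe u

theorem mem_dN {d : ℕ} (h : d ∣ 244823040) (hle : d ≤ 15646) : d ∈ dN := by
  rw [dN, List.mem_filter, decide_eq_true_eq]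
  exact ⟨mem_divs _ (by norm_num) d (by norm_num; exact h), hle⟩

theorem dvd_of_degOK {p k ec d : ℕ} {qs : List ℕ} {n : ℕ} (h : degOK n p k ec qs d = true) : ec % d = 0 := by
  simp only [degOK, Bool.and_eq_true, decide_eq_true_eq] at h
  exact h.1.1.2

theorem mem_fastX {p k ec : ℕ} (hec : ec ∣ 244823040) {z : ℤ}
    (h : z ∈ xList 244823040 p k ec [5, 7, 11, 23] 15646) : z ∈ fastX p k ec := by
  simp only [xList, List.mem_flatMap, List.mem_range, List.mem_filterMap] at h
  obtain ⟨x, hx, s, hs, hif⟩ := h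
  simp only [fastX, List.mem_flatMap, List.mem_filter, List.mem_filterMap, decide_eq_true_eq]
  refine ⟨x, ?_, s, hs, hif⟩
  have hd : ec % x = 0 := by
    split_ifs at hif with hc
    simp only [Bool.and_eq_true] at hc
    exact dvd_of_degOK hc.1.1.1
  exact ⟨mem_dN ((Nat.dvd_of_mod_eq_zero hd).trans hec) (by omega), hd⟩

theorem mem_fastY {p k ec e : ℕ} (hec : ec ∣ 244823040) {z : ℤ}
    (h : z ∈ yList 244823040 p k ec e [5, 7, 11, 23] 15646) : z ∈ fastY p k ec e := by
  simp only [yList, List.mem_flatMap, List.mem_range, List.mem_filterMap] at h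
  obtain ⟨x, hx, s, hs, hif⟩ := h
  simp only [fastY, List.mem_flatMap, List.mem_filter, List.mem_filterMap, decide_eq_true_eq]
  refine ⟨x, ?_, s, hs, hif⟩
  have hd : ec % x = 0 := by
    split_ifs at hif with hc
    simp only [Bool.and_eq_true] at hc
    exact dvd_of_degOK hc.1
  exact ⟨mem_dN ((Nat.dvd_of_mod_eq_zero hd).trans hec) (by omega), hd⟩

/-- The combinations have the given length and entries in the list. -/
theorem of_mem_combos : ∀ (l : List ℤ) (m : ℕ) (s : List ℤ), s ∈ combos l m →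
    s.length = m ∧ ∀ a ∈ s, a ∈ l
  | [], m, s, h => by
    rcases Nat.eq_zero_or_pos m with rfl | hm
    · simp [combos] at h
      simp [h]
    · simp [combos, show m ≠ 0 by omega] at h
  | a :: l, m, s, h => by
    simp only [combos, List.mem_flatMap, List.mem_range, List.mem_map] at h
    obtain ⟨j, hj, t, ht, rfl⟩ := h
    obtain ⟨h1, h2⟩ := of_mem_combos l (m - j) t ht
    refine ⟨by rw [List.length_append, List.length_replicate, h1]; omega, fun b hb => ?_⟩
    rcases List.mem_append.mp hb with hb | hb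
    · exact List.eq_of_mem_replicate hb ▸ List.mem_cons_self
    · exact List.mem_cons_of_mem _ (h2 b hb)

/-- The conditions on a candidate of the block. -/
structure Fits (p k e : ℕ) (X Y : List ℤ) (xs : List ℤ) (y : Option ℤ) : Prop where
  mem : ∀ x ∈ xs, x ∈ X
  one : e + 1 = p → y = none ∧ xs.length = e ∧ xs.sum = -1
  more : e + 1 ≠ p → ∃ y', y = some y' ∧ y' ∈ Y ∧ xs.length = e - 1 ∧ y' = 1 + xs.sum

theorem fits_of_optsFrom {p k e : ℕ} {X Y xs : List ℤ} {y : Option ℤ}
    (h : (⟨p, k, e, xs, y⟩ : Opt) ∈ optsFrom p k e X Y) : Fits p k e X Y xs y := by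
  unfold optsFrom at h
  split_ifs at h with he
  · simp only [List.mem_filterMap] at h
    obtain ⟨s, hs, hif⟩ := h
    split_ifs at hif with hc
    simp only [Option.some.injEq, Opt.mk.injEq, true_and] at hif
    obtain ⟨rfl, rfl⟩ := hif
    exact ⟨(of_mem_combos _ _ _ hs).2, fun _ => ⟨rfl, (of_mem_combos _ _ _ hs).1, hc⟩, fun h' => absurd he h'⟩
  · simp only [List.mem_filterMap] at h
    obtain ⟨s, hs, hif⟩ := h
    split_ifs at hif with hc
    simp only [Option.some.injEq, Opt.mk.injEq, true_and] at hif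
    obtain ⟨rfl, rfl⟩ := hif
    exact ⟨(of_mem_combos _ _ _ hs).2, fun h' => absurd h' he,
      fun _ => ⟨_, rfl, List.contains_iff_mem.mp hc, (of_mem_combos _ _ _ hs).1, rfl⟩⟩

variable {G : Type u} [Group G] [Fintype G] [IsSimpleGroup G] {p : ℕ} [Fact p.Prime] {k : ℕ}

/-- The principal block, in the lists filtered by a property of the signed degrees. -/
theorem exists_blk (T : Ctx G p k) {e c : ℕ} (he : T.D.e = e) (hc : 1 + T.D.n * p = c) (kp : ℤ → Bool)
    (hkp : ∀ χ ∈ T.D.X ∪ T.D.Y, χ ≠ Blocks.trivIrr G → ∀ s : ℤ, (s = 1 ∨ s = -1) → kp (s * (deg χ : ℤ)) = true) :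
    ∃ xs y, Fits p k e ((fastX p k (e * c)).filter kp) ((fastY p k (e * c) e).filter kp) xs y ∧
      Nonempty (Blk G p ⟨p, k, e, xs, y⟩) := by
  have hec : e * c ∣ 244823040 := by
    refine ⟨Nat.card (Subgroup.centralizer ((T.P : Subgroup G) : Set G)), ?_⟩
    exact (T.card_eq.symm.trans T.D.card_G).trans (by rw [he, hc])
  obtain ⟨xs, y, h, hB⟩ := exists_pblk T he kp hkp rfl fun _ => rfl
  have hf := fits_of_optsFrom h
  rw [hc] at hf
  refine ⟨xs, y, ⟨fun x hx => ?_, hf.one, fun hne => ?_⟩, hB⟩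
  · obtain ⟨h1, h2⟩ := List.mem_filter.mp (hf.mem x hx)
    exact List.mem_filter.mpr ⟨mem_fastX hec h1, h2⟩
  · obtain ⟨y', h1, h2, h3⟩ := hf.more hne
    obtain ⟨h4, h5⟩ := List.mem_filter.mp h2
    exact ⟨y', h1, List.mem_filter.mpr ⟨mem_fastY hec h4, h5⟩, h3⟩

theorem false_of_infeas {e : ℕ} {X Y xs : List ℤ} {y : Option ℤ} (h : Fits p k e X Y xs y)
    (hb : infeas p e X Y = true) : False := by
  obtain ⟨s, hs, hperm⟩ := exists_mem_combos X xs h.mem
  unfold infeas at hb
  split_ifs at hb with he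
  · obtain ⟨-, h1, h2⟩ := h.one he
    rw [h1] at hs
    have := List.all_eq_true.mp hb s hs
    rw [decide_eq_true_eq, hperm.sum_eq] at this
    exact this h2
  · obtain ⟨y', -, h1, h2, h3⟩ := h.more he
    rw [h2] at hs
    have := List.all_eq_true.mp hb s hs
    rw [hperm.sum_eq, ← h3, Bool.not_eq_true', List.contains_eq_mem, decide_eq_false_iff_not] at this
    exact this h1

theorem foldr_min_le (a : ℤ) : ∀ (l : List ℤ), l.foldr min a ≤ a ∧ ∀ b ∈ l, l.foldr min a ≤ b
  | [] => by simp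
  | c :: l => by
    obtain ⟨h1, h2⟩ := foldr_min_le a l
    simp only [List.foldr_cons]
    refine ⟨(min_le_right _ _).trans h1, fun b hb => ?_⟩
    rcases List.mem_cons.mp hb with rfl | hb
    · exact min_le_left _ _
    · exact (min_le_right _ _).trans (h2 b hb)

theorem le_foldr_max (a : ℤ) : ∀ (l : List ℤ), a ≤ l.foldr max a ∧ ∀ b ∈ l, b ≤ l.foldr max a
  | [] => by simp
  | c :: l => by
    obtain ⟨h1, h2⟩ := le_foldr_max a l
    simp only [List.foldr_cons]
    refine ⟨h1.trans (le_max_right _ _), fun b hb => ?_⟩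
    rcases List.mem_cons.mp hb with rfl | hb
    · exact le_max_left _ _
    · exact (h2 b hb).trans (le_max_right _ _)

theorem foldr_gcd_dvd (a : ℤ) : ∀ (l : List ℤ) (b : ℤ), (b = a ∨ b ∈ l) →
    ((l.foldr (fun b g => Nat.gcd (b - a).natAbs g) 0 : ℕ) : ℤ) ∣ b - a
  | [], b, h => by
    rcases h with rfl | h
    · simp
    · simp at h
  | c :: l, b, h => by
    simp only [List.foldr_cons]
    rcases (show b = c ∨ (b = a ∨ b ∈ l) by
      rcases h with h | h
      · exact Or.inr (Or.inl h)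
      · exact (List.mem_cons.mp h).imp_right Or.inr) with rfl | h
    · exact Int.natCast_dvd.mpr (Nat.gcd_dvd_left _ _)
    · exact (Int.natCast_dvd_natCast.mpr (Nat.gcd_dvd_right _ _)).trans (foldr_gcd_dvd a l b h)

/-- Bounds for a sum. -/
theorem sum_bounds {lo hi a : ℤ} {g : ℤ} : ∀ L : List ℤ, (∀ b ∈ L, lo ≤ b ∧ b ≤ hi ∧ g ∣ b - a) →
    (L.length : ℤ) * lo ≤ L.sum ∧ L.sum ≤ (L.length : ℤ) * hi ∧ g ∣ L.sum - (L.length : ℤ) * a
  | [], _ => by simp
  | b :: L, h => by
    obtain ⟨h1, h2, h3⟩ := h b List.mem_cons_self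
    obtain ⟨i1, i2, i3⟩ := sum_bounds L fun c hc => h c (List.mem_cons_of_mem _ hc)
    simp only [List.length_cons, List.sum_cons, Nat.cast_succ]
    refine ⟨by linarith, by linarith, ?_⟩
    have : b + L.sum - ((L.length : ℤ) + 1) * a = b - a + (L.sum - (L.length : ℤ) * a) := by ring
    rw [this]
    exact dvd_add h3 i3

theorem linBad_eq_false {n : ℕ} {a : ℤ} {l L : List ℤ} (hn : L.length = n) (hL : ∀ b ∈ L, b = a ∨ b ∈ l) :
    linBad n a l L.sum = false := by
  subst hn
  obtain ⟨h1, h2, h3⟩ := sum_bounds (lo := l.foldr min a) (hi := l.foldr max a) L fun b hb =>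
    ⟨(hL b hb).elim (fun e => e ▸ (foldr_min_le a l).1) ((foldr_min_le a l).2 b),
      (hL b hb).elim (fun e => e ▸ (le_foldr_max a l).1) ((le_foldr_max a l).2 b),
      foldr_gcd_dvd a l b (hL b hb)⟩
  simp only [linBad, Bool.or_eq_false_iff, decide_eq_false_iff_not, not_lt, not_not]
  exact ⟨⟨h1, h2⟩, Int.emod_eq_zero_of_dvd h3⟩

/-- Items reaching a target defeat the check. -/
theorem false_of_noSum {n C : ℕ} {opts tg : List (ℤ × ℤ × ℤ)} (h : noSum n C opts tg = true)
    {L : List (ℤ × ℤ × ℤ)} (hn : L.length = n) (hL : ∀ a ∈ L, a ∈ opts) {t : ℤ × ℤ × ℤ} (ht : t ∈ tg)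
    (h1 : (L.map fun a => a.1).sum = t.1) (h2 : (L.map fun a => a.2.1).sum = t.2.1)
    (hq : 1 + t.2.2 + (L.map fun a => a.2.2).sum ≤ (C : ℤ)) : False := by
  cases opts with
  | nil =>
    simp only [noSum, decide_eq_true_eq] at h
    obtain ⟨a, ha⟩ := List.exists_mem_of_length_pos (hn ▸ h)
    exact absurd (hL a ha) List.not_mem_nil
  | cons o os =>
    have key : ∀ f : ℤ × ℤ × ℤ → ℤ, ∀ b ∈ L.map f, b = f o ∨ b ∈ os.map f := fun f b hb => by
      obtain ⟨a, ha, rfl⟩ := List.mem_map.mp hb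
      rcases List.mem_cons.mp (hL a ha) with rfl | h'
      · exact Or.inl rfl
      · exact Or.inr (List.mem_map_of_mem h')
    have h3 : (L.map fun a => a.1 - a.2.1).sum = t.1 - t.2.1 := by
      rw [← h1, ← h2]
      clear hn hL h1 h2 hq key
      induction L with
      | nil => simp
      | cons a L ih => simp only [List.map_cons, List.sum_cons, ih]; ring
    have hq2 := (sum_bounds (lo := (os.map fun a => a.2.2).foldr min o.2.2)
      (hi := (os.map fun a => a.2.2).foldr max o.2.2) (a := 0) (g := 1) (L.map fun a => a.2.2) fun b hb =>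
      ⟨(key (fun a => a.2.2) b hb).elim (fun e => e ▸ (foldr_min_le _ _).1) ((foldr_min_le _ _).2 b),
        (key (fun a => a.2.2) b hb).elim (fun e => e ▸ (le_foldr_max _ _).1) ((le_foldr_max _ _).2 b),
        one_dvd _⟩).1
    rw [List.length_map, hn] at hq2
    simp only [noSum, List.all_eq_true, Bool.or_eq_true, decide_eq_true_eq] at h
    have hlen : ∀ f : ℤ × ℤ × ℤ → ℤ, (L.map f).length = n := fun f => by rw [List.length_map, hn]
    rcases h t ht with ((h | h) | h) | h
    · linarith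
    · rw [← h1, linBad_eq_false (hlen _) (key fun a => a.1)] at h
      simp at h
    · rw [← h2, linBad_eq_false (hlen _) (key fun a => a.2.1)] at h
      simp at h
    · rw [← h3, linBad_eq_false (hlen _) (key fun a => a.1 - a.2.1)] at h
      simp at h

/-- A value is among the values congruent to `r` modulo `23`. -/
theorem mem_vOpts {C d : ℕ} {r A : ℤ} (hd : ¬ 23 ∣ d) (hA : A.natAbs < d) (h4 : ((d : ℤ) - A) % 4 = 0)
    (hsq : A * A ≤ (C : ℤ)) (hω : ((244823040 / C : ℕ) : ℤ) * A % (d : ℤ) = 0) (hr : (23 : ℤ) ∣ A - r) :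
    A ∈ vOpts C d r := by
  have hd0 : 0 < d := by omega
  obtain ⟨i, hi⟩ : ∃ i, i = 244823040 / C := ⟨_, rfl⟩
  obtain ⟨H, hH⟩ : ∃ H, H = Nat.gcd i d := ⟨_, rfl⟩
  obtain ⟨g, hg⟩ : ∃ g, g = d / H := ⟨_, rfl⟩
  have hH0 : 0 < H := hH ▸ Nat.gcd_pos_of_pos_right _ hd0
  have hdg : d = g * H := by rw [hg, Nat.div_mul_cancel (hH ▸ Nat.gcd_dvd_right _ _)]
  have hgA : (g : ℤ) ∣ A := by
    have h1 : d ∣ i * A.natAbs := by
      have := Int.natAbs_dvd_natAbs.mpr (Int.dvd_of_emod_eq_zero (hi ▸ hω))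
      rwa [Int.natAbs_mul, Int.natAbs_natCast, Int.natAbs_natCast] at this
    obtain ⟨i', hi'⟩ : H ∣ i := hH ▸ Nat.gcd_dvd_left _ _
    have h2 : g ∣ i' * A.natAbs := by
      refine Nat.dvd_of_mul_dvd_mul_left hH0 ?_
      rw [← mul_assoc, ← hi', mul_comm H g, ← hdg]
      exact h1
    have hco : Nat.Coprime g i' := by
      have hgi : i / H = i' := by rw [hi', Nat.mul_div_cancel_left _ hH0]
      rw [hg, ← hgi, hH]
      exact (Nat.coprime_div_gcd_div_gcd (hH ▸ hH0)).symm
    exact Int.natCast_dvd.mpr (hco.dvd_of_dvd_mul_left h2)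
  obtain ⟨j, rfl⟩ := hgA
  have hg23 : ¬ (23 : ℤ) ∣ (g : ℤ) := fun h => hd (hdg ▸ dvd_mul_of_dvd_left (Int.natCast_dvd_natCast.mp h) _)
  simp only [vOpts, ← hi, ← hH, ← hg]
  cases hf : (List.range 23).find? fun j => decide (((g * j : ℕ) : ℤ) % 23 = r % 23) with
  | none =>
    have := List.find?_eq_none.mp hf (j % 23).toNat (List.mem_range.mpr (by omega))
    rw [decide_eq_true_eq, Nat.cast_mul, Int.toNat_of_nonneg (by omega)] at this
    refine absurd ?_ this
    rw [Int.emod_eq_emod_iff_emod_sub_eq_zero]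
    refine Int.emod_eq_zero_of_dvd ?_
    rw [show (g : ℤ) * (j % 23) - r = (g * j - r) + g * (j % 23 - j) by ring]
    exact dvd_add hr (dvd_mul_of_dvd_right (by omega) _)
  | some j0 =>
    have h1 := List.find?_some hf
    have h2 := List.mem_range.mp (List.mem_of_find?_eq_some hf)
    rw [decide_eq_true_eq, Nat.cast_mul] at h1
    have hj : (23 : ℤ) ∣ j - j0 := by
      refine ((show Prime (23 : ℤ) by norm_num).dvd_or_dvd (?_ : (23 : ℤ) ∣ g * (j - j0))).resolve_left hg23
      rw [show (g : ℤ) * (j - j0) = (g * j - r) + (r - g * j0) by ring]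
      exact dvd_add hr (Int.ModEq.dvd h1)
    obtain ⟨q, hq⟩ := hj
    have hjb : j.natAbs < H := by
      refine Nat.lt_of_mul_lt_mul_left (a := g) ?_
      rwa [← hdg, show g * j.natAbs = ((g : ℤ) * j).natAbs by rw [Int.natAbs_mul, Int.natAbs_natCast]]
    simp only [List.mem_filter, List.mem_map, List.mem_range, Bool.and_eq_true, decide_eq_true_eq]
    refine ⟨⟨(q + (H / 23 + 1 : ℕ)).toNat, ?_, ?_⟩, ⟨hA, h4⟩, hsq⟩
    · omega
    · congr 1
      omega

end CfsgLib.M24Order
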