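import Cfsg.Agent.Lib.M24Order.Keys11Defs

/-!
# Simple groups of order 244823040: computations, the values at an involution for the prime 5, first part
-/

set_option autoImplicit false
set_option Elab.async false
set_option maxHeartbeats 4000000

namespace CfsgLib.M24Order

open CfsgLib.BrauerTuan CfsgLib.OrderBlocks

theorem key_dead5a : (table5.take 4).all dead5 = true := by decide +kernel

theorem key_dead5b : ((table5.drop 4).take 5).all dead5 = true := by decide +kernel

end CfsgLib.M24Order
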