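import Cfsg.Agent.Lib.M24Order.Seven57
import Cfsg.Agent.Lib.M24Order.Keys11Vals
import Cfsg.Agent.Lib.M24Order.Keys11Vals2

/-!
# Simple groups of order 244823040: the block for 5 at an involution centralising `P₁₁`
-/

set_option autoImplicit false
set_option linter.unusedSectionVars false
set_option linter.style.haveILetI false
set_option maxHeartbeats 1000000

namespace CfsgLib.M24Order

open Cfsg
open scoped ComplexConjugate CfsgLib.Char
open CfsgLib CfsgLib.BrauerTuan CfsgLib.OrderBlocks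
open scoped _root_.Classical

universe u

theorem fracSum_perm {β : Type*} (f g : β → ℤ) {l l' : List β} (h : l.Perm l') :
    fracSum (l.map f) (l.map g) = fracSum (l'.map f) (l'.map g) := by
  induction h with
  | nil => rfl
  | cons a _ ih => simp only [List.map_cons, fracSum, ih]
  | swap a b l =>
    simp only [List.map_cons, fracSum]
    refine Prod.ext ?_ ?_ <;> ring
  | trans _ _ ih1 ih2 => exact ih1.trans ih2

theorem table5_dead : table5.all dead5 = true := by
  rw [← List.take_append_drop 4 table5, List.all_append, key_dead5a, Bool.true_and,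
    ← List.take_append_drop 5 (table5.drop 4), List.all_append, key_dead5b, Bool.true_and, List.drop_drop]
  exact key_dead5c

variable {G : Type u} [Group G] [Fintype G] [IsSimpleGroup G]

/-- An involution commuting with an element of order `5`, moved to `C(P₅)`. -/
theorem exists_five [Fact (Nat.Prime 5)] {k : ℕ} (T : Ctx G 5 k) {z : G} (hz : orderOf z = 2) (h5 : 5 ∣ cC z) :
    2 ∣ k ∧ ∃ z' : G, orderOf z' = 2 ∧ z' ∈ Subgroup.centralizer ((T.P : Subgroup G) : Set G) ∧ cC z' = cC z ∧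
      ∀ χ : IrrCharacter G, iv χ z' = iv χ z := by
  obtain ⟨w, hw⟩ := exists_prime_orderOf_dvd_card' (G := Subgroup.centralizer ({z} : Set G)) 5 h5
  obtain ⟨S, hS⟩ : ∃ S : Sylow 5 G, (S : Subgroup G) = Subgroup.zpowers (w : G) := by
    have h : IsPGroup 5 (Subgroup.zpowers (w : G)) :=
      IsPGroup.of_card (n := 1) (by rw [Nat.card_zpowers, Subgroup.orderOf_coe, hw, pow_one])
    obtain ⟨S, hS⟩ := h.exists_le_sylow
    refine ⟨S, (Subgroup.eq_of_le_of_card_ge hS ?_).symm⟩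
    obtain ⟨m, hm⟩ := S.isPGroup'.exists_card_eq
    rw [Nat.card_zpowers, Subgroup.orderOf_coe, hw, hm]
    rcases Nat.lt_or_ge m 2 with h | h
    · exact le_trans (Nat.pow_le_pow_right (by norm_num) (Nat.le_of_lt_succ h)) (by norm_num)
    · exact absurd ((pow_dvd_pow 5 h).trans (hm ▸ Subgroup.card_subgroup_dvd_card _))
        (by rw [T.card_eq]; norm_num)
  obtain ⟨a, ha⟩ := MulAction.exists_smul_eq G T.P S
  have hz' : orderOf (a⁻¹ * z * a) = 2 := by
    rw [show a⁻¹ * z * a = a⁻¹ * z * (a⁻¹)⁻¹ by group,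
      show orderOf (a⁻¹ * z * (a⁻¹)⁻¹) = orderOf z from (MulAut.conj a⁻¹).orderOf_eq z]
    exact hz
  have hC : a⁻¹ * z * a ∈ Subgroup.centralizer ((T.P : Subgroup G) : Set G) := by
    refine Subgroup.mem_centralizer_iff.mpr fun v hv => ?_
    have hmem : a * v * a⁻¹ ∈ Subgroup.zpowers (w : G) := by
      rw [← hS, ← ha, Sylow.smul_def]
      exact Subgroup.mem_map_of_mem _ hv
    obtain ⟨i, hi⟩ := Subgroup.mem_zpowers_iff.mp hmem
    have hwz : Commute (w : G) z := Subgroup.mem_centralizer_singleton_iff.mp w.2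
    have hc : (a * v * a⁻¹) * z = z * (a * v * a⁻¹) := by rw [← hi]; exact (hwz.zpow_left i).eq
    calc v * (a⁻¹ * z * a) = a⁻¹ * ((a * v * a⁻¹) * z) * a := by group
      _ = a⁻¹ * (z * (a * v * a⁻¹)) * a := by rw [hc]
      _ = a⁻¹ * z * a * v := by group
  refine ⟨?_, _, hz', hC, ?_, fun χ => ?_⟩
  · have h := Subgroup.orderOf_dvd_natCard _ hC
    rw [hz', T.card_C] at h
    omega
  · have h := cC_conj a⁻¹ z
    rwa [inv_inv] at h
  · have h := iv_conj χ (mul_self_of_order_two hz) a⁻¹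
    rwa [inv_inv] at h

variable [Fact (Nat.Prime 5)] [Fact (Nat.Prime 11)]

/-- A common member of the blocks for `5` and `11`. -/
theorem five_member {k5 k e : ℕ} {xs xs' : List ℤ} {y' : Option ℤ} {X' Y' : List ℤ}
    (B : Blk G 5 ⟨5, k5, 4, xs, none⟩) (hX5 : ∀ χ ∈ B.xl, (5 : ℤ) ∣ B.σ χ * (deg χ : ℤ) - 1)
    (B' : Blk G 11 ⟨11, k, e, xs', y'⟩) (he : e = 5 ∨ e = 10) (hf' : Fits 11 k e X' Y' xs' y')
    (hX' : ∀ x ∈ X', (11 : ℤ) ∣ x - 1) (hY' : ∀ y ∈ Y', (11 : ℤ) ∣ y - e) (hlen : B.xl.length = 4)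
    (h11 : ¬ 11 ∣ k5) :
    (∃ χ ∈ B.xl, χ ∈ B'.xl ∧ B.σ χ * B'.σ χ = -1 ∧ (B.σ χ * (deg χ : ℤ)) % 11 = 10) ∨
      (∃ x, 2 ≤ (B.xl.map fun χ => B.σ χ * (deg χ : ℤ)).count x ∧ x % 11 = 5 ∧ y' = some x) := by
  have hxs' : xs' = B'.xl.map fun χ => B'.σ χ * (deg χ : ℤ) := B'.xs_eq
  have hX : ∀ χ ∈ B'.xl, (11 : ℤ) ∣ B'.σ χ * (deg χ : ℤ) - 1 := fun χ hχ =>
    hX' _ (hf'.mem _ ((congrArg (fun l : List ℤ => B'.σ χ * (deg χ : ℤ) ∈ l) hxs').mpr
      (List.mem_map.mpr ⟨χ, hχ, rfl⟩)))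
  by_cases hA : ∃ χ ∈ B.xl, χ ∈ B'.xl ∧ B.σ χ * B'.σ χ = -1
  · obtain ⟨χ, h1, h2, h3⟩ := hA
    refine Or.inl ⟨χ, h1, h2, h3, ?_⟩
    have := hX χ h2
    rcases B.σ_unit h1 with a | a <;> rcases B'.σ_unit h2 with b | b <;> rw [a, b] at h3 <;> rw [b] at this <;>
      rw [a] <;> omega
  right
  have hone : ∀ χ ∈ inX B B', B.σ χ * B'.σ χ = 1 := fun χ hχ =>
    (inX_unit (List.mem_map.mpr ⟨χ, hχ, rfl⟩)).resolve_right fun h =>
      hA ⟨χ, (mem_inX.mp hχ).1, (mem_inX.mp hχ).2, h⟩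
  have hsumX : ((inX B B').map fun χ => B.σ χ * B'.σ χ).sum = ((inX B B').length : ℤ) := by
    rw [List.map_congr_left (g := fun _ => (1 : ℤ)) hone]; simp
  have hY : inY B B' ≠ [] := (cross_cases B rfl B' (by norm_num) h11).resolve_left hA
  obtain ⟨ψ, hψ⟩ := List.exists_mem_of_ne_nil _ hY
  obtain ⟨hψB, hψY⟩ := mem_inY.mp hψ
  have he' : e = 5 := he.resolve_right fun h => by
    obtain ⟨hy, -, -⟩ := hf'.one (by omega)
    subst hy
    rw [B'.yl_none rfl] at hψY
    exact List.not_mem_nil hψY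
  obtain ⟨y₀, rfl, hy₀, -, -⟩ := hf'.more (by omega)
  obtain ⟨hyl, hyd, hysum⟩ := B'.yl_some y₀ rfl
  have hyl2 : B'.yl.length = 2 := by rw [hyl]; subst he'; simp [Opt.t]
  have hy5 := hY' y₀ hy₀
  have hnd : B.xl.Nodup := (List.nodup_append.mp (List.nodup_cons.mp B.nodup).2).1
  have hndY : (inY B B').Nodup := hnd.filter _
  by_cases hall : ∀ ξ ∈ inY B B', ξ = ψ
  · exfalso
    have hsingle : inY B B' = [ψ] := by
      rcases h : inY B B' with _ | ⟨a, _ | ⟨b, l⟩⟩
      · exact absurd h hY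
      · rw [hall a (h ▸ List.mem_cons_self)]
      · rw [h] at hndY hall
        exact absurd ((hall a (by simp)).trans (hall b (by simp)).symm) (by intro e; subst e; simp at hndY)
    obtain ⟨hdvd, -⟩ := cross_single B rfl B' (by norm_num) h11 hsingle
    rw [hsumX] at hdvd
    have hle : (inX B B').length + 1 ≤ 4 := by
      refine le_of_le_of_eq (b := B.xl.length) ?_ hlen
      refine le_of_eq_of_le (List.length_cons (a := ψ)).symm
        (List.subperm_of_subset (List.nodup_cons.mpr ⟨fun h => ?_, hnd.filter _⟩) ?_).length_le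
      · exact (List.nodup_append.mp (List.nodup_cons.mp B'.nodup).2).2.2 ψ (mem_inX.mp h).2 ψ hψY rfl
      · intro a ha
        rcases List.mem_cons.mp ha with rfl | ha
        · exact hψB
        · exact (mem_inX.mp ha).1
    have hd := hyd ψ hψY
    rw [hd] at hdvd
    rcases B.σ_unit hψB with a | a <;> rw [a] at hdvd <;> omega
  simp only [not_forall] at hall
  obtain ⟨φ, hφ, hφψ⟩ := hall
  obtain ⟨hφB, hφY⟩ := mem_inY.mp hφ
  have hylp : B'.yl.Perm [ψ, φ] := by
    obtain ⟨a, b, hab⟩ := List.length_eq_two.mp hyl2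
    have h1 := hψY
    have h2 := hφY
    rw [hab] at h1 h2 ⊢
    simp only [List.mem_cons, List.not_mem_nil, or_false] at h1 h2
    rcases h1 with rfl | rfl <;> rcases h2 with rfl | rfl
    · exact absurd rfl hφψ
    · exact List.Perm.refl _
    · exact List.Perm.swap _ _ _
    · exact absurd rfl hφψ
  have hYp : (inY B B').Perm [ψ, φ] := (List.perm_ext_iff_of_nodup hndY (by simp [Ne.symm hφψ])).mpr fun a =>
    ⟨fun h => hylp.subset (mem_inY.mp h).2, fun h => by
      simp only [List.mem_cons, List.not_mem_nil, or_false] at h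
      rcases h with rfl | rfl <;> assumption⟩
  have hσeq : B.σ φ = B.σ ψ := by
    have h1 := hX5 φ hφB
    have h2 := hX5 ψ hψB
    rw [hyd φ hφY] at h1
    rw [hyd ψ hψY] at h2
    rcases B.σ_unit hφB with a | a <;> rcases B.σ_unit hψB with b | b <;> rw [a] at h1 ⊢ <;> rw [b] at h2 ⊢ <;>
      omega
  obtain ⟨v, hv, hv1⟩ := M12Order.exists_ne_one_P B'.T
  have hsplit := cross_split B rfl B' (by norm_num) h11 hv hv1
  have hys := hysum v hv hv1
  rw [(hylp.map _).sum_eq] at hys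
  rw [hsumX, (hYp.map _).sum_eq] at hsplit
  simp only [List.map_cons, List.map_nil, List.sum_cons, List.sum_nil, add_zero, hσeq] at hsplit hys
  have hint : ((1 + ((inX B B').length : ℤ) : ℤ) : ℂ) = ((B.σ ψ * sgn y₀ : ℤ) : ℂ) := by
    push_cast at hsplit ⊢
    linear_combination hsplit - (B.σ ψ : ℂ) * hys
  have hint' := Int.cast_injective hint
  have hxy : B.σ ψ * (deg ψ : ℤ) = y₀ := by
    have h1 : B.σ ψ = sgn y₀ := by
      rcases B.σ_unit hψB with a | a <;> rw [a] at hint' ⊢ <;> unfold sgn at hint' ⊢ <;> split_ifs at hint' ⊢ <;> omega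
    rw [h1, hyd ψ hψY]
    exact (sgn_mul_self y₀).2
  have hxy' : B.σ φ * (deg φ : ℤ) = y₀ := by rw [hσeq, hyd φ hφY, ← hyd ψ hψY]; exact hxy
  refine ⟨y₀, ?_, by subst he'; omega, rfl⟩
  have hsp : [ψ, φ].Subperm B.xl := List.subperm_of_subset (by simp [Ne.symm hφψ]) fun a ha => by
    simp only [List.mem_cons, List.not_mem_nil, or_false] at ha
    rcases ha with rfl | rfl <;> assumption
  obtain ⟨l, hl1, hl2⟩ := hsp
  refine le_trans (le_of_eq_of_le ?_ le_rfl)
    ((List.Sublist.map (fun χ : IrrCharacter G => B.σ χ * (deg χ : ℤ)) hl2).count_le y₀)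
  rw [(hl1.map _).count_eq]
  simp [hxy, hxy']

theorem mem_cents11 [Fact (Nat.Prime 23)] (hn : Nat.card G = 244823040) (T23 : Ctx G 23 1) {z : G}
    (hz : orderOf z = 2) (h5 : 5 ∣ cC z) (h11 : 11 ∣ cC z) : cC z ∈ cents11 := by
  have h2 : 2 ∣ cC z := by
    rw [cC, ← hz]
    exact Subgroup.orderOf_dvd_natCard _ (Subgroup.mem_centralizer_singleton_iff.mpr rfl)
  have h23 : ¬ 23 ∣ cC z := fun h => by
    obtain ⟨w, hw⟩ := exists_prime_orderOf_dvd_card' (G := Subgroup.centralizer ({z} : Set G)) 23 h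
    have hzC : z ∈ Subgroup.centralizer ({(w : G)} : Set G) :=
      Subgroup.mem_centralizer_singleton_iff.mpr (Subgroup.mem_centralizer_singleton_iff.mp w.2).symm
    have h' := Subgroup.orderOf_dvd_natCard _ hzC
    rw [hz, show Nat.card (Subgroup.centralizer ({(w : G)} : Set G)) = 23 * 1 from
      cC_of_ctx T23 (by rw [Subgroup.orderOf_coe]; exact hw)] at h'
    norm_num at h'
  obtain ⟨q, hq⟩ : 110 ∣ cC z :=
    Nat.Coprime.mul_dvd_of_dvd_of_dvd (by norm_num : Nat.Coprime 10 11)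
      (Nat.Coprime.mul_dvd_of_dvd_of_dvd (by norm_num : Nat.Coprime 2 5) h2 h5) h11
  simp only [cents11, List.mem_map]
  refine ⟨q, mem_divs _ (by norm_num) q ?_, hq.symm⟩
  have h := cC_dvd hn z
  rw [hq, show 244823040 = 110 * (23 * 96768) by norm_num] at h
  have h' := Nat.dvd_of_mul_dvd_mul_left (by norm_num) h
  have hco : Nat.Coprime q 23 :=
    ((Nat.Prime.coprime_iff_not_dvd (by norm_num)).mpr fun hd => h23 (hq ▸ hd.mul_left 110)).symm
  norm_num
  exact hco.dvd_of_dvd_mul_left h'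

/-- What the block for `5` leaves for the block for `11`. -/
theorem five_cases [Fact (Nat.Prime 23)] (T23 : Ctx G 23 1) (he23 : T23.D.e = 11) {k e : ℕ} {xs' : List ℤ}
    {y' : Option ℤ} {X' Y' : List ℤ} (B' : Blk G 11 ⟨11, k, e, xs', y'⟩) (hk : ¬ 5 ∣ k)
    (he : e = 5 ∨ e = 10) (hf' : Fits 11 k e X' Y' xs' y') (hX' : ∀ x ∈ X', (11 : ℤ) ∣ x - 1)
    (hY' : ∀ y ∈ Y', (11 : ℤ) ∣ y - e) {z : G} (hz : orderOf z = 2)
    (hzC : z ∈ Subgroup.centralizer ((B'.T.P : Subgroup G) : Set G)) (h5z : 5 ∣ cC z) (h11z : 11 ∣ cC z) :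
    (cC z ∈ cents13 ∧ -5796 ∈ xs') ∨ y' = some 126 ∨ y' = some 896 := by
  have hn := B'.card_eq
  have hzz := mul_self_of_order_two hz
  obtain ⟨k5, T5, hmem⟩ := exists_ctx (p := 5) hn [1024, 27, 5, 7, 11, 23] (by norm_num) (by norm_num) (by norm_num)
  obtain ⟨h2k, -⟩ := exists_five T5 hz h5z
  have h11 : ¬ 11 ∣ k5 := fun h => by
    rcases (Nat.Prime.dvd_mul (by norm_num : Nat.Prime 5)).mp (dvd_of_dvd_k T5 B'.T h) with h' | h'
    · norm_num at h'
    · exact hk h'
  have h23 : ¬ 23 ∣ k5 := fun h => by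
    have := dvd_of_dvd_k T5 T23 h
    norm_num at this
  obtain ⟨c, hc⟩ : ∃ c, 1 + T5.D.n * 5 = c := ⟨_, rfl⟩
  rw [hc] at hmem
  have he5 : T5.D.e = 2 ∨ T5.D.e = 4 := by
    have h1 := T5.D.het
    have h2 := T5.D.two_le_e
    have h4 : T5.D.e * T5.D.t = 4 := by omega
    have h3 : T5.D.e ∣ 4 := ⟨_, h4.symm⟩
    have := Nat.le_of_dvd (by norm_num) h3
    interval_cases h : T5.D.e <;> omega
  have hkey := List.all_eq_true.mp key_trips5 _ (List.mem_filter.mpr ⟨hmem, by
    simp only [Bool.and_eq_true, decide_eq_true_eq]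
    omega⟩)
  obtain ⟨xs, y, hf, ⟨B⟩⟩ := exists_blk T5 (e := T5.D.e) rfl hc kp23
    fun χ _ _ s hs => kp23_of (g23_deg T23 he23) hs χ
  simp only [check5, forceL_eq] at hkey
  rcases he5 with he5 | he5 <;> rw [he5] at hf B hkey
  · rw [if_pos rfl] at hkey
    exact (false_of_e2 (by norm_num) (by norm_num) hf B hkey).elim
  rw [if_neg (by norm_num)] at hkey
  obtain ⟨rfl, hlen, hsum⟩ := hf.one (by norm_num)
  obtain ⟨-, z', hz', hzC', hcz, hiv⟩ := exists_five B.T hz h5z
  have hxs : xs = B.xl.map fun χ => B.σ χ * (deg χ : ℤ) := B.xs_eq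
  have hxmem : ∀ χ ∈ B.xl, B.σ χ * (deg χ : ℤ) ∈ fastX 5 k5 (4 * c) := fun χ hχ =>
    (List.mem_filter.mp (hf.mem _ ((congrArg (fun l : List ℤ => B.σ χ * (deg χ : ℤ) ∈ l) hxs).mpr
      (List.mem_map.mpr ⟨χ, hχ, rfl⟩)))).1
  have hlenB : B.xl.length = 4 := by
    exact ((congrArg List.length hxs).trans (List.length_map _)).symm.trans hlen
  have hcase := five_member B (fun χ hχ => fastX_mod (hxmem χ hχ)) B' he hf' hX' hY' hlenB h11
  have hrel : relevant xs = true := by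
    simp only [relevant, dup5, Bool.or_eq_true, List.any_eq_true, Bool.and_eq_true, decide_eq_true_eq]
    rcases hcase with ⟨χ, h1, -, -, h4⟩ | ⟨x, h1, h2, -⟩
    · exact Or.inl ⟨_, (congrArg (fun l : List ℤ => B.σ χ * (deg χ : ℤ) ∈ l) hxs).mpr
        (List.mem_map.mpr ⟨χ, h1, rfl⟩), h4⟩
    · rw [← congrArg (List.count x) hxs] at h1
      exact Or.inr ⟨x, List.count_pos_iff.mp (by omega), h2, h1⟩
  obtain ⟨q, hq, hqp⟩ := exists_quads hlen hf.mem hsum hrel
  have hperm : (B.xl.map fun χ => B.σ χ * (deg χ : ℤ)).Perm q := ((List.Perm.of_eq hxs).symm).trans hqp.symm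
  have hok := List.all_eq_true.mp hkey q hq
  simp only [ok5, Bool.or_eq_true, Bool.and_eq_true, decide_eq_true_eq, Bool.not_eq_true',
    List.all_eq_true] at hok
  rcases hok with (((hok | hok) | hok) | hok) | hok
  · -- no common member
    exfalso
    simp only [relevant, dup5, Bool.or_eq_false_iff, List.any_eq_false, Bool.and_eq_true, decide_eq_true_eq,
      not_and, not_le] at hok
    rcases hcase with ⟨χ, h1, -, -, h4⟩ | ⟨x, h1, h2, -⟩
    · exact hok.1 _ (hperm.subset (List.mem_map.mpr ⟨χ, h1, rfl⟩)) h4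
    · rw [hperm.count_eq] at h1
      have := hok.2 x (List.count_pos_iff.mp (by omega)) h2
      omega
  · -- the first list against `7`
    exfalso
    haveI : Fact (Nat.Prime 7) := ⟨by norm_num⟩
    have hl := hperm.trans (List.isPerm_iff.mp hok).symm
    obtain ⟨χ, hχ, hx⟩ := List.mem_map.mp (hl.symm.subset (show (-24 : ℤ) ∈ listA by decide))
    have h24 : B.σ χ = -1 ∧ deg χ = 24 := by
      have := deg_pos χ
      rcases B.σ_unit hχ with a | a <;> rw [a] at hx <;> exact ⟨by omega, by omega⟩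
    have h7 : ¬ 7 ∣ k5 := not_seven_dvd B rfl hχ h24.2 h24.1 fun ξ hξ hd =>
      xl_eq_of_x B hl (by decide) hξ hχ (by
        rw [hx]
        have h := x_mem B hl hξ
        rw [hd] at h ⊢
        simp only [listA, List.mem_cons, List.not_mem_nil, or_false] at h
        rcases B.σ_unit hξ with a | a <;> rw [a] at h ⊢ <;> omega)
    obtain ⟨k7, T7, -⟩ := exists_ctx (p := 7) hn [1024, 27, 5, 7, 11, 23] (by norm_num) (by norm_num) (by norm_num)
    obtain ⟨xs7, y7, hf7, ⟨B7⟩⟩ := exists_blk T7 (e := T7.D.e) rfl rfl (fun _ => true) fun _ _ _ _ _ => rfl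
    exact false_of_list57 B hf7 (fun x hx => fastX_mod (List.mem_filter.mp hx).1)
      (fun w hw => fastY_mod (List.mem_filter.mp hw).1) B7 h7 (Or.inl rfl) hl
  · -- the second list against `7`
    exfalso
    haveI : Fact (Nat.Prime 7) := ⟨by norm_num⟩
    obtain ⟨hl', h7⟩ := hok
    have hl := hperm.trans (List.isPerm_iff.mp hl').symm
    obtain ⟨k7, T7, -⟩ := exists_ctx (p := 7) hn [1024, 27, 5, 7, 11, 23] (by norm_num) (by norm_num) (by norm_num)
    obtain ⟨xs7, y7, hf7, ⟨B7⟩⟩ := exists_blk T7 (e := T7.D.e) rfl rfl (fun _ => true) fun _ _ _ _ _ => rfl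
    exact false_of_list57 B hf7 (fun x hx => fastX_mod (List.mem_filter.mp hx).1)
      (fun w hw => fastY_mod (List.mem_filter.mp hw).1) B7 (fun h => h7 (Nat.mod_eq_zero_of_dvd h)) (Or.inr rfl) hl
  · -- exceptional members of degree `126` or `896`
    rcases hcase with ⟨χ, h1, -, -, h4⟩ | ⟨x, h1, h2, h3⟩
    · exact absurd h4 (hok.1 _ (hperm.subset (List.mem_map.mpr ⟨χ, h1, rfl⟩)))
    · rw [hperm.count_eq] at h1
      rcases hok.2 x (List.count_pos_iff.mp (by omega)) with ((h | h) | h) | h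
      · exact absurd h2 h
      · omega
      · exact Or.inr (Or.inl (h ▸ h3))
      · exact Or.inr (Or.inr (h ▸ h3))
  -- the values at the involution
  obtain ⟨hkt, hl⟩ := hok
  obtain ⟨l, hl5, hlp⟩ := List.any_eq_true.mp hl
  have hlq := hperm.trans (List.isPerm_iff.mp hlp).symm
  have hd := List.all_eq_true.mp (List.all_eq_true.mp table5_dead l hl5) (cC z) (mem_cents11 hn T23 hz h5z h11z)
  simp only [Bool.or_eq_true, Bool.and_eq_true, decide_eq_true_eq, Bool.not_eq_true', List.contains_iff_mem] at hd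
  rcases hd with ⟨⟨h13, hdup⟩, hfil⟩ | hd
  · simp only [dup5, List.any_eq_false, Bool.and_eq_true, decide_eq_true_eq, not_and, not_le] at hdup
    rcases hcase with ⟨χ, h1, h1', h3, h4⟩ | ⟨x, h1, h2, -⟩
    · refine Or.inl ⟨h13, ?_⟩
      have hm : B.σ χ * (deg χ : ℤ) ∈ l.filter fun x => decide (x % 11 = 10) :=
        List.mem_filter.mpr ⟨hlq.subset (List.mem_map.mpr ⟨χ, h1, rfl⟩), decide_eq_true h4⟩
      rw [hfil, List.mem_singleton] at hm
      refine (congrArg (fun l : List ℤ => (-5796 : ℤ) ∈ l) B'.xs_eq).mpr (List.mem_map.mpr ⟨χ, h1', ?_⟩)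
      rcases B.σ_unit h1 with a | a <;> rcases B'.σ_unit h1' with b | b <;> rw [a, b] at h3 <;> rw [a] at hm <;>
        rw [b] <;> omega
    · rw [hlq.count_eq] at h1
      have := hdup x (List.count_pos_iff.mp (by omega)) h2
      omega
  exfalso
  obtain ⟨cs, hcs, hmap⟩ := exists_perm_map (fun χ : IrrCharacter G => B.σ χ * (deg χ : ℤ)) l B.xl hlq.symm
  have hl4 : l.length = 4 := by rw [← hlq.length_eq, List.length_map]; exact hlenB
  obtain ⟨c₁, c₂, c₃, c₄, rfl⟩ : ∃ a b c d, cs = [a, b, c, d] := by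
    have h : cs.length = 4 := by rw [hcs.length_eq]; exact hlenB
    match cs, h with
    | [a, b, c, d], _ => exact ⟨a, b, c, d, rfl⟩
  subst hmap
  simp only [List.map_cons, List.map_nil] at hd hl4
  have mem : ∀ χ, χ ∈ [c₁, c₂, c₃, c₄] → χ ∈ B.xl := fun χ h => hcs.subset h
  have hzz' := mul_self_of_order_two hz'
  have hval : ∀ χ ∈ [c₁, c₂, c₃, c₄], ValOK 5 (cC z) (B.σ χ * (deg χ : ℤ), iv χ z) := fun χ h => by
    have hχ := mem χ h
    obtain ⟨f1, f2, f3, f4⟩ := iv_facts hn B.T.noncomm (B.ne_triv (List.mem_append_left _ hχ)) hz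
    obtain ⟨hs1, hs2⟩ := B.sgn_eq hχ
    refine ⟨?_, by rw [hs2]; exact f2, by rw [hs2]; exact f4, fastX_small (hxmem χ hχ), f1,
      by rw [hs2]; exact f3⟩
    rw [hs1]
    have := B.dvd_sub (by norm_num) hz' hzC' hχ
    rw [hiv χ] at this
    exact Int.emod_eq_zero_of_dvd this
  obtain ⟨v, hv, hv1⟩ := M12Order.exists_ne_one_P B.T
  obtain ⟨r1, -⟩ := B.rel_iv (g := z') (by rw [hz']; norm_num) fun φ _ => iv_spec φ hzz'
  have hrel0 := r1 rfl
  change sigSum xs _ = 0 at hrel0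
  rw [congrArg (fun l => sigSum l (B.xl.map (iv · z'))) hxs, sigSum_map,
    List.map_congr_left (g := fun χ => sgn (B.σ χ * (deg χ : ℤ)) * iv χ z) fun χ _ => by rw [hiv χ],
    ← (hcs.map _).sum_eq] at hrel0
  have hsq := sum_sq_le (l := Blocks.trivIrr G :: B.xl) (g := z)
    (by have h := B.nodup; rw [B.yl_none rfl, List.append_nil] at h; exact h) fun χ _ => iv_spec χ hzz
  rw [List.map_cons, List.sum_cons, iv_triv, ← (hcs.map _).sum_eq] at hsq
  simp only [List.map_cons, List.map_nil, List.sum_cons, List.sum_nil, add_zero] at hsq hrel0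
  obtain ⟨m, -, hm⟩ := count_square B (by norm_num) hzz' hv hv1 (fun φ => iv φ z) 0
    (fun φ _ => by rw [iv_spec φ hzz', hiv φ]) (fun ψ hψ => by rw [B.yl_none rfl] at hψ; simp at hψ)
  have htf : tFrac ⟨5, k5, 4, xs, none⟩ (B.xl.map fun φ => iv φ z) 0 =
      fracSum (([c₁, c₂, c₃, c₄] : List (IrrCharacter G)).map fun χ => B.σ χ * (deg χ : ℤ))
        (([c₁, c₂, c₃, c₄] : List (IrrCharacter G)).map fun φ => iv φ z) := by
    show fracSum xs _ = _
    rw [fracSum_perm _ _ hcs]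
    exact congrArg (fun l => fracSum l _) hxs
  refine false_of_noVals5 (a₁ := (B.σ c₁ * (deg c₁ : ℤ), iv c₁ z)) (a₂ := (B.σ c₂ * (deg c₂ : ℤ), iv c₂ z))
    (a₃ := (B.σ c₃ * (deg c₃ : ℤ), iv c₃ z)) (a₄ := (B.σ c₄ * (deg c₄ : ℤ), iv c₄ z))
    (List.contains_iff_mem.mp hkt) hd (hval _ (by simp)) (hval _ (by simp)) (hval _ (by simp))
    (hval _ (by simp)) ?_ ?_ ?_ ⟨m, ?_⟩
  · simp only []; linarith
  · simp only []; linarith
  · rcases hcase with ⟨χ, h1, h1', h3, h4⟩ | ⟨x, h1, h2, -⟩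
    · right
      have hχ := hcs.symm.subset h1
      refine ⟨(B.σ χ * (deg χ : ℤ), iv χ z), ?_, h4, ?_⟩
      · simp only [List.mem_cons, List.not_mem_nil, or_false] at hχ ⊢
        rcases hχ with rfl | rfl | rfl | rfl <;> simp
      · rw [(B.sgn_eq h1).1]
        have := B'.dvd_sub (by norm_num) hz hzC h1'
        rcases B.σ_unit h1 with a | a <;> rcases B'.σ_unit h1' with b | b <;> rw [a, b] at h3 <;>
          rw [b] at this <;> rw [a] <;> omega
    · left
      rw [hlq.count_eq] at h1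
      simp only [List.map_cons, List.map_nil] at h1
      simp only [dup5, List.any_eq_true, Bool.and_eq_true, decide_eq_true_eq]
      exact ⟨x, List.count_pos_iff.mp (by omega), h2, h1⟩
  · rw [htf] at hm
    rw [hcz] at hm
    simpa using hm

end CfsgLib.M24Order
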