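import Cfsg.Agent.Lib.OrderBlocks.Values

/-!
# Renumbering the members of a principal block
-/

set_option autoImplicit false
set_option linter.unusedSectionVars false
set_option linter.style.haveILetI false

namespace CfsgLib.M24Order

open Cfsg
open scoped ComplexConjugate CfsgLib.Char
open CfsgLib CfsgLib.BrauerTuan CfsgLib.OrderBlocks
open scoped _root_.Classical

universe u

variable {G : Type u} [Group G] [Fintype G] [IsSimpleGroup G] {n Bd p : ℕ} [Fact p.Prime] {qs : List ℕ}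



/-- The block with its rational members numbered by another order of the signed degrees. -/
theorem exists_reorder {p' k e : ℕ} {xs q : List ℤ} {y : Option ℤ} (B : PBlk G n qs Bd p ⟨p', k, e, xs, y⟩)
    (h : q.Perm xs) : ∃ B' : PBlk G n qs Bd p ⟨p', k, e, q, y⟩, B'.T = B.T ∧ (∀ χ, χ ∈ B'.xl ↔ χ ∈ B.xl) ∧
      B'.yl = B.yl ∧ ∀ χ ∈ B.xl, B'.σ χ = B.σ χ := by
  have hxs : xs = B.xl.map fun χ => B.σ χ * (deg χ : ℤ) := B.xs_eq
  obtain ⟨xl, hxl, hmap⟩ := exists_perm_map (fun χ : IrrCharacter G => B.σ χ * (deg χ : ℤ)) q B.xl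
    (h.trans (List.Perm.of_eq hxs))
  obtain ⟨σ, h1, h2, h3, h4, h5⟩ := B.xs_map
  have hσ : ∀ χ ∈ B.xl, σ χ = B.σ χ := fun χ hχ => by
    have e := (List.map_inj_left.mp (h2.symm.trans B.xs_eq)) χ hχ
    exact mul_right_cancel₀ (by have := deg_pos χ; omega) e
  have key : ∀ B' : PBlk G n qs Bd p ⟨p', k, e, q, y⟩, B'.xl = xl → ∀ χ ∈ B.xl, B'.σ χ = B.σ χ :=
    fun B' hB' χ hχ => by
      have e := B'.xs_eq
      rw [hB'] at e
      refine mul_right_cancel₀ (show ((deg χ : ℕ) : ℤ) ≠ 0 by have := deg_pos χ; omega) ?_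
      exact List.map_inj_left.mp (e.symm.trans hmap.symm) χ (hxl.symm.subset hχ)
  have hsum : ∀ f : IrrCharacter G → ℂ, (xl.map fun χ : IrrCharacter G => (σ χ : ℂ) * f χ).sum =
      (B.xl.map fun χ : IrrCharacter G => (σ χ : ℂ) * f χ).sum := fun f => (hxl.map _).sum_eq
  refine ⟨⟨B.T, B.p_eq, B.e_eq, xl, B.yl, ?_, ?_, ⟨σ, fun χ hχ => h1 χ (hxl.subset hχ), ?_,
    fun χ hχ => h3 χ (hxl.subset hχ), fun hy g hg => ?_, fun y' hy ψ hψ g hg => ?_⟩, B.yl_none, B.yl_some, ?_,
    fun χ hχ => B.not_dvd χ ((hxl.append_right _).subset hχ), fun χ hχ => ?_, B.sec_y⟩,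
    rfl, fun χ => hxl.mem_iff, rfl, key _ rfl⟩
  · exact ((hxl.append_right _).cons _).nodup_iff.mpr B.nodup
  · intro χ hχ
    obtain ⟨x, hx, hd⟩ := B.xs_sgn χ (hxl.subset hχ)
    exact ⟨x, h.symm.subset hx, hd⟩
  · exact hmap.symm.trans (List.map_congr_left fun χ hχ => by rw [hσ χ (hxl.subset hχ)])
  · rw [hsum fun χ : IrrCharacter G => (χ : G → ℂ) g]
    exact h4 hy g hg
  · rw [hsum fun χ : IrrCharacter G => (χ : G → ℂ) g]
    exact h5 y' hy ψ hψ g hg
  · simp only [Opt.degs, List.map_append]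
    refine congrArg₂ (· ++ ·) ?_ ?_
    · rw [← hmap, List.map_map]
      exact List.map_congr_left fun χ hχ => ((B.sgn_eq (hxl.subset hχ)).2).symm
    · have h' := B.degs_eq
      simp only [Opt.degs, List.map_append] at h'
      refine (List.append_inj h' ?_).2
      rw [List.length_map, List.length_map]
      exact ((congrArg List.length hxs).trans (List.length_map _)).symm
  · exact ((hxl.append_right _).cons _).mem_iff.mpr (B.cover χ hχ)

end CfsgLib.M24Order
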