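import Cfsg.Agent.Lib.M24Order.Char11
import Cfsg.Agent.Lib.M24Order.Reorder
import Cfsg.Agent.Lib.M24Order.Keys57Defs

/-!
# Simple groups of order 244823040: an involution with `5` in its centraliser, values for the prime 5
-/

set_option autoImplicit false
set_option linter.unusedSectionVars false
set_option linter.style.haveILetI false
set_option maxHeartbeats 1000000

namespace CfsgLib.M24Order

open Cfsg
open scoped ComplexConjugate CfsgLib.Char
open CfsgLib CfsgLib.BrauerTuan CfsgLib.OrderBlocks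
open scoped _root_.Classical

universe u

/-- Values fitting a list of four contradict the check. -/
theorem false_of_noVals57 {ks : List ℕ} {C k : ℕ} {a₁ a₂ a₃ a₄ : ℤ × ℤ} (hk : k ∈ ks)
    (h : noVals57 ks C [a₁.1, a₂.1, a₃.1, a₄.1] = true) (v₁ : ValOK 5 C a₁) (v₂ : ValOK 5 C a₂)
    (v₃ : ValOK 5 C a₃) (v₄ : ValOK 5 C a₄)
    (hrel : 1 + sgn a₁.1 * a₁.2 + sgn a₂.1 * a₂.2 + sgn a₃.1 * a₃.2 + sgn a₄.1 * a₄.2 = 0)
    (hQ : 1 + a₁.2 * a₁.2 + a₂.2 * a₂.2 + a₃.2 * a₃.2 + a₄.2 * a₄.2 ≤ (C : ℤ))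
    (hsq : ∃ m : ℕ, ((244823040 * k * 5 : ℕ) : ℤ) * (fracSum [a₁.1, a₂.1, a₃.1, a₄.1] [a₁.2, a₂.2, a₃.2, a₄.2]).1 =
      ((m * m : ℕ) : ℤ) * ((C : ℤ) * (C : ℤ)) * (fracSum [a₁.1, a₂.1, a₃.1, a₄.1] [a₁.2, a₂.2, a₃.2, a₄.2]).2) :
    False := by
  have e4 : -sgn a₄.1 * (1 + sgn a₁.1 * a₁.2 + sgn a₂.1 * a₂.2 + sgn a₃.1 * a₃.2) = a₄.2 := by
    linear_combination (-sgn a₄.1) * hrel + a₄.2 * (sgn_mul_self a₄.1).1
  have m₁ := mem_opts5 v₁.cong v₁.four v₁.lt v₁.le_lim (Int.dvd_of_emod_eq_zero v₁.omega)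
  have m₂ := mem_opts5 v₂.cong v₂.four v₂.lt v₂.le_lim (Int.dvd_of_emod_eq_zero v₂.omega)
  have m₃ := mem_opts5 v₃.cong v₃.four v₃.lt v₃.le_lim (Int.dvd_of_emod_eq_zero v₃.omega)
  simp only [noVals57, forceN_eq, forceI_eq, forceL_eq, isEmpty_false_of_mem m₁, isEmpty_false_of_mem m₂,
    Bool.false_or, List.all_eq_true] at h
  have h' := h _ m₁ _ m₂ _ m₃
  rw [e4] at h'
  have hval : val5 C a₄.1 a₄.2 = true := by
    simp only [val5, Bool.and_eq_true, decide_eq_true_eq]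
    exact ⟨⟨⟨⟨v₄.cong, v₄.four⟩, v₄.lt⟩, v₄.sq⟩, v₄.omega⟩
  simp only [hval, Bool.not_true, Bool.false_or, Bool.or_eq_true, decide_eq_true_eq, Bool.not_eq_true',
    List.all_eq_true] at h'
  rcases h' with h' | h'
  · omega
  · obtain ⟨r, hr⟩ : ∃ r, r = fracSum [a₁.1, a₂.1, a₃.1, a₄.1] [a₁.2, a₂.2, a₃.2, a₄.2] := ⟨_, rfl⟩
    obtain ⟨m, hm⟩ := hsq
    have h2 := h' k hk
    rw [← hr] at h2 hm
    have hv : ((244823040 * k * 5 : ℕ) : ℤ) * r.1 * r.2 = ((m : ℤ) * C * r.2) * ((m : ℤ) * C * r.2) := by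
      rw [hm]; push_cast; ring
    rw [hv] at h2
    rcases h2 with (h2 | h2) | h2
    · exact absurd (mul_self_nonneg _) (not_le.mpr h2)
    · exact h2 (Int.emod_eq_zero_of_dvd ⟨(m : ℤ) * m, by ring⟩)
    · rw [Int.natAbs_mul, isSq_of_sq] at h2
      exact Bool.noConfusion h2

variable {G : Type u} [Group G] [Fintype G] [IsSimpleGroup G] [Fact (Nat.Prime 11)]

/-- An element of order `10` in `N(P₁₁)` gives an involution commuting with an element of order `5`. -/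
theorem exists_invol_five (T : Ctx G 11 1) (he : T.D.e = 10) : ∃ z : G, orderOf z = 2 ∧ 5 ∣ cC z := by
  haveI : Fact (Nat.Prime 2) := ⟨Nat.prime_two⟩
  haveI : Fact (Nat.Prime 5) := ⟨Nat.prime_five⟩
  haveI : IsCyclic (T.P : Subgroup G) := isCyclic_of_prime_card T.card_P
  obtain ⟨N, hN⟩ : ∃ N, N = Subgroup.normalizer ((T.P : Subgroup G) : Set G) := ⟨_, rfl⟩
  have hcard : Nat.card N = 110 := by rw [hN, card_normalizer T, he]
  obtain ⟨t, ht⟩ := exists_prime_orderOf_dvd_card' (G := N) 2 (by rw [hcard]; norm_num)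
  obtain ⟨f, hf⟩ := exists_prime_orderOf_dvd_card' (G := N) 5 (by rw [hcard]; norm_num)
  subst hN
  obtain ⟨φ, hφ⟩ : ∃ φ, φ = Subgroup.normalizerMonoidHom (T.P : Subgroup G) := ⟨_, rfl⟩
  have hker : Nat.card φ.ker = 11 := by
    rw [hφ, Subgroup.normalizerMonoidHom_ker,
      Nat.card_congr (Subgroup.subgroupOfEquivOfLe (Subgroup.centralizer_le_normalizer _)).toEquiv, T.card_C]
  have hord : ∀ (a : Subgroup.normalizer ((T.P : Subgroup G) : Set G)) (r : ℕ), r.Prime → orderOf a = r →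
      r ≠ 11 → orderOf (φ a) = r := by
    intro a r hr ha hr11
    refine ((Nat.dvd_prime hr).mp (ha ▸ orderOf_map_dvd φ a)).resolve_left fun h => hr11 ?_
    have hmem : a ∈ φ.ker := orderOf_eq_one_iff.mp h
    have h' : r ∣ 11 := hker ▸ ha ▸ Subgroup.orderOf_dvd_natCard _ hmem
    exact (Nat.prime_dvd_prime_iff_eq hr (by norm_num)).mp h'
  have hcomm : Commute (φ t) (φ f) :=
    (IsCyclic.mulAutMulEquiv (T.P : Subgroup G)).injective (by rw [map_mul, map_mul]; exact mul_comm _ _)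
  have h10 : 10 ∣ orderOf (t * f) := by
    refine Dvd.dvd.trans ?_ (orderOf_map_dvd φ (t * f))
    rw [map_mul, hcomm.orderOf_mul_eq_mul_orderOf_of_coprime (by
      rw [hord t 2 Nat.prime_two ht (by norm_num), hord f 5 Nat.prime_five hf (by norm_num)]; norm_num),
      hord t 2 Nat.prime_two ht (by norm_num), hord f 5 Nat.prime_five hf (by norm_num)]
  obtain ⟨g, hg⟩ : ∃ g : G, g = ((t * f : Subgroup.normalizer ((T.P : Subgroup G) : Set G)) : G) := ⟨_, rfl⟩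
  rw [← Subgroup.orderOf_coe, ← hg] at h10
  have hg0 : orderOf g ≠ 0 := (orderOf_pos g).ne'
  refine ⟨g ^ (orderOf g / 2), orderOf_pow_orderOf_div hg0 ((by norm_num : 2 ∣ 10).trans h10), ?_⟩
  rw [cC, ← orderOf_pow_orderOf_div hg0 ((by norm_num : 5 ∣ 10).trans h10)]
  exact Subgroup.orderOf_dvd_natCard _
    (Subgroup.mem_centralizer_singleton_iff.mpr (Commute.pow_pow_self g _ _).eq)

variable [Fact (Nat.Prime 23)]

theorem mem_cents10 (hn : Nat.card G = 244823040) (T23 : Ctx G 23 1) (T11 : Ctx G 11 1) {z : G}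
    (hz : orderOf z = 2) (h5 : 5 ∣ cC z) : cC z ∈ cents10 := by
  have h2 : 2 ∣ cC z := by
    rw [cC, ← hz]
    exact Subgroup.orderOf_dvd_natCard _ (Subgroup.mem_centralizer_singleton_iff.mpr rfl)
  have hno : ∀ {r : ℕ} [Fact r.Prime], Ctx G r 1 → r ≠ 2 → ¬ r ∣ cC z := by
    intro r hr T hr2 h
    obtain ⟨w, hw⟩ := exists_prime_orderOf_dvd_card' (G := Subgroup.centralizer ({z} : Set G)) r h
    have hzC : z ∈ Subgroup.centralizer ({(w : G)} : Set G) :=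
      Subgroup.mem_centralizer_singleton_iff.mpr (Subgroup.mem_centralizer_singleton_iff.mp w.2).symm
    have h' := Subgroup.orderOf_dvd_natCard _ hzC
    rw [hz, show Nat.card (Subgroup.centralizer ({(w : G)} : Set G)) = r * 1 from
      cC_of_ctx T (by rw [Subgroup.orderOf_coe]; exact hw), mul_one] at h'
    exact hr2 ((Nat.prime_dvd_prime_iff_eq Nat.prime_two hr.out).mp h').symm
  obtain ⟨q, hq⟩ : 10 ∣ cC z :=
    Nat.Coprime.mul_dvd_of_dvd_of_dvd (by norm_num : Nat.Coprime 2 5) h2 h5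
  simp only [cents10, List.mem_map]
  refine ⟨q, mem_divs _ (by norm_num) q ?_, hq.symm⟩
  have h := cC_dvd hn z
  rw [hq, show 244823040 = 10 * (253 * 96768) by norm_num] at h
  have h' := Nat.dvd_of_mul_dvd_mul_left (by norm_num) h
  have hco : ∀ r : ℕ, r.Prime → ¬ r ∣ cC z → Nat.Coprime q r := fun r hr hd =>
    ((Nat.Prime.coprime_iff_not_dvd hr).mpr fun h => hd (hq ▸ h.mul_left 10)).symm
  have hco' : Nat.Coprime q 253 :=
    Nat.Coprime.mul_right (hco 11 (by norm_num) (hno T11 (by norm_num))) (hco 23 (by norm_num) (hno T23 (by norm_num)))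
  norm_num
  exact hco'.dvd_of_dvd_mul_left h'

/-- A list with no values at an involution is not the list of the block for `5`. -/
theorem false_of_dead57 [Fact (Nat.Prime 5)] (T23 : Ctx G 23 1) (T11 : Ctx G 11 1) (he11 : T11.D.e = 10)
    {k : ℕ} {ks : List ℕ} {q : List ℤ} (B : Blk G 5 ⟨5, k, 4, q, none⟩) (hq : q.length = 4)
    (hsmall : ∀ x ∈ q, x.natAbs ≤ 15646) (hk : k ∈ ks) (hd : dead57 (ks, q) = true) : False := by
  have hn := B.card_eq
  obtain ⟨z, hz, h5⟩ := exists_invol_five T11 he11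
  have hkill := List.all_eq_true.mp hd (cC z) (mem_cents10 hn T23 T11 hz h5)
  obtain ⟨-, z', hz', hzC', hcz, hiv⟩ := exists_five B.T hz h5
  have hqs : q = B.xl.map fun χ => B.σ χ * (deg χ : ℤ) := B.xs_eq
  obtain ⟨c₁, c₂, c₃, c₄, hc⟩ : ∃ a b d e, B.xl = [a, b, d, e] := by
    have h : B.xl.length = 4 := ((congrArg List.length hqs).trans (List.length_map _)).symm.trans hq
    match B.xl, h with
    | [a, b, d, e], _ => exact ⟨a, b, d, e, rfl⟩
  have hq' : q = [B.σ c₁ * (deg c₁ : ℤ), B.σ c₂ * (deg c₂ : ℤ), B.σ c₃ * (deg c₃ : ℤ), B.σ c₄ * (deg c₄ : ℤ)] :=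
    hqs.trans ((congrArg (List.map fun χ : IrrCharacter G => B.σ χ * (deg χ : ℤ)) hc).trans rfl)
  have hkill' : noVals57 ks (cC z)
      [B.σ c₁ * (deg c₁ : ℤ), B.σ c₂ * (deg c₂ : ℤ), B.σ c₃ * (deg c₃ : ℤ), B.σ c₄ * (deg c₄ : ℤ)] = true :=
    (congrArg (fun l => noVals57 ks (cC z) l = true) hq').mp hkill
  have mem : ∀ χ, χ ∈ [c₁, c₂, c₃, c₄] → χ ∈ B.xl := fun χ h => hc ▸ h
  have hzz' := mul_self_of_order_two hz'
  have hval : ∀ χ ∈ [c₁, c₂, c₃, c₄], ValOK 5 (cC z) (B.σ χ * (deg χ : ℤ), iv χ z') := fun χ h => by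
    have hχ := mem χ h
    obtain ⟨f1, f2, f3, f4⟩ := iv_facts hn B.T.noncomm (B.ne_triv (List.mem_append_left _ hχ)) hz'
    obtain ⟨hs1, hs2⟩ := B.sgn_eq hχ
    refine ⟨?_, by rw [hs2]; exact f2, by rw [hs2]; exact f4, hsmall _ ?_, hcz ▸ f1,
      by rw [hs2, ← hcz]; exact f3⟩
    · rw [hs1]
      exact Int.emod_eq_zero_of_dvd (B.dvd_sub (by norm_num) hz' hzC' hχ)
    · exact (congrArg (fun l : List ℤ => B.σ χ * (deg χ : ℤ) ∈ l) hqs).mpr (List.mem_map.mpr ⟨χ, hχ, rfl⟩)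
  obtain ⟨v, hv, hv1⟩ := M12Order.exists_ne_one_P B.T
  obtain ⟨r1, -⟩ := B.rel_iv (g := z') (by rw [hz']; norm_num) fun φ _ => iv_spec φ hzz'
  have hrel0 := r1 rfl
  change sigSum q _ = 0 at hrel0
  rw [congrArg (fun l => sigSum l (B.xl.map (iv · z'))) hqs, sigSum_map, hc] at hrel0
  have hsq := sum_sq_le (l := Blocks.trivIrr G :: B.xl) (g := z')
    (by have h := B.nodup; rw [B.yl_none rfl, List.append_nil] at h; exact h) fun χ _ => iv_spec χ hzz'
  rw [List.map_cons, List.sum_cons, iv_triv, hc, hcz] at hsq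
  simp only [List.map_cons, List.map_nil, List.sum_cons, List.sum_nil, add_zero] at hsq hrel0
  obtain ⟨m, -, hm⟩ := count_square B (by norm_num) hzz' hv hv1 (fun φ => iv φ z') 0
    (fun φ _ => iv_spec φ hzz') (fun ψ hψ => by rw [B.yl_none rfl] at hψ; simp at hψ)
  have htf : tFrac ⟨5, k, 4, q, none⟩ (B.xl.map fun φ => iv φ z') 0 =
      fracSum [B.σ c₁ * (deg c₁ : ℤ), B.σ c₂ * (deg c₂ : ℤ), B.σ c₃ * (deg c₃ : ℤ), B.σ c₄ * (deg c₄ : ℤ)]
        [iv c₁ z', iv c₂ z', iv c₃ z', iv c₄ z'] := by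
    show fracSum q _ = _
    exact congrArg₂ fracSum hq' (congrArg (List.map fun φ : IrrCharacter G => iv φ z') hc)
  refine false_of_noVals57 (a₁ := (B.σ c₁ * (deg c₁ : ℤ), iv c₁ z')) (a₂ := (B.σ c₂ * (deg c₂ : ℤ), iv c₂ z'))
    (a₃ := (B.σ c₃ * (deg c₃ : ℤ), iv c₃ z')) (a₄ := (B.σ c₄ * (deg c₄ : ℤ), iv c₄ z'))
    hk hkill' (hval _ (by simp)) (hval _ (by simp)) (hval _ (by simp)) (hval _ (by simp)) ?_ ?_ ⟨m, ?_⟩
  · simp only []; linarith
  · simp only []; linarith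
  · rw [htf, hcz] at hm
    simpa using hm

end CfsgLib.M24Order
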