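import Cfsg.Agent.Lib.M24Order.Core
import Cfsg.Agent.Lib.M23Order.Sixteen
import Cfsg.Agent.Lib.M23Order.Points
import Cfsg.Agent.Lib.M23Order.Vector
import Cfsg.Agent.Lib.SmallOrder.PrimeDegree
import Cfsg.Agent.Lib.Char.PrimeSection
import Cfsg.Agent.Lib.Char.Galois

/-!
# Simple groups of order 244823040: a subgroup of index 24

The vector fixed by a subgroup `23:11` is fixed by a subgroup `11:5` as well, and the congruences
of Sylow then leave only index 24 for its stabiliser.
-/

set_option autoImplicit false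
set_option linter.unusedSectionVars false
set_option linter.style.haveILetI false

namespace CfsgLib.M24Order

open Cfsg CfsgLib
open scoped Pointwise
open CfsgLib.M23Order (cen norZ mem_cen norm_conj mem_norm card_norm_prime card_conj_range sum_char_fixed
  smul_mk_eq order_conj ne_one_of_order)

universe u

variable {G : Type u} [Group G] [Finite G]

theorem exists_order_in {p : ℕ} (hp : p.Prime) {K : Subgroup G} (h : p ∣ Nat.card K) :
    ∃ g ∈ K, orderOf g = p := by
  haveI := Fact.mk hp
  obtain ⟨g, hg⟩ := exists_prime_orderOf_dvd_card' (G := K) p h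
  exact ⟨g, g.2, by rw [Subgroup.orderOf_coe]; exact hg⟩

/-- In a group of order `p * q`, `q < p`, without elements of that order, there are `p - 1` elements
of order `p` and `p * (q - 1)` of order `q`. -/
theorem sum_two_primes {K : Type*} [Group K] [Fintype K] {p q : ℕ} (hp : p.Prime) (hq : q.Prime) (hqp : q < p)
    (hK : Nat.card K = p * q) (hno : ∀ k : K, orderOf k ≠ p * q) (f : K → ℂ) (a b : ℂ) (h1 : f 1 = 23)
    (hpv : ∀ k, orderOf k = p → f k = a) (hqv : ∀ k, orderOf k = q → f k = b) :
    ∑ k, f k = 23 + ((p - 1 : ℕ) : ℂ) * a + ((p * (q - 1) : ℕ) : ℂ) * b := by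
  classical
  haveI := Fact.mk hp
  have hP : ∀ P : Sylow p K, Nat.card (P : Subgroup K) = p := fun P => by
    rw [P.card_eq_multiplicity, hK, Nat.factorization_mul hp.ne_zero hq.ne_zero, Finsupp.add_apply,
      hp.factorization_self, Nat.factorization_eq_zero_of_not_dvd fun h =>
        absurd (Nat.le_of_dvd hq.pos h) (by omega), pow_one]
  have hn1 : Nat.card (Sylow p K) = 1 := by
    obtain ⟨P⟩ := (inferInstance : Nonempty (Sylow p K))
    have hm : Nat.card (Sylow p K) % p = 1 := by
      have h := card_sylow_modEq_one p K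
      rwa [Nat.ModEq, Nat.mod_eq_of_lt hp.one_lt] at h
    have hdv : Nat.card (Sylow p K) ∣ q := by
      have h := P.card_dvd_index
      have h' := (P : Subgroup K).index_mul_card
      rw [hP P, hK, mul_comm p q] at h'
      rwa [Nat.eq_of_mul_eq_mul_right hp.pos h'] at h
    rcases (Nat.dvd_prime hq).mp hdv with h | h
    · exact h
    · rw [h, Nat.mod_eq_of_lt hqp] at hm
      exact absurd hm hq.one_lt.ne'
  have hcnt : (Finset.univ.filter fun k : K => orderOf k = p).card = p - 1 := by
    rw [← Fintype.card_subtype, ← Nat.card_eq_fintype_card, SmallOrder.card_orderOf_eq_prime hP, hn1, one_mul]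
  have hcases : ∀ k : K, k ≠ 1 → orderOf k ≠ p → orderOf k = q := by
    intro k hk hkp
    obtain ⟨y, z, hy, hz, e⟩ := exists_dvd_and_dvd_of_dvd_mul (hK ▸ orderOf_dvd_natCard k)
    have hno' := hno k
    have hk' : orderOf k ≠ 1 := orderOf_eq_one_iff.not.mpr hk
    rcases (Nat.dvd_prime hp).mp hy with rfl | rfl <;> rcases (Nat.dvd_prime hq).mp hz with rfl | rfl <;>
      simp_all
  have e : ∀ k : K, f k = (if k = 1 then 23 - b else 0) + (if orderOf k = p then a - b else 0) + b := by
    intro k
    by_cases hk : k = 1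
    · subst hk
      rw [h1, if_pos rfl, orderOf_one, if_neg hp.ne_one.symm]; ring
    · by_cases hkp : orderOf k = p
      · rw [hpv k hkp, if_neg hk, if_pos hkp]; ring
      · rw [hqv k (hcases k hk hkp), if_neg hk, if_neg hkp]; ring
  rw [Finset.sum_congr rfl fun k _ => e k, Finset.sum_add_distrib, Finset.sum_add_distrib,
    Finset.sum_ite_eq' Finset.univ (1 : K), if_pos (Finset.mem_univ _), ← Finset.sum_filter, Finset.sum_const,
    Finset.sum_const, hcnt, Finset.card_univ, ← Nat.card_eq_fintype_card, hK, nsmul_eq_mul, nsmul_eq_mul]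
  obtain ⟨q', rfl⟩ := Nat.exists_eq_add_of_le' hq.pos
  obtain ⟨p', rfl⟩ := Nat.exists_eq_add_of_le' hp.pos
  simp only [Nat.add_sub_cancel]
  push_cast
  ring

set_option synthInstance.maxSize 1024 in
theorem index_candidates : ∀ i < 11, ∀ j < 4, ∀ k < 2, ∀ l < 2, ∀ d ∈ [5, 10],
    (2 ^ i * 3 ^ j * 5 ^ k * 7 ^ l) % 23 = 1 → 5 ∣ 2 ^ i * 3 ^ j * 5 ^ k * 7 ^ l →
    23 * (2 ^ i * 3 ^ j * 5 ^ k * 7 ^ l) % d = 0 → 23 * (2 ^ i * 3 ^ j * 5 ^ k * 7 ^ l) / d % 11 = 1 →
    2 ^ i * 3 ^ j * 5 ^ k * 7 ^ l = 40320 ∨ 2 ^ i * 3 ^ j * 5 ^ k * 7 ^ l = 967680 := by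
  decide +kernel

variable (F : Core G)
include F

/-- The dimension of the fixed space of a subgroup, read off from the sum of the character. -/
theorem finrank_fixed {χ : IrrCharacter G} {n : ℕ} {ρ : Representation ℂ G (Fin n → ℂ)}
    (hρ : ρ.character = (χ : G → ℂ)) (K : Subgroup G) [Fintype K] {c : ℕ} (hc : Nat.card K = c) :
    (∑ x : K, (χ : G → ℂ) x) = (c : ℂ) * (Module.finrank ℂ (Representation.invariants (ρ.comp K.subtype)) : ℂ) := by
  rw [← hc, ← sum_char_fixed]
  exact Finset.sum_congr rfl fun x _ => by rw [← hρ]; rfl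

/-- A subgroup of index 24. -/
theorem exists_index [IsSimpleGroup G] : ∃ M : Subgroup G, M.index = 24 := by
  classical
  letI : Fintype G := Fintype.ofFinite G
  obtain ⟨χ, h1, h11, hv5⟩ := F.exists_char
  obtain ⟨n, ρ, hirr, hρ⟩ := χ.2
  have hn : n = 23 := by
    have h : (n : ℂ) = 23 := by
      rw [← h1, ← hρ, Representation.char_one, Module.finrank_fin_fun]
    exact_mod_cast h
  obtain ⟨v, -, hvo⟩ := exists_order_in (by norm_num : Nat.Prime 23) (K := (⊤ : Subgroup G))
    (by rw [Subgroup.card_top, F.card]; norm_num)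
  set H := norZ v with hH
  have hHc : Nat.card H = 253 := F.nor_twentythree v hvo
  have hvH : v ∈ H := Subgroup.le_normalizer (Subgroup.mem_zpowers v)
  obtain ⟨r, hrH, hro⟩ := exists_order_in (by norm_num : Nat.Prime 11) (K := H) (by rw [hHc]; norm_num)
  obtain ⟨y, hyN, hyo⟩ := exists_order_in (by norm_num : Nat.Prime 5) (K := norZ r)
    (by rw [show Nat.card (norZ r) = 110 from F.nor_eleven r hro]; norm_num)
  set R := Subgroup.zpowers r with hR
  set P := R ⊔ Subgroup.zpowers y with hP
  have hRc : Nat.card R = 11 := by rw [hR, Nat.card_zpowers, hro]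
  have hPc : Nat.card P = 55 := by
    refine le_antisymm ?_ (Nat.le_of_dvd Nat.card_pos ((show Nat.Coprime 11 5 by norm_num).mul_dvd_of_dvd_of_dvd
      (hRc ▸ Subgroup.card_dvd_of_le le_sup_left)
      (by rw [← hyo, ← Nat.card_zpowers]; exact Subgroup.card_dvd_of_le le_sup_right)))
    have hcoe : (P : Set G) = (R : Set G) * (Subgroup.zpowers y : Set G) :=
      Subgroup.coe_mul_of_right_le_normalizer_left _ _ (Subgroup.zpowers_le.mpr hyN)
    have hsur : Function.Surjective fun a : R × Subgroup.zpowers y =>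
        (⟨(a.1 : G) * a.2, mul_mem (Subgroup.mem_sup_left a.1.2) (Subgroup.mem_sup_right a.2.2)⟩ : P) := by
      rintro ⟨g, hg⟩
      have hg' : g ∈ (R : Set G) * (Subgroup.zpowers y : Set G) := hcoe ▸ hg
      obtain ⟨a, ha, b, hb, rfl⟩ := hg'
      exact ⟨(⟨a, ha⟩, ⟨b, hb⟩), rfl⟩
    have := Nat.card_le_card_of_surjective _ hsur
    rw [Nat.card_prod, hRc, Nat.card_zpowers, hyo] at this
    exact this
  letI : Fintype H := Fintype.ofFinite H
  letI : Fintype R := Fintype.ofFinite R
  letI : Fintype P := Fintype.ofFinite P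
  -- sums over the three subgroups
  have hsR : ∑ g : R, (χ : G → ℂ) g = ((33 : ℕ) : ℂ) := by
    rw [← Finset.add_sum_erase _ _ (Finset.mem_univ (1 : R)), Subgroup.coe_one, h1,
      Finset.sum_congr rfl fun (g : R) hg => h11 g (orderOf_eq_prime (p := 11) (hp := ⟨by norm_num⟩)
        (M23Order.pow_card_of_mem hRc g.2) fun e => Finset.ne_of_mem_erase hg (Subtype.ext e)),
      Finset.sum_const, Finset.card_erase_of_mem (Finset.mem_univ _), Finset.card_univ,
      ← Nat.card_eq_fintype_card, hRc]
    norm_num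
  -- the value at the elements of order five
  obtain ⟨k5, hk5⟩ := hv5 y hyo
  have h5 : ∀ g : G, orderOf g = 5 → (χ : G → ℂ) g = k5 := by
    intro g hg
    haveI : Fact (Nat.Prime 5) := ⟨by norm_num⟩
    have hfac : (Nat.card G).factorization 5 = 1 := by
      rw [F.card, show (244823040 : ℕ) = 5 ^ 1 * 48964608 by norm_num,
        Nat.factorization_mul (by norm_num) (by norm_num), Finsupp.add_apply, Nat.factorization_pow,
        Finsupp.smul_apply, Nat.Prime.factorization_self (by norm_num),
        Nat.factorization_eq_zero_of_not_dvd (show ¬ 5 ∣ 48964608 by norm_num)]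
      rfl
    obtain ⟨c, ⟨i, hi⟩, hi1, rfl⟩ := Char.PrimeSection.exists_conj_zpowers hfac hyo hg
    rw [← hρ, Representation.char_conj, hρ]
    obtain ⟨j, hj, hji⟩ := Finset.mem_image.mp (mem_zpowers_iff_mem_range_orderOf.mp hi)
    rw [hyo, Finset.mem_range] at hj
    obtain rfl : y ^ j = i := hji
    have hrat := (Char.rat_value_iff (Char.isCharacter_of_isIrr χ.2) y).mp ⟨(k5 : ℚ), by rw [hk5]; simp⟩
    have hmod : ∀ k : ℕ, k.Coprime 244823040 → k % 5 = j → (χ : G → ℂ) (y ^ j) = k5 := by
      intro k hk hkj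
      rw [← hk5, ← hrat k (by rw [F.card]; exact hk), ← hkj]
      conv_rhs => rw [← pow_mod_orderOf, hyo]
    interval_cases j
    · exact absurd (Subtype.ext (pow_zero y)) hi1
    · exact hmod 1 (by norm_num) rfl
    · exact hmod 17 (by norm_num) rfl
    · exact hmod 13 (by norm_num) rfl
    · exact hmod 19 (by norm_num) rfl
  have hsP : ∑ g : P, (χ : G → ℂ) g = 33 + 44 * (k5 : ℂ) := by
    rw [sum_two_primes (p := 11) (q := 5) (by norm_num) (by norm_num) (by norm_num) (by rw [hPc])
      (fun k hk => ?_) (fun g : P => (χ : G → ℂ) g) 1 k5 (by rw [Subgroup.coe_one, h1])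
      (fun k hk => h11 k (by rw [Subgroup.orderOf_coe, hk]))
      (fun k hk => h5 k (by rw [Subgroup.orderOf_coe, hk]))]
    · norm_num
    · have h5 : orderOf ((k : G) ^ 5) = 11 := by
        rw [← Subgroup.coe_pow, Subgroup.orderOf_coe, orderOf_pow, hk]; norm_num
      have := Subgroup.orderOf_dvd_natCard (cen ((k : G) ^ 5)) (mem_cen.mpr (Commute.self_pow (k : G) 5).eq)
      rw [show Nat.card (cen ((k : G) ^ 5)) = 11 from F.cen_eleven _ h5, Subgroup.orderOf_coe, hk] at this
      norm_num at this
  have dR := finrank_fixed F hρ R hRc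
  have dP := finrank_fixed F hρ P hPc
  rw [hsR, ← Nat.cast_mul, Nat.cast_inj] at dR
  rw [hsP] at dP
  -- the normaliser of the element of order 23 fixes a vector
  have hsub : ∀ {K L : Subgroup G}, K ≤ L →
      Representation.invariants (ρ.comp L.subtype) ≤ Representation.invariants (ρ.comp K.subtype) :=
    fun {K L} hKL w hw => (Representation.mem_invariants _ _).mpr fun j =>
      (Representation.mem_invariants _ _).mp hw ⟨(j : G), hKL j.2⟩
  set Q := Subgroup.zpowers v with hQ
  letI : Fintype Q := Fintype.ofFinite Q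
  have hQc : Nat.card Q = 23 := by rw [hQ, Nat.card_zpowers, hvo]
  have hQH : Q ≤ H := Subgroup.zpowers_le.mpr hvH
  have hHinv : Module.finrank ℂ (Representation.invariants (ρ.comp H.subtype)) ≠ 0 := by
    intro h0
    have dH := finrank_fixed F hρ H hHc
    have dQ := finrank_fixed F hρ Q hQc
    rw [h0, Nat.cast_zero, mul_zero] at dH
    generalize Module.finrank ℂ (Representation.invariants (ρ.comp Q.subtype)) = m at dQ
    have hord : ∀ g : H, (g : G) ∉ Q → orderOf (g : G) = 11 := by
      intro g hg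
      have hd : orderOf (g : G) ∣ 11 * 23 := by
        rw [Subgroup.orderOf_coe]
        exact (orderOf_dvd_natCard g).trans (dvd_of_eq (hHc.trans (by norm_num)))
      have h23 : ∀ a : G, a ∈ H → orderOf a = 23 → a ∈ Q := by
        intro a ha hao
        by_contra haQ
        have hinj : Function.Injective fun p : Q × Subgroup.zpowers a =>
            (⟨(p.1 : G) * p.2, mul_mem (hQH p.1.2) (Subgroup.zpowers_le.mpr ha p.2.2)⟩ : H) := by
          rintro ⟨a1, b1⟩ ⟨a2, b2⟩ e
          have e' : (a1 : G) * b1 = a2 * b2 := congrArg Subtype.val e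
          have hdis : Disjoint Q (Subgroup.zpowers a) := by
            haveI := Fact.mk (show Nat.Prime 23 by norm_num)
            rw [disjoint_iff]
            refine Subgroup.eq_bot_of_card_eq _ ?_
            have hd := Subgroup.card_dvd_of_le (inf_le_right : Q ⊓ Subgroup.zpowers a ≤ _)
            rw [Nat.card_zpowers, hao] at hd
            refine ((Nat.dvd_prime (by norm_num)).mp hd).resolve_right fun h => haQ ?_
            have e : Q ⊓ Subgroup.zpowers a = Subgroup.zpowers a := Subgroup.eq_of_le_of_card_ge inf_le_right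
              (by rw [h, Nat.card_zpowers, hao])
            exact (e.ge (Subgroup.mem_zpowers a)).1
          exact Subgroup.mul_injective_of_disjoint hdis e'
        have := Nat.card_le_card_of_injective _ hinj
        rw [Nat.card_prod, hQc, Nat.card_zpowers, hao, hHc] at this
        norm_num at this
      obtain ⟨a, b, ha, hb', e⟩ := exists_dvd_and_dvd_of_dvd_mul hd
      rcases (Nat.dvd_prime (by norm_num)).mp ha with rfl | rfl <;>
        rcases (Nat.dvd_prime (by norm_num)).mp hb' with rfl | rfl
      · exact absurd (orderOf_eq_one_iff.mp e) fun e1 => hg (e1 ▸ one_mem Q)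
      · exact absurd (h23 g g.2 e) hg
      · exact e
      · exfalso
        have h5 : orderOf ((g : G) ^ 11) = 23 := by rw [orderOf_pow, e]; norm_num
        have := Subgroup.orderOf_dvd_natCard (cen ((g : G) ^ 11)) (mem_cen.mpr (Commute.self_pow (g : G) 11).eq)
        rw [show Nat.card (cen ((g : G) ^ 11)) = 23 from F.cen_twentythree _ h5, e] at this
        norm_num at this
    rw [← Finset.sum_filter_add_sum_filter_not Finset.univ (fun g : H => (g : G) ∈ Q),
      Finset.sum_congr rfl fun (g : H) hg => h11 g (hord g (Finset.mem_filter.mp hg).2), Finset.sum_const] at dH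
    have hfil : ((Finset.univ.filter fun g : H => (g : G) ∈ Q).card) = 23 := by
      rw [← hQc, Nat.card_eq_fintype_card, ← Finset.card_univ]
      exact Finset.card_bij (fun g hg => ⟨g, (Finset.mem_filter.mp hg).2⟩) (fun _ _ => Finset.mem_univ _)
        (fun a _ b _ e => Subtype.ext (congrArg (fun z : Q => (z : G)) e :))
        fun b _ => ⟨⟨b, hQH b.2⟩, Finset.mem_filter.mpr ⟨Finset.mem_univ _, b.2⟩, rfl⟩
    have hcompl : (Finset.univ.filter fun g : H => ¬ (g : G) ∈ Q).card = 230 := by
      have h := Finset.card_filter_add_card_filter_not (s := (Finset.univ : Finset H)) (fun g : H => (g : G) ∈ Q)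
      rw [hfil, Finset.card_univ, ← Nat.card_eq_fintype_card, hHc] at h
      omega
    have hbij : ∑ g ∈ Finset.univ.filter (fun g : H => (g : G) ∈ Q), (χ : G → ℂ) g =
        ∑ g : Q, (χ : G → ℂ) g :=
      Finset.sum_bij (fun g hg => ⟨g, (Finset.mem_filter.mp hg).2⟩) (fun _ _ => Finset.mem_univ _)
        (fun a _ b _ e => Subtype.ext (congrArg (fun z : Q => (z : G)) e :))
        (fun b _ => ⟨⟨b, hQH b.2⟩, Finset.mem_filter.mpr ⟨Finset.mem_univ _, b.2⟩, rfl⟩) fun _ _ => rfl
    rw [hcompl, hbij, dQ] at dH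
    have : ((23 * m + 230 : ℕ) : ℂ) = 0 := by push_cast; simpa using dH
    rw [Nat.cast_eq_zero] at this
    omega
  obtain ⟨w, hw, hw0⟩ := Submodule.exists_mem_ne_zero_of_ne_bot
    (p := Representation.invariants (ρ.comp H.subtype)) fun h => hHinv (by rw [h, finrank_bot])
  have hwP : w ∈ Representation.invariants (ρ.comp P.subtype) := by
    have hle := Submodule.finrank_mono (hsub (K := R) (L := P) le_sup_left)
    have heq := Submodule.eq_of_le_of_finrank_le (hsub (K := R) (L := P) le_sup_left) (by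
      generalize Module.finrank ℂ (Representation.invariants (ρ.comp P.subtype)) = dp at dP hle
      have h' : (33 : ℤ) + 44 * k5 = 55 * (dp : ℤ) := by exact_mod_cast dP
      omega)
    rw [heq]
    exact hsub (Subgroup.zpowers_le.mpr hrH) hw
  let M : Subgroup G :=
    { carrier := {g | ρ g w = w}
      one_mem' := by simp
      mul_mem' := fun {a b} ha hb => by
        show ρ (a * b) w = w
        rw [map_mul, Module.End.mul_apply, show ρ b w = w from hb, show ρ a w = w from ha]
      inv_mem' := fun {a} ha => by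
        show ρ a⁻¹ w = w
        conv_lhs => rw [← show ρ a w = w from ha]
        exact Representation.inv_self_apply ρ a w }
  have hHM : H ≤ M := fun g hg => (Representation.mem_invariants _ _).mp hw ⟨g, hg⟩
  have hPM : P ≤ M := fun g hg => (Representation.mem_invariants _ _).mp hwP ⟨g, hg⟩
  have hspan : ∀ S : Set (Fin n → ℂ), (∀ g, ∀ x ∈ S, ρ g x ∈ Submodule.span ℂ S) → w ∈ Submodule.span ℂ S →
      Submodule.span ℂ S = ⊤ := by
    intro S hS hwS
    let U : Subrepresentation ρ := ⟨Submodule.span ℂ S, fun g x hx => by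
      induction hx using Submodule.span_induction with
      | mem x hx => exact hS g x hx
      | zero => simp
      | add x y _ _ hx hy => rw [map_add]; exact add_mem hx hy
      | smul c x _ hx => rw [map_smul]; exact Submodule.smul_mem _ c hx⟩
    haveI := hirr
    rcases eq_bot_or_eq_top U with h | h
    · have h' : Submodule.span ℂ S = ⊥ := congrArg Subrepresentation.toSubmodule h
      rw [h', Submodule.mem_bot] at hwS
      exact absurd hwS hw0
    · exact congrArg Subrepresentation.toSubmodule h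
  have hMne : M ≠ ⊤ := by
    intro h
    have hs := hspan {w} (fun g x hx => by
      rw [Set.mem_singleton_iff.mp hx]
      rw [show ρ g w = w from (h ▸ Subgroup.mem_top g : g ∈ M)]
      exact Submodule.mem_span_singleton_self w) (Submodule.mem_span_singleton_self w)
    have := finrank_span_singleton (K := ℂ) hw0
    rw [hs, finrank_top, Module.finrank_fin_fun, hn] at this
    omega
  -- the order of the stabiliser
  have h24 : M.index = 24 := by
    have hvM : v ∈ M := hHM hvH
    have hrM : r ∈ M := hHM hrH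
    have hyM : y ∈ M := hPM (Subgroup.mem_sup_right (Subgroup.mem_zpowers y))
    have hdv := Subgroup.card_subgroup_dvd_card M
    rw [F.card] at hdv
    have hsq : ∀ p : ℕ, ¬ p * p ∣ 244823040 → ¬ p * p ∣ Nat.card M := fun p hp h => hp (h.trans hdv)
    obtain ⟨d1, m, -, hm, e1, e2⟩ := card_norm_prime (by norm_num) hvo hvM (hsq 23 (by norm_num))
    have hN253 : Nat.card ↥(M ⊓ norZ v) = 253 := by rw [inf_eq_right.mpr hHM, hHc]
    rw [hN253] at e2
    obtain ⟨d, m', hd, hm', f1, f2⟩ := card_norm_prime (by norm_num) hro hrM (hsq 11 (by norm_num))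
    have hc11 : Nat.card ↥(M ⊓ cen r) = 11 := by
      refine le_antisymm ?_ (Nat.le_of_dvd Nat.card_pos (hro ▸ Subgroup.orderOf_dvd_natCard _
        (Subgroup.mem_inf.mpr ⟨hrM, mem_cen.mpr rfl⟩)))
      exact (Subgroup.card_le_of_le inf_le_right).trans (F.cen_eleven r hro).le
    rw [hc11] at f1
    have h5d : 5 ∣ d := by
      have h := hyo ▸ Subgroup.orderOf_dvd_natCard _ (Subgroup.mem_inf.mpr ⟨hyM, hyN⟩ : y ∈ M ⊓ norZ r)
      rw [f1] at h
      exact (Nat.Coprime.dvd_of_dvd_mul_left (by norm_num) h)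
    have hd510 : d = 5 ∨ d = 10 := by
      have := Nat.le_of_dvd (by norm_num) hd
      have : d ≠ 0 := by rintro rfl; norm_num at hd
      omega
    rw [f1, ← e2] at f2
    rw [← e2] at hdv
    have hm0 : m ∣ 2 ^ 10 * 3 ^ 3 * 5 ^ 1 * 7 ^ 1 :=
      (Nat.mul_dvd_mul_iff_right (by norm_num : 0 < 253)).mp hdv
    have hm5 : 5 ∣ m := by
      have h : 5 ∣ m * 253 := e2 ▸ (hyo ▸ Subgroup.orderOf_dvd_natCard _ hyM)
      exact Nat.Coprime.dvd_of_dvd_mul_right (by norm_num) h
    obtain ⟨x1, l7, hx1, hl, rfl⟩ := exists_dvd_and_dvd_of_dvd_mul hm0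
    obtain ⟨x2, k5, hx2, hk, rfl⟩ := exists_dvd_and_dvd_of_dvd_mul hx1
    obtain ⟨i2, j3, hi, hj, rfl⟩ := exists_dvd_and_dvd_of_dvd_mul hx2
    obtain ⟨i, hi', rfl⟩ := (Nat.dvd_prime_pow Nat.prime_two).mp hi
    obtain ⟨j, hj', rfl⟩ := (Nat.dvd_prime_pow Nat.prime_three).mp hj
    obtain ⟨k, hk', rfl⟩ := (Nat.dvd_prime_pow (by norm_num : Nat.Prime 5)).mp hk
    obtain ⟨l, hl', rfl⟩ := (Nat.dvd_prime_pow (by norm_num : Nat.Prime 7)).mp hl
    have hidx := M.index_mul_card
    rw [F.card, ← e2] at hidx
    have hcand := index_candidates i (by omega) j (by omega) k (by omega) l (by omega) d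
      (by rcases hd510 with rfl | rfl <;> simp) hm hm5
    generalize hA : 2 ^ i * 3 ^ j * 5 ^ k * 7 ^ l = A at *
    have e23 : 23 * A = m' * d := by
      have : m' * (11 * d) = A * 253 := f2
      rw [show m' * (11 * d) = 11 * (m' * d) by ring] at this
      omega
    have hd0 : 0 < d := by omega
    rcases hcand (by rw [e23]; simp) (by rw [e23, Nat.mul_div_cancel _ hd0]; exact hm') with h | h
    · rw [h] at hidx; omega
    · exact absurd (Subgroup.index_eq_one.mp (by rw [h] at hidx; omega)) hMne
  exact ⟨M, h24⟩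

end CfsgLib.M24Order
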