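import Cfsg.Agent.Lib.M24Order.Keys11Defs

/-!
# Simple groups of order 244823040: computations, the primes 11, 7 and 5
-/

set_option autoImplicit false
set_option Elab.async false
set_option maxHeartbeats 4000000

namespace CfsgLib.M24Order

open CfsgLib.BrauerTuan CfsgLib.OrderBlocks

theorem key_free7 : free7 = true := by decide +kernel

theorem key_trips7 : (((trips 244823040 7 [1024, 27, 5, 7, 11, 23]).filter fun t =>
      decide (t.2.2 % 11 = 0) && decide (t.2.2 % 23 ≠ 0)).all fun t =>
    forceL ((fastX 7 t.2.2 (t.2.1 * t.1)).filter kp23) fun X =>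
    forceL ((fastY 7 t.2.2 (t.2.1 * t.1) t.2.1).filter kp23) fun Y =>
    infeasB 7 t.2.1 X Y || (decide (t.2.1 = 3) && (combos X 2).all fun xs =>
      !Y.contains (1 + xs.sum) || ([-69, 92].isPerm xs && decide (1 + xs.sum = 24)))) = true := by
  decide +kernel

theorem key_trips11 : (((trips 244823040 11 [1024, 27, 5, 7, 11, 23]).filter fun t =>
      decide (t.2.2 % 23 ≠ 0) && decide (t.2.2 % 7 ≠ 0)).all fun t =>
    (decide (t.2.2 = 1) && decide (t.2.1 = 10)) ||
      [(15456, 5, 288), (185472, 5, 24), (2225664, 5, 2), (185472, 10, 12)].contains t ||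
      forceL ((fastX 11 t.2.2 (t.2.1 * t.1)).filter kp23) fun X =>
      forceL ((fastY 11 t.2.2 (t.2.1 * t.1) t.2.1).filter kp23) fun Y =>
        (decide (t.2.1 = 2) && e2Dead 11 t.2.2 X Y) || infeasB 11 t.2.1 X Y) = true := by
  decide +kernel

theorem key_ten : check11ten 185472 12 = true := by decide +kernel

theorem key_five288 : check11five 15456 288 = true := by decide +kernel

theorem key_trips5 : (((trips 244823040 5 [1024, 27, 5, 7, 11, 23]).filter fun t =>
      decide (t.2.2 % 23 ≠ 0) && decide (t.2.2 % 11 ≠ 0) && decide (t.2.2 % 2 = 0)).all fun t =>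
    check5 t.1 t.2.1 t.2.2) = true := by
  decide +kernel

end CfsgLib.M24Order
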