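import Cfsg.Agent.Lib.M24Order.Char23
import Cfsg.Agent.Lib.M24Order.Square
import Cfsg.Agent.Lib.M24Order.Sound11
import Cfsg.Agent.Lib.M24Order.Keys11

/-!
# Simple groups of order 244823040: involutions, blocks with `e = 2`, the prime 7 against 11
-/

set_option autoImplicit false
set_option linter.unusedSectionVars false
set_option linter.style.haveILetI false
set_option maxHeartbeats 1000000

namespace CfsgLib.M24Order

open Cfsg
open scoped ComplexConjugate CfsgLib.Char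
open CfsgLib CfsgLib.BrauerTuan CfsgLib.OrderBlocks
open scoped _root_.Classical

universe u

theorem fastX_small {p k ec : ℕ} {z : ℤ} (h : z ∈ fastX p k ec) : z.natAbs ≤ 15646 := by
  simp only [fastX, List.mem_flatMap, List.mem_filter, List.mem_filterMap] at h
  obtain ⟨x, ⟨hx, -⟩, s, hs, hif⟩ := h
  simp only [dN, List.mem_filter, decide_eq_true_eq] at hx
  split_ifs at hif with hc
  simp only [Option.some.injEq] at hif
  simp only [List.mem_cons, List.not_mem_nil, or_false] at hs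
  rcases hs with rfl | rfl <;> rw [← hif] <;> omega

theorem fastY_mod {p k ec e : ℕ} {z : ℤ} (h : z ∈ fastY p k ec e) : (p : ℤ) ∣ z - e := by
  simp only [fastY, List.mem_flatMap, List.mem_filter, List.mem_filterMap] at h
  obtain ⟨x, -, s, hs, hif⟩ := h
  split_ifs at hif with hc
  simp only [Option.some.injEq] at hif
  simp only [Bool.and_eq_true, decide_eq_true_eq] at hc
  have h1 := Int.dvd_of_emod_eq_zero hc.2
  simp only [List.mem_cons, List.not_mem_nil, or_false] at hs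
  rcases hs with rfl | rfl <;> rw [← hif]
  · simpa using h1
  · rw [show (-1 : ℤ) * x - e = -(x - -1 * (e : ℤ)) by ring]; exact dvd_neg.mpr h1

variable {G : Type u} [Group G] [Fintype G]

theorem exists_invol (hn : Nat.card G = 244823040) : ∃ g : G, orderOf g = 2 :=
  haveI : Fact (Nat.Prime 2) := ⟨Nat.prime_two⟩
  exists_prime_orderOf_dvd_card' 2 (by rw [hn]; norm_num)

theorem iv_conj (χ : IrrCharacter G) {z : G} (hz : z * z = 1) (c : G) : iv χ (c * z * c⁻¹) = iv χ z :=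
  iv_eq ((Char.isClassFunction_of_isCharacter (Char.isCharacter_of_isIrr χ.2) z c).trans (iv_spec χ hz))

variable [IsSimpleGroup G]

theorem kp23_of (T23 : ∀ χ : IrrCharacter G, g23 (deg χ) = true) {s : ℤ} (hs : s = 1 ∨ s = -1) (χ : IrrCharacter G) :
    kp23 (s * (deg χ : ℤ)) = true := by
  rcases hs with rfl | rfl <;> simp [kp23, T23 χ]

/-- A block with `e = 2` passes the square test at every involution. -/
theorem false_of_e2 {p k : ℕ} [Fact p.Prime] {xs : List ℤ} {y : Option ℤ} {X Y : List ℤ} (hp2 : p ≠ 2)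
    (hp3 : 3 ≠ p) (hf : Fits p k 2 X Y xs y) (B : Blk G p ⟨p, k, 2, xs, y⟩) (hb : e2Dead p k X Y = true) : False := by
  have hn := B.card_eq
  obtain ⟨y', rfl, hy', hlen, hys⟩ := hf.more (by omega)
  obtain ⟨χ, hxl⟩ := List.length_eq_one_iff.mp
    (show B.xl.length = 1 by rw [show (1 : ℕ) = 2 - 1 from rfl, ← hlen]; exact ((congrArg List.length B.xs_eq).trans (List.length_map _)).symm)
  have hχ : χ ∈ B.xl := hxl ▸ List.mem_singleton_self χ
  obtain ⟨x, hx⟩ : ∃ x, x = B.σ χ * (deg χ : ℤ) := ⟨_, rfl⟩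
  have hxs : xs = [x] := by
    have h := B.xs_eq
    rw [hxl, List.map_singleton, ← hx] at h
    exact h
  obtain ⟨g, hg⟩ := exists_invol hn
  have hgg := mul_self_of_order_two hg
  have hgo : ¬ p ∣ orderOf g := by
    rw [hg]; exact fun h => hp2 ((Nat.prime_dvd_prime_iff_eq Fact.out Nat.prime_two).mp h)
  obtain ⟨-, -, -, hlt⟩ := iv_facts hn B.T.noncomm (B.ne_triv (List.mem_append_left _ hχ)) hg
  obtain ⟨-, r2⟩ := B.rel_iv hgo fun φ _ => iv_spec φ hgg
  obtain ⟨A, hA⟩ : ∃ A, A = iv χ g := ⟨_, rfl⟩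
  obtain ⟨v, hv, hv1⟩ := M12Order.exists_ne_one_P B.T
  obtain ⟨hs1, hs2⟩ := B.sgn_eq hχ
  rw [← hx] at hs1 hs2
  obtain ⟨Yv, hYv⟩ : ∃ Yv, Yv = sgn y' * (sgn x * A + 1) := ⟨_, rfl⟩
  obtain ⟨m, -, hm⟩ := count_square B hp2 hgg hv hv1 (fun φ => iv φ g) Yv (fun φ _ => iv_spec φ hgg)
    (fun ψ hψ => by
      rw [iv_spec ψ hgg, r2 y' rfl ψ hψ, hYv]
      simp only [yVal, hxl, List.map_cons, List.map_nil, hxs, sigSum, ← hA])
  have hy1 : y' = 1 + x := by rw [hys, hxs]; simp
  have hY2 : Yv * Yv = (sgn x * A + 1) * (sgn x * A + 1) := by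
    rw [hYv]; linear_combination ((sgn x * A + 1) * (sgn x * A + 1)) * (sgn_mul_self y').1
  simp only [hxl, List.map_cons, List.map_nil, tFrac, hxs, fracSum, ← hA, hY2, hy1, one_mul, mul_one] at hm
  have hnum : (x + A * A) * (1 + x) - (sgn x * A + 1) * (sgn x * A + 1) * x = (x * sgn x - A) * (x * sgn x - A) := by
    linear_combination (-A * A * x - x * x) * (sgn_mul_self x).1
  have habs : x * sgn x = (deg χ : ℤ) := by
    rw [← hs2]
    unfold sgn
    split_ifs with h <;> omega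
  rw [hnum, habs] at hm
  have hpos : 0 < x * (1 + x) := by
    rcases lt_trichotomy x 0 with h | h | h
    · refine mul_pos_of_neg_of_neg h ?_
      by_contra h'
      obtain ⟨hl, hyd, -⟩ := B.yl_some y' rfl
      obtain ⟨ψ, hψ⟩ := List.exists_mem_of_length_pos (l := B.yl) (hl ▸ B.t_pos)
      have := deg_pos ψ
      rw [hyd ψ hψ] at this
      omega
    · exfalso
      have := deg_pos χ
      omega
    · exact mul_pos h (by omega)
  obtain ⟨K, hK⟩ : ∃ K, K = 244823040 * k * p * (x * (x + 1)).natAbs := ⟨_, rfl⟩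
  obtain ⟨U, hU⟩ : ∃ U, U = ((deg χ : ℤ) - A).natAbs := ⟨_, rfl⟩
  have hU0 : 0 < U := by omega
  have key : K * U ^ 2 = (m * cC g * (x * (x + 1)).natAbs) ^ 2 := by
    apply Int.natCast_inj.mp
    rw [hK, hU]
    push_cast
    rw [sq_abs, abs_of_pos (show 0 < x * (x + 1) by rwa [add_comm])]
    push_cast at hm
    linear_combination (x * (x + 1)) * hm
  obtain ⟨q, hq⟩ : U ∣ m * cC g * (x * (x + 1)).natAbs :=
    (Nat.pow_dvd_pow_iff (two_ne_zero)).mp ⟨K, by rw [← key]; ring⟩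
  have hKq : K = q * q := by
    have h2 : K * U ^ 2 = (q * q) * U ^ 2 := by rw [key, hq]; ring
    exact Nat.eq_of_mul_eq_mul_right (pow_pos hU0 2) h2
  have h := List.all_eq_true.mp hb x (hf.mem x (by rw [hxs]; exact List.mem_singleton_self x))
  rw [← hy1, List.contains_iff_mem.mpr hy', ← hK, hKq, isSq_of_sq] at h
  exact Bool.noConfusion h

/-- No element of order `77`. -/
theorem not_seven_dvd_eleven [Fact (Nat.Prime 23)] [Fact (Nat.Prime 11)] (T23 : Ctx G 23 1) (he23 : T23.D.e = 11)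
    {k : ℕ} (T : Ctx G 11 k) : ¬ 7 ∣ k := by
  intro h7
  haveI : Fact (Nat.Prime 7) := ⟨by norm_num⟩
  have hn := T.card_eq
  obtain ⟨k', T', hmem⟩ := exists_ctx (p := 7) hn [1024, 27, 5, 7, 11, 23] (by norm_num) (by norm_num) (by norm_num)
  have h11 : k' % 11 = 0 := Nat.mod_eq_zero_of_dvd
    (((Nat.Prime.dvd_mul (by norm_num : Nat.Prime 11)).mp (dvd_of_dvd_k T T' h7)).resolve_left (by norm_num))
  have h23 : k' % 23 ≠ 0 := fun h => by
    have h' := dvd_of_dvd_k T' T23 (Nat.dvd_of_mod_eq_zero h)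
    norm_num at h'
  obtain ⟨c, hc⟩ : ∃ c, 1 + T'.D.n * 7 = c := ⟨_, rfl⟩
  rw [hc] at hmem
  obtain ⟨xs, y, hf, ⟨B⟩⟩ := exists_blk T' (e := T'.D.e) rfl hc kp23
    fun χ _ _ s hs => kp23_of (g23_deg T23 he23) hs χ
  have h := List.all_eq_true.mp key_trips7 _ (List.mem_filter.mpr ⟨hmem, by simp [h11, h23]⟩)
  simp only [forceL_eq, Bool.or_eq_true, Bool.and_eq_true, decide_eq_true_eq] at h
  rcases h with h | ⟨he, h⟩
  · exact false_of_infeasB hf h
  rw [he] at hf h B
  obtain ⟨y', rfl, hy', hlen, hys⟩ := hf.more (by norm_num)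
  obtain ⟨s, hs, hperm⟩ := exists_mem_combos _ xs hf.mem
  rw [hlen] at hs
  have hp := List.all_eq_true.mp h s hs
  rw [hperm.sum_eq, ← hys, List.contains_iff_mem.mpr hy', Bool.not_true, Bool.false_or, Bool.and_eq_true,
    List.isPerm_iff, decide_eq_true_eq] at hp
  obtain ⟨hp, rfl⟩ := hp
  obtain ⟨l, hl, hmap⟩ := exists_perm_map (fun χ : IrrCharacter G => B.σ χ * (deg χ : ℤ)) [-69, 92] B.xl
    ((hp.trans hperm).trans (List.Perm.of_eq B.xs_eq))
  obtain ⟨a, l₁, rfl, ha, hl'⟩ := List.map_eq_cons_iff.mp hmap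
  obtain ⟨b, l₂, rfl, hb, hl''⟩ := List.map_eq_cons_iff.mp hl'
  rw [List.map_eq_nil_iff] at hl''
  subst hl''
  have hax : a ∈ B.xl := hl.subset (by simp)
  have hbx : b ∈ B.xl := hl.subset (by simp)
  obtain ⟨g, hg⟩ := exists_invol hn
  have hgg := mul_self_of_order_two hg
  obtain ⟨-, r2⟩ := B.rel_iv (g := g) (by rw [hg]; norm_num) fun φ _ => iv_spec φ hgg
  obtain ⟨-, a4, -, alt⟩ := iv_facts hn B.T.noncomm (B.ne_triv (List.mem_append_left _ hax)) hg
  obtain ⟨-, b4, -, blt⟩ := iv_facts hn B.T.noncomm (B.ne_triv (List.mem_append_left _ hbx)) hg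
  obtain ⟨hlenY, hyd, -⟩ := B.yl_some _ rfl
  obtain ⟨ψ, hψ⟩ := List.exists_mem_of_length_pos (l := B.yl) (hlenY ▸ B.t_pos)
  obtain ⟨-, y4, -, ylt⟩ := iv_facts hn B.T.noncomm (B.ne_triv (List.mem_append_right _ hψ)) hg
  rw [show deg ψ = 24 from hyd ψ hψ] at ylt
  have sa : B.σ a = -1 ∧ deg a = 69 := by
    have := B.σ_unit hax; have := deg_pos a
    rcases B.σ_unit hax with e | e <;> rw [e] at ha <;> exact ⟨by omega, by omega⟩
  have sb : B.σ b = 1 ∧ deg b = 92 := by
    have := deg_pos b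
    rcases B.σ_unit hbx with e | e <;> rw [e] at hb <;> exact ⟨by omega, by omega⟩
  rw [sa.2] at a4 alt
  rw [sb.2] at b4 blt
  -- the sums over the two members, in the order of the block
  have hsum : ∀ f : IrrCharacter G → ℤ, (B.xl.map f).sum = f a + f b := fun f => by
    rw [← (hl.map f).sum_eq]; simp
  obtain ⟨A, hA⟩ : ∃ A, A = iv a g := ⟨_, rfl⟩
  obtain ⟨Bv, hB⟩ : ∃ Bv, Bv = iv b g := ⟨_, rfl⟩
  have hsig : sigSum xs (B.xl.map (iv · g)) = 1 - A + Bv := by
    refine (congrArg (fun l => sigSum l (B.xl.map (iv · g))) B.xs_eq).trans ((sigSum_map _ _ _).trans ?_)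
    rw [hsum, (B.sgn_eq hax).1, (B.sgn_eq hbx).1, sa.1, sb.1, hA, hB]
    ring
  have hYv : iv ψ g = 1 - A + Bv := by
    rw [r2 _ rfl ψ hψ]
    simp only [yVal, hsig]
    rw [show sgn (24 : ℤ) = 1 by decide, one_mul]
  rw [hYv] at ylt
  have h0 := B.tFrac_eq_zero_of_odd (by norm_num) (by norm_num) hgg (fun φ => iv φ g) (1 - A + Bv)
    (fun φ _ => iv_spec φ hgg) (fun φ hφ => by rw [iv_spec φ hgg, r2 _ rfl φ hφ, ← r2 _ rfl ψ hψ, hYv])
  have hord : B.xl = [a, b] ∨ B.xl = [b, a] := by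
    have hlx : B.xl.length = 2 := by rw [← hl.length_eq]; rfl
    obtain ⟨c₁, c₂, hc12⟩ := List.length_eq_two.mp hlx
    rw [hc12] at hl ⊢
    have hab : a ≠ b := fun e => by rw [e] at sa; omega
    have h1 := hl.subset (List.mem_cons_self : a ∈ a :: [b])
    have h2 := hl.subset (show b ∈ [a, b] by simp)
    simp only [List.mem_cons, List.not_mem_nil, or_false] at h1 h2
    rcases h1 with rfl | rfl <;> rcases h2 with rfl | rfl <;> first | exact absurd rfl hab | simp
  have hxs := B.xs_eq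
  change xs = _ at hxs
  refine false_of_free7 (A := A) (B := Bv) (by omega) (by omega) ylt (by omega) (by omega) ?_ key_free7
  rcases hord with hord | hord <;> rw [hord] at hxs h0 <;>
    simp only [List.map_cons, List.map_nil, sa.1, sa.2, sb.1, sb.2] at hxs h0 <;>
    simp only [tFrac, hxs, fracSum, ← hA, ← hB] at h0 <;> push_cast at h0 <;> linarith

end CfsgLib.M24Order
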