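import Cfsg.Agent.Lib.M24Order.Col4

/-!
# Simple groups of order 244823040: the involutions of the columns and their centralisers
-/

set_option autoImplicit false
set_option linter.unusedSectionVars false
set_option linter.style.haveILetI false

namespace CfsgLib.M24Order.E3

open Cfsg
open scoped ComplexConjugate CfsgLib.Char
open CfsgLib CfsgLib.BrauerTuan CfsgLib.OrderBlocks CfsgLib.M24Order
open scoped _root_.Classical

universe u

variable {G : Type u} [Group G] [Fintype G] [IsSimpleGroup G]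

theorem four_dvd (hn : Nat.card G = 244823040) {g : G} (hg : orderOf g = 2) : 4 ∣ cC g := by
  haveI : Fact (Nat.Prime 2) := ⟨Nat.prime_two⟩
  have hp : IsPGroup 2 (Subgroup.zpowers g) := IsPGroup.of_card (n := 1) (by rw [Nat.card_zpowers, hg, pow_one])
  obtain ⟨Q, hQ⟩ := hp.exists_le_sylow
  have hgQ : g ∈ (Q : Subgroup G) := hQ (Subgroup.mem_zpowers g)
  haveI : Nontrivial (Q : Subgroup G) := ⟨⟨⟨g, hgQ⟩, 1, fun e => by
    have := congrArg (fun x : (Q : Subgroup G) => orderOf (x : G)) e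
    simp [hg] at this⟩⟩
  haveI := Q.isPGroup'.center_nontrivial
  obtain ⟨c, hc⟩ : ∃ c : Subgroup.center (Q : Subgroup G), orderOf c = 2 := by
    obtain ⟨a, ha⟩ := (Q.isPGroup'.to_subgroup (Subgroup.center (Q : Subgroup G))).exists_card_eq
    refine exists_prime_orderOf_dvd_card' 2 ?_
    rcases Nat.eq_zero_or_pos a with h | h
    · rw [h, pow_zero] at ha
      have := Finite.one_lt_card (α := Subgroup.center (Q : Subgroup G))
      omega
    · rw [ha]; exact dvd_pow_self 2 h.ne'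
  by_cases hcg : ((c : (Q : Subgroup G)) : G) = g
  · have hle : (Q : Subgroup G) ≤ Subgroup.centralizer ({g} : Set G) := fun x hx => by
      rw [Subgroup.mem_centralizer_singleton_iff, ← hcg]
      exact congrArg Subtype.val (Subgroup.mem_center_iff.mp c.2 ⟨x, hx⟩)
    refine Dvd.dvd.trans ?_ (Subgroup.card_dvd_of_le hle)
    exact (show 4 = 2 ^ 2 by norm_num) ▸ Q.pow_dvd_card_of_pow_dvd_card (by rw [hn]; norm_num)
  · obtain ⟨K, hK⟩ : ∃ K, K = (Q : Subgroup G) ⊓ Subgroup.centralizer ({g} : Set G) := ⟨_, rfl⟩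
    obtain ⟨a, ha⟩ := (Q.isPGroup'.to_le (hK ▸ inf_le_left : K ≤ (Q : Subgroup G))).exists_card_eq
    have hcK : ((c : (Q : Subgroup G)) : G) ∈ K := hK ▸ ⟨(c : (Q : Subgroup G)).2,
      Subgroup.mem_centralizer_singleton_iff.mpr
        (congrArg Subtype.val (Subgroup.mem_center_iff.mp c.2 ⟨g, hgQ⟩)).symm⟩
    have hgK : g ∈ K := hK ▸ ⟨hgQ, Subgroup.mem_centralizer_singleton_iff.mpr rfl⟩
    have hco : orderOf ((c : (Q : Subgroup G)) : G) = 2 := by rw [Subgroup.orderOf_coe, Subgroup.orderOf_coe, hc]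
    have h3 : 3 ≤ Nat.card K := by
      have hsub : ({⟨1, one_mem K⟩, ⟨g, hgK⟩, ⟨_, hcK⟩} : Finset K).card = 3 := by
        rw [Finset.card_eq_three]
        refine ⟨_, _, _, ?_, ?_, ?_, rfl⟩ <;> intro e
        · have h := congrArg (fun x : K => orderOf (x : G)) e
          simp only [orderOf_one, hg] at h
          omega
        · have h := congrArg (fun x : K => orderOf (x : G)) e
          simp only [orderOf_one, hco] at h
          omega
        · exact hcg (congrArg Subtype.val e).symm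
      rw [← hsub, Nat.card_eq_fintype_card]
      exact Finset.card_le_univ _
    have h2a : 2 ≤ a := by
      by_contra h
      have := Nat.pow_le_pow_right (show 1 ≤ 2 by norm_num) (show a ≤ 1 by omega)
      omega
    refine Dvd.dvd.trans ?_ (Subgroup.card_dvd_of_le (hK ▸ inf_le_right : K ≤ _))
    rw [ha]
    exact (show 4 = 2 ^ 2 by norm_num) ▸ pow_dvd_pow 2 h2a

variable [Fact (Nat.Prime 11)]

theorem mem_centsP [Fact (Nat.Prime 23)] (hn : Nat.card G = 244823040) (T23 : Ctx G 23 1) (T11 : Ctx G 11 1)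
    {g : G} (hg : orderOf g = 2) {m : ℕ} (hm : m ∣ cC g) : cC g ∈ centsP m := by
  have hno : ∀ {r : ℕ} [Fact r.Prime], Ctx G r 1 → r ≠ 2 → ¬ r ∣ cC g := by
    intro r hr T hr2 h
    obtain ⟨w, hw⟩ := exists_prime_orderOf_dvd_card' (G := Subgroup.centralizer ({g} : Set G)) r h
    have hzC : g ∈ Subgroup.centralizer ({(w : G)} : Set G) :=
      Subgroup.mem_centralizer_singleton_iff.mpr (Subgroup.mem_centralizer_singleton_iff.mp w.2).symm
    have h' := Subgroup.orderOf_dvd_natCard _ hzC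
    rw [hg, show Nat.card (Subgroup.centralizer ({(w : G)} : Set G)) = r * 1 from
      cC_of_ctx T (by rw [Subgroup.orderOf_coe]; exact hw), mul_one] at h'
    exact hr2 ((Nat.prime_dvd_prime_iff_eq Nat.prime_two hr.out).mp h').symm
  obtain ⟨q, hq⟩ := four_dvd hn hg
  simp only [centsP, List.mem_filter, List.mem_map, decide_eq_true_eq]
  refine ⟨⟨q, mem_divs _ (by norm_num) q ?_, hq.symm⟩, Nat.mod_eq_zero_of_dvd hm⟩
  have h := cC_dvd hn g
  rw [hq, show 244823040 = 4 * (253 * 241920) by norm_num] at h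
  have h' := Nat.dvd_of_mul_dvd_mul_left (by norm_num) h
  have hco : ∀ r : ℕ, r.Prime → ¬ r ∣ cC g → Nat.Coprime q r := fun r hr hd =>
    ((Nat.Prime.coprime_iff_not_dvd hr).mpr fun h => hd (hq ▸ h.mul_left 4)).symm
  have hco' : Nat.Coprime q 253 :=
    Nat.Coprime.mul_right (hco 11 (by norm_num) (hno T11 (by norm_num))) (hco 23 (by norm_num) (hno T23 (by norm_num)))
  norm_num
  exact hco'.dvd_of_dvd_mul_left h'

/-- An involution of `N(P₁₁)` with `5` in the order of its centraliser. -/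
theorem exists_invol_nor (T : Ctx G 11 1) (he : T.D.e = 10) :
    ∃ z : G, orderOf z = 2 ∧ 5 ∣ cC z ∧ z ∈ Subgroup.normalizer ((T.P : Subgroup G) : Set G) ∧
      z ∉ (T.P : Subgroup G) := by
  haveI : Fact (Nat.Prime 2) := ⟨Nat.prime_two⟩
  haveI : Fact (Nat.Prime 5) := ⟨Nat.prime_five⟩
  haveI : IsCyclic (T.P : Subgroup G) := isCyclic_of_prime_card T.card_P
  obtain ⟨N, hN⟩ : ∃ N, N = Subgroup.normalizer ((T.P : Subgroup G) : Set G) := ⟨_, rfl⟩
  have hcard : Nat.card N = 110 := by rw [hN, card_normalizer T, he]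
  obtain ⟨t, ht⟩ := exists_prime_orderOf_dvd_card' (G := N) 2 (by rw [hcard]; norm_num)
  obtain ⟨f, hf⟩ := exists_prime_orderOf_dvd_card' (G := N) 5 (by rw [hcard]; norm_num)
  subst hN
  obtain ⟨φ, hφ⟩ : ∃ φ, φ = Subgroup.normalizerMonoidHom (T.P : Subgroup G) := ⟨_, rfl⟩
  have hker : Nat.card φ.ker = 11 := by
    rw [hφ, Subgroup.normalizerMonoidHom_ker,
      Nat.card_congr (Subgroup.subgroupOfEquivOfLe (Subgroup.centralizer_le_normalizer _)).toEquiv, T.card_C]
  have hord : ∀ (a : Subgroup.normalizer ((T.P : Subgroup G) : Set G)) (r : ℕ), r.Prime → orderOf a = r →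
      r ≠ 11 → orderOf (φ a) = r := by
    intro a r hr ha hr11
    refine ((Nat.dvd_prime hr).mp (ha ▸ orderOf_map_dvd φ a)).resolve_left fun h => hr11 ?_
    have hmem : a ∈ φ.ker := orderOf_eq_one_iff.mp h
    have h' : r ∣ 11 := hker ▸ ha ▸ Subgroup.orderOf_dvd_natCard _ hmem
    exact (Nat.prime_dvd_prime_iff_eq hr (by norm_num)).mp h'
  have hcomm : Commute (φ t) (φ f) :=
    (IsCyclic.mulAutMulEquiv (T.P : Subgroup G)).injective (by rw [map_mul, map_mul]; exact mul_comm _ _)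
  have h10 : 10 ∣ orderOf (t * f) := by
    refine Dvd.dvd.trans ?_ (orderOf_map_dvd φ (t * f))
    rw [map_mul, hcomm.orderOf_mul_eq_mul_orderOf_of_coprime (by
      rw [hord t 2 Nat.prime_two ht (by norm_num), hord f 5 Nat.prime_five hf (by norm_num)]; norm_num),
      hord t 2 Nat.prime_two ht (by norm_num), hord f 5 Nat.prime_five hf (by norm_num)]
  obtain ⟨g, hg⟩ : ∃ g : G, g = ((t * f : Subgroup.normalizer ((T.P : Subgroup G) : Set G)) : G) := ⟨_, rfl⟩
  rw [← Subgroup.orderOf_coe, ← hg] at h10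
  have hg0 : orderOf g ≠ 0 := (orderOf_pos g).ne'
  have ho := orderOf_pow_orderOf_div hg0 ((by norm_num : 2 ∣ 10).trans h10)
  refine ⟨g ^ (orderOf g / 2), ho, ?_, Subgroup.pow_mem _ (by rw [hg]; exact (t * f).2) _, fun hm => ?_⟩
  · rw [cC, ← orderOf_pow_orderOf_div hg0 ((by norm_num : 5 ∣ 10).trans h10)]
    exact Subgroup.orderOf_dvd_natCard _
      (Subgroup.mem_centralizer_singleton_iff.mpr (Commute.pow_pow_self g _ _).eq)
  · have h := Subgroup.orderOf_dvd_natCard _ hm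
    rw [ho, T.card_P] at h
    norm_num at h

variable {p : ℕ} [Fact p.Prime] {o : Opt}

/-- An involution of `N(P)` outside `P = C(P)` inverts `P`, and gives `p` pairs. -/
theorem inverts_and_pairs (B : Blk G p o) (hk : o.k = 1) (hp2 : p ≠ 2) {s : G} (hs : orderOf s = 2)
    (hN : s ∈ Subgroup.normalizer ((B.T.P : Subgroup G) : Set G)) (hP : s ∉ (B.T.P : Subgroup G)) {v : G}
    (hv : v ∈ (B.T.P : Subgroup G)) (hv1 : v ≠ 1) :
    s * v * s = v⁻¹ ∧ Nat.card {pr : G × G // IsConj s pr.1 ∧ IsConj s pr.2 ∧ pr.1 * pr.2 = v} = p := by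
  have hss := mul_self_of_order_two hs
  have hi : s⁻¹ = s := inv_eq_of_mul_eq_one_right hss
  have hsv : s * v * s⁻¹ ∈ (B.T.P : Subgroup G) := (Subgroup.mem_normalizer_iff.mp hN v).mp hv
  obtain ⟨t, -, ht⟩ := isConj_coset B.T.card_P (B.cent hk) hN hP hsv
  have hc : IsConj s (s * v) := isConj_iff.mpr ⟨t, by rw [ht, inv_mul_cancel_right]⟩
  have hpr : s * (s * v) = v := by rw [← mul_assoc, hss, one_mul]
  refine ⟨(inverts_of_pair hss (IsConj.refl s) hc (by rw [hpr, mul_one]) (Commute.one_right v)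
    (orderOf_of_mem B.T.card_P hv hv1) M12Order.not_dvd_order_one).2, ?_⟩
  have hodd : ¬ 2 ∣ p := fun h => hp2 ((Nat.prime_dvd_prime_iff_eq Nat.prime_two Fact.out).mp h).symm
  exact (pairs_of_nonempty B.T.card_P (B.cent hk) hodd hss hv hv1 ⟨⟨(s, s * v), IsConj.refl s, hc, hpr⟩⟩).1

/-- No pairs of involutions with product in `P`, if `|N(P) : P|` is odd. -/
theorem no_pairs_of_odd (B : Blk G p o) (hp2 : p ≠ 2) (he : ¬ 2 ∣ o.e) {g h v : G} (hg : orderOf g = 2)
    (hh : orderOf h = 2) (hv : v ∈ (B.T.P : Subgroup G)) (hv1 : v ≠ 1) :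
    Nat.card {pr : G × G // IsConj g pr.1 ∧ IsConj h pr.2 ∧ pr.1 * pr.2 = v} = 0 := by
  refine Nat.card_eq_zero.mpr (Or.inl ⟨fun ⟨pr, h1, h2, h3⟩ => ?_⟩)
  have sq : ∀ {a b : G}, orderOf a = 2 → IsConj a b → b * b = 1 := fun {a b} ha hab => by
    obtain ⟨c, rfl⟩ := isConj_iff.mp hab
    calc c * a * c⁻¹ * (c * a * c⁻¹) = c * (a * a) * c⁻¹ := by group
      _ = 1 := by rw [mul_self_of_order_two ha]; group
  refine not_inverted B.T hp2 (B.e_eq ▸ he) hv hv1 (sq hg h1) ?_
  rw [← h3, mul_inv_rev, inv_eq_of_mul_eq_one_right (sq hg h1), inv_eq_of_mul_eq_one_right (sq hh h2),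
    ← mul_assoc, sq hg h1, one_mul]

/-- A class not conjugate to an inverting involution gives no pairs. -/
theorem no_pairs_of_not_conj (B : Blk G p o) (hk : o.k = 1) {s z v : G} (hs : s * s = 1) (hz : z * z = 1)
    (hv : v ∈ (B.T.P : Subgroup G)) (hv1 : v ≠ 1) (hN : s ∈ Subgroup.normalizer ((B.T.P : Subgroup G) : Set G))
    (hP : s ∉ (B.T.P : Subgroup G)) (hinv : s * v * s = v⁻¹) (hne : ¬ IsConj s z) :
    Nat.card {pr : G × G // IsConj z pr.1 ∧ IsConj z pr.2 ∧ pr.1 * pr.2 = v} = 0 := by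
  refine Nat.card_eq_zero.mpr (Or.inl ⟨fun ⟨pr, h1, h2, h3⟩ => hne ?_⟩)
  obtain ⟨hg1, hg2⟩ := inverts_of_pair hz h1 h2 (by rw [h3, mul_one]) (Commute.one_right v)
    (orderOf_of_mem B.T.card_P hv hv1) M12Order.not_dvd_order_one
  have hc : Commute (pr.1 * s) v := by
    have hi : s * v⁻¹ * s = v := by
      have := congrArg (·⁻¹) hinv
      simpa [inv_eq_of_mul_eq_one_right hs, mul_assoc] using this
    calc pr.1 * s * v = pr.1 * (s * v * s) * s := by rw [mul_assoc pr.1, mul_assoc pr.1, mul_assoc (s * v), hs, mul_one]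
      _ = pr.1 * v⁻¹ * s := by rw [hinv]
      _ = pr.1 * (pr.1 * v * pr.1) * s := by rw [hg2]
      _ = v * (pr.1 * s) := by rw [← mul_assoc, ← mul_assoc, hg1, one_mul, mul_assoc]
  have hmem : pr.1 * s ∈ (B.T.P : Subgroup G) := by
    refine B.cent hk ▸ Subgroup.mem_centralizer_iff.mpr fun q hq => ?_
    rw [← zpowers_of_mem B.T.card_P hv hv1] at hq
    obtain ⟨i, rfl⟩ := Subgroup.mem_zpowers_iff.mp hq
    exact (hc.zpow_right i).symm.eq
  obtain ⟨t, -, ht⟩ := isConj_coset B.T.card_P (B.cent hk) hN hP hmem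
  rw [mul_assoc _ s s, hs, mul_one] at ht
  exact (isConj_iff.mpr ⟨t, ht⟩).trans h1.symm

end CfsgLib.M24Order.E3
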