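import Cfsg.Agent.Lib.M24Order.Keys6Glue

/-!
# Simple groups of order 244823040, `|N(P₇) : C(P₇)| = 6`: checks of one list in parts, member of degree 22
-/

set_option autoImplicit false

namespace CfsgLib.M24Order.E6

open CfsgLib.M24Order

/-- The test at the involution inverting `P₁₁` at some orders of centralisers. -/
def okS2 (k5 : ℕ) (tab : List (ℕ × T5)) (P : Plan) (K : KP) (D : List Sol) (Cs : List ℕ) : Bool :=
  Cs.all fun C => forceN C fun C => searchCol C true true P.es tab [] none (finS k5 P K D)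

/-- The test at the involution centralising `P₇` at some orders of centralisers. -/
def okZ2 (k5 : ℕ) (tab : List (ℕ × T5)) (P : Plan) (K : KP) (Cs : List ℕ) : Bool :=
  K.sols.isEmpty || (decide (K.k7 % 2 = 0) && (P.es.length == K.zp.length) && K.zp.isPerm (List.range P.es.length) &&
    (E3.pick K.zp 0 K.zi == List.range P.es.length) && K.zi.all (fun i => decide (i < P.es.length)) &&
    (!K.useX || decide (22 = 22)) &&
    Cs.all fun C => forceN C fun C =>
      if K.useX then
        K.sols.all fun s =>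
          searchCol C false false (E3.pick P.es ((0, 0), 0) K.zp) tab (E3.pick s.vs 0 K.zp) (some s) fun z =>
            !(compat2 k5 K.k7 P.es K.ryw s (unpick K z)) || inGrp K s (unpick K z)
      else searchCol C false false (E3.pick P.es ((0, 0), 0) K.zp) tab [] none fun z =>
        K.sols.all fun s => !(compat2 k5 K.k7 P.es K.ryw s (unpick K z)) || inGrp K s (unpick K z))

theorem okS1_of {k5 : ℕ} {tab : List (ℕ × T5)} {P : Plan} {K : KP} {D : List Sol} {Cs : List (List ℕ)}
    (hC : Cs.flatten = E3.centsP 5) (h : ∀ l ∈ Cs, okS2 k5 tab P K D l = true) : okS1 k5 tab P K D = true := by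
  simp only [okS1, List.all_eq_true, ← hC, List.mem_flatten]
  rintro C ⟨l, hl, hCl⟩
  exact List.all_eq_true.mp (h l hl) C hCl

theorem okZ_of {k5 : ℕ} {tab : List (ℕ × T5)} {P : Plan} {K : KP} {Cs : List (List ℕ)} (hne : Cs ≠ [])
    (hC : Cs.flatten = E3.centsP 7) (h : ∀ l ∈ Cs, okZ2 k5 tab P K l = true) : okZ 22 k5 tab P K = true := by
  cases hK : K.sols.isEmpty
  swap
  · simp [okZ, hK]
  obtain ⟨l0, hl0⟩ := List.exists_mem_of_ne_nil _ hne
  have h0 := h l0 hl0
  simp only [okZ2, hK, Bool.false_or, Bool.and_eq_true] at h0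
  simp only [okZ, hK, Bool.false_or, Bool.and_eq_true]
  refine ⟨h0.1, ?_⟩
  rw [List.all_eq_true]
  intro C hCm
  rw [← hC, List.mem_flatten] at hCm
  obtain ⟨l, hl, hCl⟩ := hCm
  have h1 := h l hl
  simp only [okZ2, hK, Bool.false_or, Bool.and_eq_true] at h1
  exact List.all_eq_true.mp h1.2 C hCl

/-- One list for the member of degree 22, from its parts; `D` lists the solutions with nothing in the block
for `11`. -/
theorem okPlan_of22 {k5 : ℕ} {tabS tabZ : List (ℕ × T5)} {P : Plan} (D : List Sol)
    (hk : P.ks.map KP.k7 = [192, 24, 3]) (hY : okY k5 P = true) (hW : P.ks.all (okW 22 k5 P) = true)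
    (hS : ∀ K ∈ P.ks, K.ryw.isEmpty = true ∨ okS1 k5 tabS P K D = true) (hD : ∀ s ∈ D, deadS P.es s = true)
    (hZ : ∀ K ∈ P.ks, okZ 22 k5 tabZ P K = true) (hM : P.ks.all (okM P) = true) :
    okPlan 22 k5 tabS tabZ P = true := by
  rw [List.all_eq_true] at hW hM
  have hS' : ∀ K ∈ P.ks, okS k5 tabS P K = true := fun K hK => by
    rcases hS K hK with h | h
    · simp [okS, h]
    · exact okS_of h hD
  have h : ∀ k ∈ k7s 22, (P.ks.any fun K => decide (K.k7 = k) && okW 22 k5 P K && okS k5 tabS P K &&
      okZ 22 k5 tabZ P K && okM P K) = true := fun k hk' => by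
    rw [show k7s 22 = [192, 24, 3] from rfl, ← hk] at hk'
    obtain ⟨K, hK, rfl⟩ := List.mem_map.mp hk'
    exact List.any_eq_true.mpr ⟨K, hK, by simp [hW K hK, hS' K hK, hZ K hK, hM K hK]⟩
  simp only [okPlan, hY, Bool.true_and, Bool.or_eq_true, List.all_eq_true]
  exact Or.inl (Or.inr h)

/-- The table test of a list of lists, at each of them. -/
theorem all_flatten_ok {α : Type} {f : α → Bool} {ls : List (List α)} (h : ∀ l ∈ ls, l.all f = true) :
    ∀ P ∈ ls.flatten, f P = true := fun P hP => by
  obtain ⟨l, hl, hPl⟩ := List.mem_flatten.mp hP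
  exact List.all_eq_true.mp (h l hl) P hPl

end CfsgLib.M24Order.E6
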