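import Cfsg.Agent.Lib.M24Order.Keys6Glue22

/-!
# Simple groups of order 244823040, `|N(P₇) : C(P₇)| = 6`: the block for `11` in parts

The lists of further members may be sorted into classes.
-/

set_option autoImplicit false

namespace CfsgLib.M24Order.E6

open CfsgLib.M24Order

/-- No values in the block for `11` for the lists of further members chosen by `sel`. -/
def deadPart (sel : List ℤ → Bool) (es : List TEnt) (s : Sol) : Bool :=
  allMs (ents es) fun ms0 =>
    !sel ms0 || (linkOn es && !ms0.contains (-230)) || forceL (arrange es ms0) fun ms => noB11 true 1 es s ms

/-- The lists in a class, from two halves of it. -/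
theorem deadPart_split {sel : List ℤ → Bool} (q : List ℤ → Bool) {es : List TEnt} {s : Sol}
    (h : deadPart (fun ms => sel ms && q ms) es s = true) (h' : deadPart (fun ms => sel ms && !q ms) es s = true) :
    deadPart sel es s = true := by
  simp only [deadPart] at h h' ⊢
  refine allMs_imp (fun ms a b => ?_) h h'
  revert a b
  cases sel ms <;> cases q ms <;> simp

theorem deadS_of_part {es : List TEnt} {s : Sol} (h : deadPart (fun _ => true) es s = true) : deadS es s = true := by
  simpa [deadPart, deadS] using h

end CfsgLib.M24Order.E6
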