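import Cfsg.Agent.Lib.M24Order.Keys6Defs
import Cfsg.Agent.Lib.M24Order.Sound11
import Cfsg.Agent.Lib.M24Order.Dfs6

/-!
# Simple groups of order 244823040, `|N(P₇) : C(P₇)| = 6`: checks of one list in parts

The searches pass with a weaker test if they pass with a stronger one, so the test at the involution inverting
`P₁₁` may be split: the search against a list of solutions, and each listed solution by itself.
-/

set_option autoImplicit false

namespace CfsgLib.M24Order.E6

open CfsgLib.M24Order

theorem allK_mono {f f' : E3.Item → ℕ → Bool} (hf : ∀ i k, f i k = true → f' i k = true) :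
    ∀ {l : List (E3.Item × ℕ)}, allK f l = true → allK f' l = true
  | [], _ => rfl
  | (i, k) :: l, h => by
    simp only [allK] at h ⊢
    cases hj : f i k
    · rw [hj] at h; exact Bool.noConfusion h
    · rw [hj] at h
      rw [hf i k hj]
      exact allK_mono hf h

theorem cond_true_mono {c a b : Bool} (hab : a = true → b = true) (h : cond c a true = true) :
    cond c b true = true := by
  cases c
  · rfl
  · exact hab h

theorem dfs6_mono {BV BW BU : ℕ} {fin fin' : List ℤ → Bool} (hf : ∀ vs, fin vs = true → fin' vs = true) :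
    ∀ (ls : List L6) (prev R v w u : ℕ) (acc : List ℤ), dfs6 BV BW BU fin ls prev R v w u acc = true →
      dfs6 BV BW BU fin' ls prev R v w u acc = true
  | [], prev, R, v, w, u, acc, h => by
    simp only [dfs6] at h ⊢
    exact cond_true_mono (cond_true_mono (cond_true_mono (hf _))) h
  | l :: ls, prev, R, v, w, u, acc, h => by
    simp only [dfs6, forceS_eq] at h ⊢
    refine cond_true_mono (allK_mono fun i k => ?_) h
    exact cond_true_mono (cond_true_mono (cond_true_mono (dfs6_mono hf ls _ _ _ _ _ _)))

theorem mkL6_mono {f f' : List L6 → Bool} (hf : ∀ x, f x = true → f' x = true) :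
    ∀ (ls : List E3.Lvl) (Vs : List E3.Var), mkL6 ls Vs f = true → mkL6 ls Vs f' = true := by
  intro ls
  induction ls generalizing f f' with
  | nil => exact fun Vs h => by simp only [mkL6] at h ⊢; exact hf _ h
  | cons l ls ih =>
    intro Vs h
    cases Vs with
    | nil => simp only [mkL6] at h ⊢; exact hf _ h
    | cons V Vs =>
      simp only [mkL6, forceS_eq, forceKs_eq] at h ⊢
      exact ih (fun x hx => hf _ hx) Vs h

/-- A search passes with a weaker test. -/
theorem searchCol_mono {C : ℕ} {spec dd : Bool} {es : List TEnt} {tab : List (ℕ × T5)} {us : List ℤ}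
    {ref : Option Sol} {fin fin' : Sol → Bool} (hf : ∀ s, fin s = true → fin' s = true)
    (h : searchCol C spec dd es tab us ref fin = true) : searchCol C spec dd es tab us ref fin' = true := by
  simp only [searchCol, forceN_eq, search6, E3.forceLvls_eq, forceS_eq, Bool.or_eq_true, List.isEmpty_iff,
    List.map_eq_nil_iff] at h ⊢
  rcases h with h | h
  · exact Or.inl h
  refine Or.inr (mkL6_mono (fun x hx => ?_) _ _ h)
  simp only [List.all_eq_true, List.forall_mem_map] at hx ⊢
  intro c hc
  refine dfs6_mono (fun vs hvs => ?_) _ _ _ _ _ _ _ (hx c hc)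
  simp only [seedCol, List.all_eq_true, Bool.or_eq_true] at hvs ⊢
  exact fun p hp => (hvs p hp).imp id (hf _)

/-- The test at the involution inverting `P₁₁`, against a list of solutions with nothing in the block for `11`. -/
def finS (k5 : ℕ) (P : Plan) (K : KP) (D : List Sol) (s : Sol) : Bool :=
  K.sols.contains s || !(K.ryw.any fun p => compY k5 P.es s p.1 && compW K.k7 P.es s p.2) || decide (s ∈ D)

/-- The search at the involution inverting `P₁₁` against a list. -/
def okS1 (k5 : ℕ) (tab : List (ℕ × T5)) (P : Plan) (K : KP) (D : List Sol) : Bool :=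
  (E3.centsP 5).all fun C => forceN C fun C => searchCol C true true P.es tab [] none (finS k5 P K D)

theorem okS_of {k5 : ℕ} {tab : List (ℕ × T5)} {P : Plan} {K : KP} {D : List Sol}
    (h : okS1 k5 tab P K D = true) (hD : ∀ s ∈ D, deadS P.es s = true) : okS k5 tab P K = true := by
  simp only [okS1, List.all_eq_true, forceN_eq] at h
  simp only [okS, forceN_eq, Bool.or_eq_true, List.all_eq_true]
  refine Or.inr fun C hC => searchCol_mono (fun s hs => ?_) (h C hC)
  simp only [finS, Bool.or_eq_true, decide_eq_true_eq] at hs
  rcases hs with (h1 | h2) | h3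
  · exact Bool.or_eq_true _ _ ▸ Or.inl (Bool.or_eq_true _ _ ▸ Or.inl h1)
  · exact Bool.or_eq_true _ _ ▸ Or.inl (Bool.or_eq_true _ _ ▸ Or.inr h2)
  · exact Bool.or_eq_true _ _ ▸ Or.inr (hD s h3)

/-- One list, from its parts; `D` lists the solutions with nothing in the block for `11`. -/
theorem okPlan_of {k5 : ℕ} {tabS tabZ : List (ℕ × T5)} {P : Plan} (D : List Sol)
    (hk : P.ks.map KP.k7 = [24, 3]) (hY : okY k5 P = true) (hW : P.ks.all (okW 3520 k5 P) = true)
    (hS : (P.ks.all fun K => K.ryw.isEmpty || okS1 k5 tabS P K D) = true) (hD : ∀ s ∈ D, deadS P.es s = true)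
    (hZ : P.ks.all (okZ 3520 k5 tabZ P) = true) (hM : P.ks.all (okM P) = true) :
    okPlan 3520 k5 tabS tabZ P = true := by
  rw [List.all_eq_true] at hW hS hZ hM
  have hS' : ∀ K ∈ P.ks, okS k5 tabS P K = true := fun K hK => by
    rcases Bool.or_eq_true _ _ ▸ hS K hK with h | h
    · simp [okS, h]
    · exact okS_of h hD
  have h : ∀ k ∈ k7s 3520, (P.ks.any fun K => decide (K.k7 = k) && okW 3520 k5 P K && okS k5 tabS P K &&
      okZ 3520 k5 tabZ P K && okM P K) = true := fun k hk' => by
    rw [show k7s 3520 = [24, 3] from rfl, ← hk] at hk'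
    obtain ⟨K, hK, rfl⟩ := List.mem_map.mp hk'
    exact List.any_eq_true.mpr ⟨K, hK, by simp [hW K hK, hS' K hK, hZ K hK, hM K hK]⟩
  simp only [okPlan, hY, Bool.true_and, Bool.or_eq_true, List.all_eq_true]
  exact Or.inl (Or.inr h)

theorem allM_nil_eq (n : ℕ) (t b : ℤ) (cur : List ℤ) (P : List ℤ → Bool) :
    E3.allM [] n t b cur P = (!(decide (n = 0) && decide (t = 0) && decide (0 ≤ b)) || P cur) := rfl

theorem allM_cons_eq (x : ℤ) (F : List ℤ) (n : ℕ) (t b : ℤ) (cur : List ℤ) (P : List ℤ → Bool) :
    E3.allM (x :: F) n t b cur P =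
      (if n = 0 then !(decide (t = 0) && decide (0 ≤ b)) || P cur
      else decide (b < (n : ℤ) * E3.minI ((x :: F).map fun a => a * a)) || decide (t < (n : ℤ) * E3.minI (x :: F)) ||
        decide ((n : ℤ) * E3.maxI (x :: F) < t) ||
        (List.range (n + 1)).all fun j => forceN j fun j => forceI (t - (j : ℤ) * x) fun t' =>
          forceI (b - (j : ℤ) * (x * x)) fun b' => E3.allM F (n - j) t' b' (cur ++ List.replicate j x) P) := rfl

theorem allM_imp {P Q R : List ℤ → Bool} (hR : ∀ ms, P ms = true → Q ms = true → R ms = true) :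
    ∀ (F : List ℤ) (n : ℕ) (t b : ℤ) (cur : List ℤ), E3.allM F n t b cur P = true → E3.allM F n t b cur Q = true →
      E3.allM F n t b cur R = true
  | [], n, t, b, cur, h, h' => by
    simp only [allM_nil_eq, Bool.or_eq_true] at h h' ⊢
    rcases h with h | h
    · exact Or.inl h
    rcases h' with h' | h'
    · exact Or.inl h'
    exact Or.inr (hR _ h h')
  | x :: F, n, t, b, cur, h, h' => by
    rw [allM_cons_eq] at h h' ⊢
    by_cases hn : n = 0
    · rw [if_pos hn] at h h' ⊢
      simp only [Bool.or_eq_true] at h h' ⊢
      rcases h with h | h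
      · exact Or.inl h
      rcases h' with h' | h'
      · exact Or.inl h'
      exact Or.inr (hR _ h h')
    · rw [if_neg hn] at h h' ⊢
      simp only [Bool.or_eq_true, List.all_eq_true, forceN_eq, forceI_eq] at h h' ⊢
      rcases h with h | h
      · exact Or.inl h
      rcases h' with h' | h'
      · exact Or.inl h'
      exact Or.inr fun j hj => allM_imp hR F _ _ _ _ (h j hj) (h' j hj)

theorem allMs_imp {es : List E3.Ent} {P Q R : List ℤ → Bool}
    (hR : ∀ ms, P ms = true → Q ms = true → R ms = true) (h : allMs es P = true) (h' : allMs es Q = true) :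
    allMs es R = true := by
  simp only [allMs, Bool.or_eq_true] at h h' ⊢
  rcases h with h | h
  · exact Or.inl h
  rcases h' with h' | h'
  · exact Or.inl h'
  exact Or.inr (allM_imp hR _ _ _ _ _ h h')

/-- The block for `11`, in two parts of the pairs of classes. -/
theorem okM_append {P : Plan} {K : KP} {a b : List (Sol × List Sol)} (ha : okM P {K with grp := a} = true)
    (hb : okM P {K with grp := b} = true) : okM P {K with grp := a ++ b} = true := by
  rcases a with _ | ⟨x, a⟩
  · simpa using hb
  rcases b with _ | ⟨y, b⟩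
  · simpa using ha
  simp only [okM, List.isEmpty_cons, List.cons_append, Bool.false_or] at ha hb ⊢
  refine allMs_imp (fun ms h h' => ?_) ha hb
  simp only [forceL_eq, Bool.or_eq_true, List.all_eq_true] at h h' ⊢
  rcases h with h | h
  · exact Or.inl h
  rcases h' with h' | h'
  · exact Or.inl h'
  refine Or.inr fun g hg => ?_
  rw [← List.cons_append] at hg
  exact (List.mem_append.mp hg).elim (h g) (h' g)

/-- The block for `11` at one class, in two parts of the second classes. -/
theorem okM_split {P : Plan} {K : KP} {s : Sol} {za zb : List Sol} (ha : okM P {K with grp := [(s, za)]} = true)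
    (hb : okM P {K with grp := [(s, zb)]} = true) : okM P {K with grp := [(s, za ++ zb)]} = true := by
  simp only [okM, List.isEmpty_cons, Bool.false_or, List.all_cons, List.all_nil, Bool.and_true] at ha hb ⊢
  refine allMs_imp (fun ms h h' => ?_) ha hb
  simp only [forceL_eq, Bool.or_eq_true, List.all_eq_true] at h h' ⊢
  rcases h with h | h | h
  · exact Or.inl h
  · exact Or.inr (Or.inl h)
  rcases h' with h' | h' | h'
  · exact Or.inl h'
  · exact Or.inr (Or.inl h')
  exact Or.inr (Or.inr fun z hz => (List.mem_append.mp hz).elim (h z) (h' z))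

theorem all_app {α : Type*} {f : α → Bool} {a b : List α} (ha : a.all f = true) (hb : b.all f = true) :
    (a ++ b).all f = true := by
  rw [List.all_append, ha, hb]
  rfl

theorem all_one {α : Type*} {f : α → Bool} {a : α} (ha : f a = true) : [a].all f = true := by
  rw [List.all_cons, ha]
  rfl

end CfsgLib.M24Order.E6
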