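import Cfsg.Agent.Lib.M24Order.Keys6Glue22

/-!
# Simple groups of order 244823040, `|N(P₇) : C(P₇)| = 6`: a search in parts

A search at one order of centraliser may be cut at one place into parts of the values there.
-/

set_option autoImplicit false

namespace CfsgLib.M24Order.E6

open CfsgLib.M24Order

/-- The levels with only some of the values at place `i`. -/
def cutAt (g : List (E3.Item × ℕ) → List (E3.Item × ℕ)) : ℕ → List L6 → List L6
  | _, [] => []
  | 0, l :: ls => ⟨l.l, l.nb, g l.items⟩ :: ls
  | i + 1, l :: ls => l :: cutAt g i ls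

/-- The search in a column, with only some of the values at one place. -/
def searchCut (g : List (E3.Item × ℕ) → List (E3.Item × ℕ)) (i C : ℕ) (spec dd : Bool) (es : List TEnt)
    (table : List (ℕ × T5)) (us : List ℤ) (ref : Option Sol) (fin : Sol → Bool) : Bool :=
  forceN (lcmT es) fun L =>
      let Vs := vars C spec dd L none es us
      let seeds := (nub ((table.filter fun p => decide (p.1 = C)).map fun p => p.2.c)).map
        (seedCol C L es (table.filter fun p => decide (p.1 = C)) ref fin)
      seeds.isEmpty || (Vs.any fun V => V.os.isEmpty) ||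
        E3.forceLvls (E3.mkLvls false Vs) fun ls0 => mkL6 ls0 Vs fun ls =>
          forceS (E3.biases Vs).1 fun bv => forceS (E3.biases Vs).2.1 fun bw => forceS (E3.biases Vs).2.2 fun bu =>
            seeds.all fun t => forceS (bv + (-t.v).toNat) fun BV => forceS (bw + (-t.w).toNat) fun BW =>
              forceS (bu + (-t.u).toNat) fun BU => forceS t.v.toNat fun v => forceS t.w.toNat fun w =>
                forceS t.u.toNat fun u => forceS t.R fun R => dfs6 BV BW BU t.fin (cutAt g i ls) 0 R v w u []

theorem allK_split {f : E3.Item → ℕ → Bool} (n : ℕ) : ∀ {l : List (E3.Item × ℕ)},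
    allK f (l.take n) = true → allK f (l.drop n) = true → allK f l = true := by
  induction n with
  | zero => intro l _ h; simpa using h
  | succ n ih =>
    intro l h h'
    rcases l with _ | ⟨⟨i, k⟩, l⟩
    · rfl
    simp only [List.take_succ_cons, List.drop_succ_cons, allK] at h h' ⊢
    cases hj : f i k
    · rw [hj] at h; exact Bool.noConfusion h
    · rw [hj] at h
      exact ih h h'

theorem allK_and {f f' f'' : E3.Item → ℕ → Bool} (hf : ∀ i k, f i k = true → f' i k = true → f'' i k = true) :
    ∀ {l : List (E3.Item × ℕ)}, allK f l = true → allK f' l = true → allK f'' l = true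
  | [], _, _ => rfl
  | (i, k) :: l, h, h' => by
    simp only [allK] at h h' ⊢
    cases hj : f i k
    · rw [hj] at h; exact Bool.noConfusion h
    cases hj' : f' i k
    · rw [hj'] at h'; exact Bool.noConfusion h'
    rw [hj] at h; rw [hj'] at h'; rw [hf i k hj hj']
    exact allK_and hf h h'

theorem cond_true_and {c a b d : Bool} (hab : a = true → b = true → d = true) (h : cond c a true = true)
    (h' : cond c b true = true) : cond c d true = true := by
  cases c
  · rfl
  · exact hab h h'

theorem dfs6_split {BV BW BU : ℕ} {fin : List ℤ → Bool} (g : List (E3.Item × ℕ) → List (E3.Item × ℕ)) (n : ℕ) :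
    ∀ (i : ℕ) (ls : List L6) (prev R v w u : ℕ) (acc : List ℤ),
      dfs6 BV BW BU fin (cutAt (fun l => (g l).take n) i ls) prev R v w u acc = true →
      dfs6 BV BW BU fin (cutAt (fun l => (g l).drop n) i ls) prev R v w u acc = true →
      dfs6 BV BW BU fin (cutAt g i ls) prev R v w u acc = true
  | i, [], prev, R, v, w, u, acc, h, _ => by cases i <;> simpa only [cutAt] using h
  | 0, l :: ls, prev, R, v, w, u, acc, h, h' => by
    simp only [cutAt, dfs6, forceS_eq] at h h' ⊢
    exact cond_true_and (allK_split n) h h'
  | i + 1, l :: ls, prev, R, v, w, u, acc, h, h' => by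
    simp only [cutAt, dfs6, forceS_eq] at h h' ⊢
    refine cond_true_and (allK_and fun a k => ?_) h h'
    exact cond_true_and (cond_true_and (cond_true_and (dfs6_split g n i ls _ _ _ _ _ _)))

theorem mkL6_and {f f' f'' : List L6 → Bool} (hf : ∀ x, f x = true → f' x = true → f'' x = true) :
    ∀ (ls : List E3.Lvl) (Vs : List E3.Var), mkL6 ls Vs f = true → mkL6 ls Vs f' = true → mkL6 ls Vs f'' = true := by
  intro ls
  induction ls generalizing f f' f'' with
  | nil => exact fun Vs h h' => by simp only [mkL6] at h h' ⊢; exact hf _ h h'
  | cons l ls ih =>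
    intro Vs h h'
    cases Vs with
    | nil => simp only [mkL6] at h h' ⊢; exact hf _ h h'
    | cons V Vs =>
      simp only [mkL6, forceS_eq, forceKs_eq] at h h' ⊢
      exact ih (fun x hx hx' => hf _ hx hx') Vs h h'

/-- A part of a search, from two. -/
theorem searchCut_split (g : List (E3.Item × ℕ) → List (E3.Item × ℕ)) (n : ℕ) {i C : ℕ} {spec dd : Bool}
    {es : List TEnt} {tab : List (ℕ × T5)} {us : List ℤ} {ref : Option Sol} {fin : Sol → Bool}
    (h : searchCut (fun l => (g l).take n) i C spec dd es tab us ref fin = true)
    (h' : searchCut (fun l => (g l).drop n) i C spec dd es tab us ref fin = true) :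
    searchCut g i C spec dd es tab us ref fin = true := by
  simp only [searchCut, forceN_eq, E3.forceLvls_eq, forceS_eq, Bool.or_eq_true] at h h' ⊢
  rcases h with h | h
  · exact Or.inl h
  rcases h' with h' | h'
  · exact Or.inl h'
  refine Or.inr (mkL6_and (fun x hx hx' => ?_) _ _ h h')
  simp only [List.all_eq_true] at hx hx' ⊢
  exact fun t ht => dfs6_split g n i x _ _ _ _ _ _ (hx t ht) (hx' t ht)

theorem cutAt_id : ∀ (i : ℕ) (ls : List L6), cutAt (fun l => l) i ls = ls
  | i, [] => by cases i <;> rfl
  | 0, _ :: _ => rfl
  | i + 1, l :: ls => by rw [cutAt, cutAt_id i ls]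

/-- The whole search, as the part with all values. -/
theorem searchCol_of_cut {i C : ℕ} {spec dd : Bool} {es : List TEnt} {tab : List (ℕ × T5)} {us : List ℤ}
    {ref : Option Sol} {fin : Sol → Bool}
    (h : searchCut (fun l => l) i C spec dd es tab us ref fin = true) :
    searchCol C spec dd es tab us ref fin = true := by
  simp only [searchCut, forceN_eq, cutAt_id] at h
  simp only [searchCol, forceN_eq, search6]
  exact h

/-- The test at the involution centralising `P₇`, for a list without the second linear condition. -/
def finZ (k5 : ℕ) (P : Plan) (K : KP) (z : Sol) : Bool :=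
  K.sols.all fun s => !(compat2 k5 K.k7 P.es K.ryw s (unpick K z)) || inGrp K s (unpick K z)

theorem okZ2_one {k5 C : ℕ} {tab : List (ℕ × T5)} {P : Plan} {K : KP} (hx : K.useX = false)
    (h0 : okZ2 k5 tab P K [] = true)
    (h : searchCol C false false (E3.pick P.es ((0, 0), 0) K.zp) tab [] none (finZ k5 P K) = true) :
    okZ2 k5 tab P K [C] = true := by
  cases hK : K.sols.isEmpty
  swap
  · simp [okZ2, hK]
  simp only [okZ2, hK, Bool.false_or, List.all_nil, Bool.and_true] at h0
  unfold finZ at h
  simp only [hx] at h0
  simp only [okZ2, hK, Bool.false_or, List.all_cons, List.all_nil, forceN_eq, hx, Bool.false_eq_true, if_false, h,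
    Bool.and_true]
  exact h0

end CfsgLib.M24Order.E6
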