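import Cfsg.Agent.Lib.M24Order.CharDefs

/-!
# Simple groups of order 244823040: the computations for the prime 23, definitions
-/

set_option autoImplicit false

namespace CfsgLib.M24Order

open CfsgLib.BrauerTuan CfsgLib.OrderBlocks

/-- The possible degrees: the divisors of the order below the bound. -/
def dN : List ℕ := (divs [1024, 27, 5, 7, 11, 23]).filter fun d => decide (d ≤ 15646)

/-- The signed degrees of `xList`, from the divisors. -/
def fastX (p k ec : ℕ) : List ℤ :=
  (dN.filter fun d => decide (ec % d = 0)).flatMap fun x => ([1, -1] : List ℤ).filterMap fun s =>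
    if degOK 244823040 p k ec [5, 7, 11, 23] x && decide (((x : ℤ) - s) % p = 0) &&
        (decide (k % 2 = 1) || invOK p x s) &&
        (decide (k = 1) || decide (s ≠ 1) || decide (x ≠ p + 1)) then
      some (s * x) else none

/-- The signed degrees of `yList`, from the divisors. -/
def fastY (p k ec e : ℕ) : List ℤ :=
  (dN.filter fun d => decide (ec % d = 0)).flatMap fun x => ([1, -1] : List ℤ).filterMap fun s =>
    if degOK 244823040 p k ec [5, 7, 11, 23] x && decide (((x : ℤ) - s * e) % p = 0) then
      some (s * x) else none

/-- No list of signed degrees satisfies the degree equation of the block. -/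
def infeas (p e : ℕ) (X Y : List ℤ) : Bool :=
  if e + 1 = p then (combos X e).all fun xs => decide (xs.sum ≠ -1)
  else (combos X (e - 1)).all fun xs => !Y.contains (1 + xs.sum)

/-- The values congruent to `r` modulo `23` of a character of degree `d` at an involution with centraliser of
order `C`. -/
def vOpts (C d : ℕ) (r : ℤ) : List ℤ :=
  let G := Nat.gcd (244823040 / C) d
  let g := d / G
  match (List.range 23).find? fun j => decide (((g * j : ℕ) : ℤ) % 23 = r % 23) with
  | none => []
  | some j0 => (((List.range (2 * (G / 23 + 1) + 1)).map fun m : ℕ =>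
      (g : ℤ) * ((j0 : ℤ) + 23 * ((m : ℤ) - (G / 23 + 1 : ℕ)))).filter fun A =>
      decide (A.natAbs < d) && decide (((d : ℤ) - A) % 4 = 0) && decide (A * A ≤ (C : ℤ)))

/-- The items of the members: signed degree, signed value, square of the value. -/
def items (C : ℕ) (X : List ℤ) : List (ℤ × ℤ × ℤ) :=
  X.flatMap fun x => (vOpts C x.natAbs (sgn x)).map fun A => (x, sgn x * A, A * A)

/-- What the items of the rational members have to add up to. -/
def targets (e C : ℕ) (Y : List ℤ) : List (ℤ × ℤ × ℤ) :=
  if e = 22 then [(-1, -1, 0)]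
  else Y.flatMap fun y => (vOpts C y.natAbs (y.natAbs : ℤ)).map fun A => (y - 1, sgn y * A - 1, 2 * (A * A))

/-- `n` values from `a :: l` cannot add up to `T`. -/
def linBad (n : ℕ) (a : ℤ) (l : List ℤ) (T : ℤ) : Bool :=
  decide (T < n * l.foldr min a) || decide (n * l.foldr max a < T) ||
    decide ((T - n * a) % (l.foldr (fun b g => Nat.gcd (b - a).natAbs g) 0 : ℕ) ≠ 0)

/-- `n` items cannot reach any target. -/
def noSum (n C : ℕ) (opts tg : List (ℤ × ℤ × ℤ)) : Bool :=
  match opts with
  | [] => decide (0 < n)
  | o :: os => tg.all fun t =>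
      decide ((C : ℤ) < 1 + t.2.2 + n * (os.map fun a => a.2.2).foldr min o.2.2) ||
        linBad n o.1 (os.map fun a => a.1) t.1 ||
        linBad n o.2.1 (os.map fun a => a.2.1) t.2.1 ||
        linBad n (o.1 - o.2.1) (os.map fun a => a.1 - a.2.1) (t.1 - t.2.1)

/-- The orders of centralisers divisible by `506`. -/
def cents23 : List ℕ := (divs [512, 27, 5, 7]).map (506 * ·)

/-- No block fits any centraliser. -/
def kill23 (c e k : ℕ) : Bool :=
  cents23.all fun C => noSum (if e = 22 then 22 else 10) C (items C (fastX 23 k (e * c)))
    (targets e C (fastY 23 k (e * c) e))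

end CfsgLib.M24Order
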