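import Cfsg.Agent.Lib.M24Order.Keys4Data

/-!
# Simple groups of order 244823040: the values at the involution inverting `P₁₁`, k = 192
-/

set_option autoImplicit false
set_option Elab.async false

namespace CfsgLib.M24Order.E3

set_option maxRecDepth 100000
set_option maxHeartbeats 0

theorem key_S192_0 : plans192_0.all (okS 192 tabS192) = true := by decide +kernel

/-- A check on a list from a segment and the rest. -/
theorem all_of_cut {α : Type} {L : List α} {f : α → Bool} (n : ℕ) (h : (L.take n).all f = true)
    (h' : (L.drop n).all f = true) : L.all f = true := by
  rw [← List.take_append_drop n L, List.all_append, h, h']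
  rfl

/-- The part of `okS` for one order of a centraliser. -/
def bodyS (k : ℕ) (table : List (ℕ × Tup)) (P : Plan) (C : ℕ) : Bool :=
  searchCol C true true P.es table [] none fun s => P.sols.contains s || !(P.ry.any fun cur => compat k P.es s cur)

theorem okS_of_all {k : ℕ} {table : List (ℕ × Tup)} {P : Plan}
    (h : (centsP 5).all (bodyS k table P) = true) : okS k table P = true := by
  have e : okS k table P = (P.ry.isEmpty || (centsP 5).all (bodyS k table P)) := rfl
  rw [e, h, Bool.or_true]

theorem S192_live0_a : ((centsP 5).take 36).all (bodyS 192 tabS192 live192_0) = true := by decide +kernel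

theorem S192_live0_b : (((centsP 5).drop 36).take 18).all (bodyS 192 tabS192 live192_0) = true := by decide +kernel

theorem S192_live0_c : (((centsP 5).drop 36).drop 18).all (bodyS 192 tabS192 live192_0) = true := by decide +kernel

theorem S192_seg1_a : (plans192_1.take 3).all (okS 192 tabS192) = true := by decide +kernel

theorem S192_seg1_b : ((plans192_1.drop 3).drop 1).all (okS 192 tabS192) = true := by decide +kernel

theorem key_S192_1 : plans192_1.all (okS 192 tabS192) = true := by
  refine all_of_cut 3 S192_seg1_a (all_of_cut 1 ?_ S192_seg1_b)
  show [live192_0].all (okS 192 tabS192) = true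
  rw [List.all_cons, List.all_nil, Bool.and_true]
  exact okS_of_all (all_of_cut 36 S192_live0_a (all_of_cut 18 S192_live0_b S192_live0_c))

theorem key_S192_2 : plans192_2.all (okS 192 tabS192) = true := by decide +kernel

theorem key_S192_3 : plans192_3.all (okS 192 tabS192) = true := by decide +kernel

end CfsgLib.M24Order.E3
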