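import Cfsg.Agent.Lib.M24Order.Keys4Data

/-!
# Simple groups of order 244823040: the tables of values and lists
-/

set_option autoImplicit false
set_option Elab.async false

namespace CfsgLib.M24Order.E3

set_option maxRecDepth 100000
set_option maxHeartbeats 0

theorem key_tabS192 : checkTups 192 true 5 tabS192 = true := by decide +kernel

theorem key_tabS32 : checkTups 32 true 5 tabS32 = true := by decide +kernel

theorem key_tabS12 : checkTups 12 true 5 tabS12 = true := by decide +kernel

theorem key_tabS2 : checkTups 2 true 5 tabS2 = true := by decide +kernel

end CfsgLib.M24Order.E3
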