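import Cfsg.Agent.Lib.M24Order.Point
import Cfsg.Agent.Lib.M23Order.Blocks

/-!
# Simple groups of order 244823040: the octads through one point
-/

set_option autoImplicit false
set_option linter.unusedSectionVars false
set_option linter.style.haveILetI false

namespace CfsgLib.M24Order

open Cfsg CfsgLib
open scoped Pointwise
open CfsgLib.M23Order (cen core nor blockPts Setup mem_cen norm_conj smul_mk_eq order_conj ne_one_of_order)

universe u v

variable {G : Type u} [Group G] [Finite G] {X : Type v} [MulAction G X] [Finite X] [IsSimpleGroup G]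
  (A : Act G X)

/-- The fixed points of an element. -/
abbrev fixSet (X : Type v) [MulAction G X] (u : G) : Set X := {y | u • y = y}

include A

/-- A standing situation of M23 at each point. -/
theorem exists_setup (q : X) : ∃ (t : MulAction.stabilizer G q) (a : SubMulAction.ofStabilizer G q),
    Setup t (MulAction.stabilizer (MulAction.stabilizer G q) a) := by
  classical
  haveI := stab_simple A q
  haveI := stab_trans A q
  have FM := stab_facts A q
  haveI : Fact (Nat.Prime 2) := ⟨Nat.prime_two⟩
  obtain ⟨t, -, ht⟩ := exists_order_in Nat.prime_two (K := (⊤ : Subgroup (MulAction.stabilizer G q)))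
    (by rw [Subgroup.card_top, card_stab A q]; norm_num)
  set S : Set (SubMulAction.ofStabilizer G q) := MulAction.fixedBy (SubMulAction.ofStabilizer G q) t with hS
  have hS7 : S.ncard = 7 := by
    rw [hS]
    have h := card_fixedBy A q t
    rw [(fix_vals A (show (t : G) • q = q from t.2)).1 (by rw [Subgroup.orderOf_coe, ht]), Nat.card_coe_set_eq] at h
    omega
  obtain ⟨s, hsc, hs⟩ := exists_order_in (by norm_num : Nat.Prime 7) (K := cen t) (by rw [(stab_facts A q).card_invol t ht]; norm_num)
  have hinvS : ∀ c ∈ cen t, ∀ z ∈ S, c • z ∈ S := fun c hc z (hz : t • z = z) => by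
    show t • c • z = c • z
    rw [← mul_smul, ← mem_cen.mp hc, mul_smul, hz]
  -- the centraliser is transitive on the seven points
  have htrans : ∀ a ∈ S, MulAction.orbit (cen t) a = S := by
    intro a ha
    refine Set.eq_of_subset_of_ncard_le (by rintro _ ⟨c, rfl⟩; exact hinvS c c.2 a ha) ?_ (Set.toFinite _)
    have hinv : ∀ z ∈ MulAction.orbit (cen t) a, s • z ∈ MulAction.orbit (cen t) a := fun z hz =>
      MulAction.mem_orbit_of_mem_orbit (⟨s, hsc⟩ : cen t) hz
    have h1 := set_mod_fixed (by norm_num : Nat.Prime 7) hs _ hinv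
    have h2 := set_mod_fixed (by norm_num : Nat.Prime 7) hs S fun z hz => hinvS s hsc z hz
    have hpos : 1 ≤ (MulAction.orbit (cen t) a).ncard :=
      (Set.ncard_pos (Set.toFinite _)).mpr ⟨a, MulAction.mem_orbit_self a⟩
    have hsfix : {z : SubMulAction.ofStabilizer G q | s • z = z}.ncard = 2 := by
      have h := card_fixedBy A q s
      rw [(fix_vals A (show (s : G) • q = q from s.2)).2.2.2 (by rw [Subgroup.orderOf_coe, hs]), Nat.card_coe_set_eq] at h
      show (MulAction.fixedBy (SubMulAction.ofStabilizer G q) s).ncard = 2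
      omega
    have l1 := Set.ncard_le_ncard
      (Set.inter_subset_right : S ∩ {z | s • z = z} ⊆ {z | s • z = z}) (Set.toFinite _)
    have hsub : MulAction.orbit (cen t) a ⊆ S := by rintro _ ⟨c, rfl⟩; exact hinvS c c.2 a ha
    have l2 := Set.ncard_le_ncard
      (Set.inter_subset_inter_left {z | s • z = z} hsub) (Set.toFinite _)
    have l3 := Set.ncard_le_ncard hsub (Set.toFinite _)
    rw [hsfix] at l1
    rw [hS7] at h2 l3 ⊢
    simp only [Nat.ModEq] at h1 h2
    omega
  obtain ⟨a, ha⟩ : S.Nonempty := Set.nonempty_of_ncard_ne_zero (by rw [hS7]; norm_num)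
  -- the core fixes them all
  have hcore : ∀ e ∈ core t, ∀ z ∈ S, e • z = z := by
    have hp : IsPGroup 2 (core t) := IsPGroup.of_card (n := 4) (M23Order.card_core FM ht)
    have hinv : ∀ e : core t, ∀ z ∈ S, (e : MulAction.stabilizer G q) • z ∈ S :=
      fun e => hinvS _ (M23Order.core_le t e.2)
    letI : MulAction (core t) S :=
      { smul := fun e z => ⟨(e : MulAction.stabilizer G q) • (z : SubMulAction.ofStabilizer G q), hinv e z z.2⟩
        one_smul := fun z => Subtype.ext (one_smul (MulAction.stabilizer G q) (z : SubMulAction.ofStabilizer G q))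
        mul_smul := fun e e' z => Subtype.ext (mul_smul (e : MulAction.stabilizer G q) (e' : MulAction.stabilizer G q)
          (z : SubMulAction.ofStabilizer G q)) }
    obtain ⟨z₀, hz₀⟩ := hp.nonempty_fixed_point_of_prime_not_dvd_card S (by rw [Nat.card_coe_set_eq, hS7]; norm_num)
    intro e he z hz
    obtain ⟨c, hc⟩ : z ∈ MulAction.orbit (cen t) (z₀ : SubMulAction.ofStabilizer G q) := by
      rw [htrans _ z₀.2]; exact hz
    rw [← hc]
    show e • ((c : MulAction.stabilizer G q) • (z₀ : SubMulAction.ofStabilizer G q)) =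
      (c : MulAction.stabilizer G q) • (z₀ : SubMulAction.ofStabilizer G q)
    have hc' : (c : MulAction.stabilizer G q)⁻¹ * e * c ∈ core t := by
      have h := M23Order.core_conj (t := t) (c := (c : MulAction.stabilizer G q)⁻¹) (q := e)
        ((show Commute (c : MulAction.stabilizer G q) t from mem_cen.mp c.2).inv_left) he
      rwa [inv_inv] at h
    rw [← mul_smul, show e * (c : MulAction.stabilizer G q) = c * ((c : MulAction.stabilizer G q)⁻¹ * e * c) by group,
      mul_smul, show ((c : MulAction.stabilizer G q)⁻¹ * e * c) • (z₀ : SubMulAction.ofStabilizer G q) = z₀ from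
        congrArg Subtype.val (hz₀ ⟨_, hc'⟩)]
  refine ⟨t, a, ⟨ht, fun e he => hcore e he a ha, ?_, ?_, ?_⟩⟩
  · rw [MulAction.index_stabilizer_of_transitive, SubMulAction.nat_card_ofStabilizer_eq G q, A.card_X]
  · have horb : MulAction.orbit (nor t) a = S := by
      refine Set.Subset.antisymm ?_ ?_
      · rintro _ ⟨n, rfl⟩
        have h : ((n : MulAction.stabilizer G q)⁻¹ * t * n) • a = a := by
          have h' := hcore _ (norm_conj ((nor t).inv_mem n.2) (M23Order.mem_core_self FM ht)) a ha
          rwa [inv_inv] at h'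
        show t • ((n : MulAction.stabilizer G q) • a) = (n : MulAction.stabilizer G q) • a
        rw [← mul_smul, show t * (n : MulAction.stabilizer G q) = n * ((n : MulAction.stabilizer G q)⁻¹ * t * n) by group,
          mul_smul, h]
      · rw [← htrans a ha]
        rintro _ ⟨c, rfl⟩
        exact ⟨⟨c, M23Order.cen_le_nor FM ht (M23Order.mem_core_self FM ht) (ne_one_of_order ht le_rfl) c.2⟩, rfl⟩
    have e := Nat.card_congr (MulAction.orbitProdStabilizerEquivGroup (nor t) a)
    rw [Nat.card_prod, Nat.card_coe_set_eq, horb, hS7, M23Order.card_nor FM ht] at e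
    have hst : Nat.card (MulAction.stabilizer (nor t) a) = Nat.card ↥(nor t ⊓ (MulAction.stabilizer (MulAction.stabilizer G q) a)) :=
      Nat.card_congr
        { toFun := fun x => ⟨(x.1 : MulAction.stabilizer G q), x.1.2, x.2⟩
          invFun := fun x => ⟨⟨x.1, x.2.1⟩, x.2.2⟩
          left_inv := fun _ => rfl
          right_inv := fun _ => rfl }
    rw [hst] at e
    omega
  · intro g hg
    let φ : (MulAction.stabilizer G q) ⧸ (MulAction.stabilizer (MulAction.stabilizer G q) a) → SubMulAction.ofStabilizer G q :=
      MulAction.ofQuotientStabilizer (MulAction.stabilizer G q) a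
    have hφ : Function.Injective φ := MulAction.injective_ofQuotientStabilizer (MulAction.stabilizer G q) a
    have hφs : Function.Surjective φ := fun z => by
      obtain ⟨k, hk⟩ := MulAction.exists_smul_eq (MulAction.stabilizer G q) a z
      exact ⟨k, hk⟩
    have hset : φ '' {z | g • z = z} = MulAction.fixedBy (SubMulAction.ofStabilizer G q) g := by
      ext z
      obtain ⟨w, rfl⟩ := hφs z
      rw [hφ.mem_set_image]
      show g • w = w ↔ g • φ w = φ w
      rw [show g • φ w = φ (g • w) from (MulAction.ofQuotientStabilizer_smul _ a g w).symm, hφ.eq_iff]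
    have hcard : {z : (MulAction.stabilizer G q) ⧸ (MulAction.stabilizer (MulAction.stabilizer G q) a) | g • z = z}.ncard + 1 = (fixSet X (g : G)).ncard := by
      rw [← Set.ncard_image_of_injective _ hφ, hset, ← Nat.card_coe_set_eq]
      exact card_fixedBy A q g
    have ho : ∀ {n : ℕ}, orderOf g = n → orderOf (g : G) = n := fun h => by rw [Subgroup.orderOf_coe, h]
    refine ⟨fun h => ?_, fun h => ?_, fun h => ?_⟩
    · rw [(fix_vals A (show (g : G) • q = q from g.2)).1 (ho h)] at hcard; omega
    · rw [(fix_vals A (show (g : G) • q = q from g.2)).2.1 (ho h)] at hcard; omega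
    · rw [(fix_vals A (show (g : G) • q = q from g.2)).2.2.1 (ho h)] at hcard; omega

/-- The sets through one point, read off the blocks of a standing situation of M23. -/
theorem octads_of_setup (q : X) {t : MulAction.stabilizer G q} {M' : Subgroup (MulAction.stabilizer G q)}
    (S : Setup t M') [IsSimpleGroup (MulAction.stabilizer G q)] (FM : M23Order.Facts (MulAction.stabilizer G q))
    (ψ : (MulAction.stabilizer G q) ⧸ M' → X) (hψ : Function.Injective ψ) (hψq : ∀ z, ψ z ≠ q)
    (hψs : ∀ y : X, y ≠ q → ∃ z, ψ z = y)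
    (hψm : ∀ (g : MulAction.stabilizer G q) z, ψ (g • z) = (g : G) • ψ z) :
    (∀ u w : G, orderOf u = 2 → orderOf w = 2 → u • q = q → w • q = q → fixSet X u ≠ fixSet X w →
      (fixSet X u ∩ fixSet X w).ncard ≤ 4) ∧
    ∀ s : Set X, s.ncard = 5 → q ∈ s → ∃ u : G, orderOf u = 2 ∧ s ⊆ fixSet X u := by
  classical
  obtain ⟨h7, heq⟩ := M23Order.fix_core FM S
  -- the fixed set of a conjugate of the involution
  have hfix : ∀ g : MulAction.stabilizer G q,
      fixSet X ((g * t * g⁻¹ : MulAction.stabilizer G q) : G) = insert q (ψ '' (g • blockPts t M')) := by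
    intro g
    rw [← heq t (M23Order.mem_core_self FM S.ord) (ne_one_of_order S.ord le_rfl)]
    ext y
    constructor
    · intro hy
      by_cases hq : y = q
      · exact Or.inl hq
      obtain ⟨z, rfl⟩ := hψs y hq
      refine Or.inr ⟨z, Set.mem_smul_set_iff_inv_smul_mem.mpr ?_, rfl⟩
      show t • (g⁻¹ • z) = g⁻¹ • z
      have h : (g * t * g⁻¹) • z = z := hψ ((hψm _ z).trans hy)
      calc t • g⁻¹ • z = g⁻¹ • ((g * t * g⁻¹) • z) := by rw [← mul_smul, ← mul_smul]; group
        _ = g⁻¹ • z := by rw [h]
    · rintro (rfl | ⟨z, hz, rfl⟩)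
      · exact (g * t * g⁻¹).2
      · obtain ⟨z', hz', rfl⟩ := hz
        show ((g * t * g⁻¹ : MulAction.stabilizer G q) : G) • ψ (g • z') = ψ (g • z')
        rw [← hψm, mul_smul, mul_smul, inv_smul_smul, show t • z' = z' from hz']
  have hconj : ∀ u : G, orderOf u = 2 → u • q = q →
      ∃ g : MulAction.stabilizer G q, ((g * t * g⁻¹ : MulAction.stabilizer G q) : G) = u := by
    intro u hu huq
    obtain ⟨g, hg⟩ := isConj_iff.mp (FM.invol_conj t ⟨u, huq⟩ S.ord
      (by rw [← Subgroup.orderOf_coe]; exact hu))
    exact ⟨g, congrArg Subtype.val hg⟩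
  refine ⟨fun u w hu hw huq hwq hne => ?_, fun s hs hqs => ?_⟩
  · obtain ⟨g, rfl⟩ := hconj u hu huq
    obtain ⟨h, rfl⟩ := hconj w hw hwq
    rw [hfix, hfix] at hne ⊢
    rw [← Set.insert_inter_distrib, ← Set.image_inter hψ,
      Set.ncard_insert_of_notMem (by rintro ⟨z, _, hz⟩; exact hψq z hz) (Set.toFinite _),
      Set.ncard_image_of_injective _ hψ,
      show g • blockPts t M' = h • ((h⁻¹ * g) • blockPts t M') by rw [← mul_smul, mul_inv_cancel_left],
      ← Set.smul_set_inter, ← Set.image_smul, Set.ncard_image_of_injective _ (MulAction.injective h)]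
    have hne' : (h⁻¹ * g) • blockPts t M' ≠ blockPts t M' := fun e => hne (by
      conv_rhs => rw [← e, ← mul_smul, mul_inv_cancel_left])
    have := M23Order.block_meet FM S hne'
    omega
  · haveI := Fintype.ofFinite ((MulAction.stabilizer G q) ⧸ M')
    have hX : Fintype.card ((MulAction.stabilizer G q) ⧸ M') = 23 := by
      rw [← Nat.card_eq_fintype_card]; exact S.index
    haveI := Fintype.ofFinite ((MulAction.stabilizer G q) ⧸ nor t)
    let blk : (MulAction.stabilizer G q) ⧸ nor t → Finset ((MulAction.stabilizer G q) ⧸ M') := fun b =>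
      Quotient.liftOn' b (fun g => (g • blockPts t M').toFinset) fun g h e =>
        Set.toFinset_congr ((M23Order.block_smul_eq FM S).mpr (Quotient.sound' e))
    have hblk : ∀ g : MulAction.stabilizer G q,
        (blk (g : (MulAction.stabilizer G q) ⧸ nor t) : Set ((MulAction.stabilizer G q) ⧸ M')) =
          g • blockPts t M' := fun g => Set.coe_toFinset _
    have hc : ∀ b, (blk b).card = 7 := by
      intro b
      obtain ⟨g, rfl⟩ := QuotientGroup.mk_surjective b
      rw [← Set.ncard_coe_finset, hblk, ← Set.image_smul, Set.ncard_image_of_injective _ (MulAction.injective g), h7]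
    let T : Finset (Σ _ : (MulAction.stabilizer G q) ⧸ nor t, Finset ((MulAction.stabilizer G q) ⧸ M')) :=
      Finset.univ.sigma fun b => (blk b).powersetCard 4
    have hinj : Set.InjOn (fun p : Σ _ : (MulAction.stabilizer G q) ⧸ nor t,
        Finset ((MulAction.stabilizer G q) ⧸ M') => p.2) ↑T := by
      rintro ⟨b₁, s₁⟩ h₁ ⟨b₂, s₂⟩ h₂ (e : s₁ = s₂)
      subst e
      simp only [T, Finset.coe_sigma, Set.mem_sigma_iff, Finset.mem_coe, Finset.mem_powersetCard] at h₁ h₂
      by_contra hne
      obtain ⟨g, rfl⟩ := QuotientGroup.mk_surjective b₁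
      obtain ⟨h, rfl⟩ := QuotientGroup.mk_surjective b₂
      have h1 := Finset.card_le_card (Finset.subset_inter h₁.2.1 h₂.2.1)
      rw [← Set.ncard_coe_finset, ← Set.ncard_coe_finset, Finset.coe_inter, hblk, hblk,
        show g • blockPts t M' = h • ((h⁻¹ * g) • blockPts t M') by rw [← mul_smul, mul_inv_cancel_left],
        ← Set.smul_set_inter, ← Set.image_smul, Set.ncard_image_of_injective _ (MulAction.injective h),
        Set.ncard_coe_finset, h₁.2.2] at h1
      have h2 := M23Order.block_meet FM S (g := h⁻¹ * g) fun e => hne (by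
        rw [(M23Order.block_smul_eq (g := g) (h := h) FM S).mp (by
          conv_rhs => rw [← e, ← mul_smul, mul_inv_cancel_left])])
      omega
    have hT : T.image (fun p => p.2) =
        (Finset.univ : Finset ((MulAction.stabilizer G q) ⧸ M')).powersetCard 4 := by
      refine Finset.eq_of_subset_of_card_le ?_ ?_
      · intro s' hs'
        obtain ⟨p, hp, rfl⟩ := Finset.mem_image.mp hs'
        simp only [T, Finset.mem_sigma, Finset.mem_powersetCard] at hp
        exact Finset.mem_powersetCard.mpr ⟨Finset.subset_univ _, hp.2.2⟩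
      · rw [Finset.card_image_of_injOn hinj, Finset.card_powersetCard, Finset.card_univ, hX, Finset.card_sigma]
        simp only [Finset.card_powersetCard, hc, Finset.sum_const, Finset.card_univ, smul_eq_mul]
        rw [← Nat.card_eq_fintype_card,
          show Nat.card ((MulAction.stabilizer G q) ⧸ nor t) = 253 from M23Order.index_nor FM S.ord]
        decide
    set s' : Set ((MulAction.stabilizer G q) ⧸ M') := ψ ⁻¹' s with hs'
    have hs4 : s'.toFinset.card = 4 := by
      rw [← Set.ncard_eq_toFinset_card', ← Set.ncard_image_of_injective _ hψ,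
        show ψ '' s' = s \ {q} from ?_, Set.ncard_diff_singleton_of_mem hqs, hs]
      ext y
      constructor
      · rintro ⟨z, hz, rfl⟩; exact ⟨hz, hψq z⟩
      · rintro ⟨hy, hyq⟩
        obtain ⟨z, rfl⟩ := hψs y hyq
        exact ⟨z, hy, rfl⟩
    have hmem : s'.toFinset ∈ T.image (fun p => p.2) :=
      hT ▸ Finset.mem_powersetCard.mpr ⟨Finset.subset_univ _, hs4⟩
    obtain ⟨⟨b, s''⟩, hp, hps⟩ := Finset.mem_image.mp hmem
    simp only [T, Finset.mem_sigma, Finset.mem_powersetCard] at hp
    obtain ⟨g, rfl⟩ := QuotientGroup.mk_surjective b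
    refine ⟨((g * t * g⁻¹ : MulAction.stabilizer G q) : G),
      by rw [Subgroup.orderOf_coe, order_conj]; exact S.ord, fun y hy => ?_⟩
    rw [hfix]
    by_cases hq : y = q
    · exact Or.inl hq
    obtain ⟨z, rfl⟩ := hψs y hq
    refine Or.inr ⟨z, ?_, rfl⟩
    rw [← hblk]
    refine hp.2.1 ?_
    rw [show s'' = s'.toFinset from hps]
    exact Set.mem_toFinset.mpr hy

/-- Two fixed sets of involutions with a common point are equal or meet in at most four points, and
five points with a given one among them lie in one of these sets. -/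
theorem octads_at (q : X) :
    (∀ u w : G, orderOf u = 2 → orderOf w = 2 → u • q = q → w • q = q → fixSet X u ≠ fixSet X w →
      (fixSet X u ∩ fixSet X w).ncard ≤ 4) ∧
    ∀ s : Set X, s.ncard = 5 → q ∈ s → ∃ u : G, orderOf u = 2 ∧ s ⊆ fixSet X u := by
  obtain ⟨t, a, S⟩ := exists_setup A q
  haveI := stab_simple A q
  haveI := stab_trans A q
  have hsm : ∀ (g : MulAction.stabilizer G q)
      (z : (MulAction.stabilizer G q) ⧸ MulAction.stabilizer (MulAction.stabilizer G q) a),
      ((MulAction.ofQuotientStabilizer (MulAction.stabilizer G q) a (g • z) : SubMulAction.ofStabilizer G q) : X) =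
        (g : G) • ((MulAction.ofQuotientStabilizer (MulAction.stabilizer G q) a z : SubMulAction.ofStabilizer G q) : X) := by
    intro g z
    rw [MulAction.ofQuotientStabilizer_smul]
    rfl
  refine octads_of_setup (M' := MulAction.stabilizer (MulAction.stabilizer G q) a) A q S (stab_facts A q)
    (fun z => ((MulAction.ofQuotientStabilizer (MulAction.stabilizer G q) a z : SubMulAction.ofStabilizer G q) : X))
    (Subtype.val_injective.comp (MulAction.injective_ofQuotientStabilizer (MulAction.stabilizer G q) a))
    (fun z => (MulAction.ofQuotientStabilizer (MulAction.stabilizer G q) a z).2) (fun y hy => ?_) hsm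
  obtain ⟨k, hk⟩ := MulAction.exists_smul_eq (MulAction.stabilizer G q) a (⟨y, hy⟩ : SubMulAction.ofStabilizer G q)
  exact ⟨k, congrArg Subtype.val hk⟩

end CfsgLib.M24Order
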