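import Cfsg.Agent.Lib.M24Order.Index
import Cfsg.Agent.Lib.M23Order.Perm

/-!
# Simple groups of order 244823040: the stabiliser of one of the 24 points
-/

set_option autoImplicit false
set_option linter.unusedSectionVars false
set_option linter.style.haveILetI false

namespace CfsgLib.M24Order

open Cfsg CfsgLib
open scoped Pointwise
open CfsgLib.M23Order (cen norZ mem_cen norm_conj mem_norm card_norm_prime order_conj ne_one_of_order
  pow_self_of_order pow_card_of_mem)

universe u v

variable {G : Type u} [Group G] [Finite G]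

/-- An invariant set and its fixed points agree modulo the prime order of the element. -/
theorem set_mod_fixed {X : Type*} [MulAction G X] [Finite X] {p : ℕ} (hp : p.Prime) {g : G} (hg : orderOf g = p)
    (S : Set X) (hS : ∀ x ∈ S, g • x ∈ S) : S.ncard ≡ (S ∩ {x | g • x = x}).ncard [MOD p] := by
  classical
  haveI := Fact.mk hp
  letI : Fintype S := Fintype.ofFinite S
  let f : Function.End S := fun x => ⟨g • (x : X), hS x x.2⟩
  have hfn : ∀ n : ℕ, ∀ x : S, (((f ^ n) x : S) : X) = g ^ n • (x : X) := by
    intro n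
    induction n with
    | zero => intro x; simp; rfl
    | succ n ih =>
      intro x
      rw [pow_succ']
      show g • (((f ^ n) x : S) : X) = _
      rw [ih, pow_succ', mul_smul]
  have h := Equiv.Perm.card_fixedPoints_modEq (α := S) (f := f) (p := p) (n := 1) (by
    funext x; refine Subtype.ext ?_
    rw [pow_one, hfn, pow_self_of_order hg, one_smul]; rfl)
  simp only [← Nat.card_eq_fintype_card] at h
  rw [Nat.card_coe_set_eq] at h
  have e : Nat.card (Function.fixedPoints f) = (S ∩ {x | g • x = x}).ncard := by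
    rw [← Nat.card_coe_set_eq]
    exact Nat.card_congr
      { toFun := fun x => ⟨x.1.1, x.1.2, congrArg Subtype.val x.2⟩
        invFun := fun x => ⟨⟨x.1, x.2.1⟩, Subtype.ext x.2.2⟩
        left_inv := fun _ => rfl
        right_inv := fun _ => rfl }
  rwa [e] at h

/-- An action of the group on 24 points. -/
structure Act (G : Type u) [Group G] [Finite G] (X : Type v) [MulAction G X] : Prop where
  core : Core G
  card_X : Nat.card X = 24
  trans : MulAction.IsPretransitive G X

variable {X : Type v} [MulAction G X] [Finite X] [IsSimpleGroup G] (A : Act G X)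
include A

/-- The action is faithful. -/
theorem eq_one_of_fix {g : G} (h : ∀ y : X, g • y = y) : g = 1 := by
  rcases IsSimpleGroup.eq_bot_or_eq_top_of_normal (MulAction.toPermHom G X).ker (MonoidHom.normal_ker _) with e | e
  · have hg : g ∈ (MulAction.toPermHom G X).ker := MonoidHom.mem_ker.mpr (Equiv.ext fun y => h y)
    rw [e, Subgroup.mem_bot] at hg
    exact hg
  · exfalso
    haveI := A.trans
    haveI : Nontrivial X := Finite.one_lt_card_iff_nontrivial.mp (by rw [A.card_X]; norm_num)
    obtain ⟨a, b, hab⟩ := exists_pair_ne X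
    obtain ⟨k, hk⟩ := MulAction.exists_smul_eq G a b
    have hk' : k ∈ (MulAction.toPermHom G X).ker := by rw [e]; exact Subgroup.mem_top k
    have := Equiv.ext_iff.mp (show MulAction.toPermHom G X k = 1 from hk') a
    exact hab (this.symm.trans hk)

theorem card_stab (q : X) : Nat.card (MulAction.stabilizer G q) = 10200960 := by
  haveI := A.trans
  have h := (MulAction.stabilizer G q).index_mul_card
  rw [MulAction.index_stabilizer_of_transitive G q, A.card_X, A.core.card] at h
  omega

theorem stab_dvd (q : X) (K : Subgroup (MulAction.stabilizer G q)) : Nat.card K ∣ 10200960 :=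
  card_stab A q ▸ Subgroup.card_subgroup_dvd_card K

theorem fix_twentythree {g : G} {x : X} (hx : g • x = x) (hg : orderOf g = 23) :
    {y : X | g • y = y}.ncard = 1 := by
  have h := set_mod_fixed (by norm_num) hg (Set.univ : Set X) fun y _ => Set.mem_univ _
  rw [Set.univ_inter, Set.ncard_univ, A.card_X] at h
  have hle := Set.ncard_le_ncard (Set.subset_univ {y : X | g • y = y}) (Set.toFinite _)
  rw [Set.ncard_univ, A.card_X] at hle
  have hne : {y : X | g • y = y}.ncard ≠ 24 := fun e => ne_one_of_order hg (by norm_num) (eq_one_of_fix A fun y => by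
    have := Set.eq_of_subset_of_ncard_le (Set.subset_univ {y : X | g • y = y})
      (by rw [e, Set.ncard_univ, A.card_X]) (Set.toFinite _)
    exact (Set.ext_iff.mp this y).mpr (Set.mem_univ y))
  have hpos : 1 ≤ {y : X | g • y = y}.ncard := (Set.ncard_pos (Set.toFinite _)).mpr ⟨x, hx⟩
  simp only [Nat.ModEq] at h
  omega

/-- The stabiliser of a point is transitive on the others. -/
theorem stab_trans (q : X) : MulAction.IsPretransitive (MulAction.stabilizer G q) (SubMulAction.ofStabilizer G q) := by
  classical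
  obtain ⟨v, hvM, hv⟩ := exists_order_in (by norm_num : Nat.Prime 23) (K := MulAction.stabilizer G q)
    (by rw [card_stab A q]; norm_num)
  have hfix := fix_twentythree A (x := q) hvM hv
  obtain ⟨z, hz⟩ := Set.ncard_eq_one.mp hfix
  have hzq : z = q := (Set.mem_singleton_iff.mp (hz ▸ (show q ∈ {y : X | v • y = y} from hvM))).symm
  subst hzq
  refine ⟨fun a b => ?_⟩
  have hcov : ∀ a : X, a ≠ z → MulAction.orbit (Subgroup.zpowers v) a = ({z}ᶜ : Set X) := by
    intro a ha
    have hsub : MulAction.orbit (Subgroup.zpowers v) a ⊆ ({z}ᶜ : Set X) := by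
      rintro _ ⟨k, rfl⟩ h
      refine ha ?_
      have hk : (k : G) • z = z := (Subgroup.zpowers_le.mpr hvM : Subgroup.zpowers v ≤ MulAction.stabilizer G z) k.2
      exact smul_left_cancel (k : G) ((show (k : G) • a = z from h).trans hk.symm)
    refine Set.eq_of_subset_of_ncard_le hsub ?_ (Set.toFinite _)
    have e := Nat.card_congr (MulAction.orbitProdStabilizerEquivGroup (Subgroup.zpowers v) a)
    rw [Nat.card_prod, Nat.card_coe_set_eq, Nat.card_zpowers, hv] at e
    rw [Set.ncard_compl, Set.ncard_singleton, A.card_X]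
    rcases (Nat.dvd_prime (by norm_num : Nat.Prime 23)).mp (Dvd.intro _ e) with h | h
    · exfalso
      refine ha ?_
      obtain ⟨w, hw⟩ := Set.ncard_eq_one.mp h
      have h1 : a = w := Set.mem_singleton_iff.mp (hw ▸ MulAction.mem_orbit_self a)
      have h2 : v • a = w := Set.mem_singleton_iff.mp
        (hw ▸ (⟨⟨v, Subgroup.mem_zpowers v⟩, rfl⟩ : v • a ∈ MulAction.orbit (Subgroup.zpowers v) a))
      exact Set.mem_singleton_iff.mp (hz ▸ (show a ∈ {y : X | v • y = y} from h2.trans h1.symm))
    · omega
  obtain ⟨k, hk⟩ : (b : X) ∈ MulAction.orbit (Subgroup.zpowers v) (a : X) := by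
    rw [hcov _ a.2]; exact b.2
  exact ⟨⟨(k : G), (Subgroup.zpowers_le.mpr hvM : Subgroup.zpowers v ≤ _) k.2⟩, Subtype.ext hk⟩

/-- A nontrivial normal subgroup of the stabiliser has order divisible by 23. -/
theorem stab_normal_dvd (q : X) (L : Subgroup (MulAction.stabilizer G q)) [hL : L.Normal] (hne : L ≠ ⊥) :
    23 ∣ Nat.card L := by
  haveI := stab_trans A q
  obtain ⟨l, hlL, hl1⟩ := (Subgroup.bot_or_exists_ne_one L).resolve_left hne
  have hl1' : (l : G) ≠ 1 := fun e => hl1 (Subtype.ext e)
  obtain ⟨z, hz⟩ : ∃ z : X, (l : G) • z ≠ z := by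
    by_contra h
    push Not at h
    exact hl1' (eq_one_of_fix A h)
  have hzq : z ≠ q := fun e => hz (e ▸ l.2)
  set a : SubMulAction.ofStabilizer G q := ⟨z, hzq⟩
  have hdvd := (MulAction.IsBlock.orbit_of_normal (N := L) a).ncard_dvd_card
    ⟨a, MulAction.mem_orbit_self a⟩
  rw [SubMulAction.nat_card_ofStabilizer_eq G q, A.card_X] at hdvd
  have e := Nat.card_congr (MulAction.orbitProdStabilizerEquivGroup L a)
  rw [Nat.card_prod, Nat.card_coe_set_eq] at e
  rcases (Nat.dvd_prime (by norm_num : Nat.Prime 23)).mp hdvd with h | h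
  · exfalso
    obtain ⟨w, hw⟩ := Set.ncard_eq_one.mp h
    have h1 : a = w := Set.mem_singleton_iff.mp (hw ▸ MulAction.mem_orbit_self a)
    have h2 : l • a = w := Set.mem_singleton_iff.mp
      (hw ▸ (⟨⟨l, hlL⟩, rfl⟩ : l • a ∈ MulAction.orbit L a))
    exact hz (congrArg Subtype.val (h2.trans h1.symm))
  · rw [h] at e; exact Dvd.intro _ e

theorem stab_simple (q : X) : IsSimpleGroup (MulAction.stabilizer G q) := by
  classical
  haveI : Fact (Nat.Prime 23) := ⟨by norm_num⟩
  have hMc := card_stab A q
  haveI : Nontrivial (MulAction.stabilizer G q) := Finite.one_lt_card_iff_nontrivial.mp (by rw [hMc]; norm_num)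
  refine ⟨fun L hL => or_iff_not_imp_left.mpr fun hne => ?_⟩
  haveI := hL
  have h23 := stab_normal_dvd A q L hne
  obtain ⟨v, hvL, hv⟩ := exists_order_in (by norm_num : Nat.Prime 23) h23
  have hsq : ∀ K : Subgroup (MulAction.stabilizer G q), ¬ 23 * 23 ∣ Nat.card K := fun K h => by
    have := h.trans (stab_dvd A q K); norm_num at this
  obtain ⟨d, m, hd, hm, e1, e2⟩ := card_norm_prime (K := ⊤) (by norm_num) hv (Subgroup.mem_top v) (hsq _)
  rw [top_inf_eq] at e1 e2
  rw [top_inf_eq] at e1
  have hcv : Nat.card (cen v) = 23 := by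
    refine le_antisymm ?_ (Nat.le_of_dvd Nat.card_pos (hv ▸ Subgroup.orderOf_dvd_natCard _ (mem_cen.mpr rfl)))
    rw [← show Nat.card (cen (v : G)) = 23 from A.core.cen_twentythree _ (by rw [Subgroup.orderOf_coe, hv]),
      ← Subgroup.card_map_of_injective (MulAction.stabilizer G q).subtype_injective]
    refine Subgroup.card_le_of_le ?_
    rintro _ ⟨c, hc, rfl⟩
    exact mem_cen.mpr (congrArg Subtype.val (mem_cen.mp hc))
  rw [hcv] at e1
  rw [Subgroup.card_top, hMc, e1] at e2
  have hd11 : d = 11 := by
    have := Nat.le_of_dvd (by norm_num) hd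
    interval_cases d <;> omega
  rw [hd11] at e1
  -- the Frattini argument
  obtain ⟨P⟩ := (inferInstance : Nonempty (Sylow 23 L))
  have hYL : Subgroup.zpowers v ≤ L := Subgroup.zpowers_le.mpr hvL
  have hP' : Nat.card ((Subgroup.zpowers v).subgroupOf L) = 23 ^ (Nat.card L).factorization 23 := by
    rw [Nat.card_congr (Subgroup.subgroupOfEquivOfLe hYL).toEquiv, Nat.card_zpowers, hv]
    have h1 : 1 ≤ (Nat.card L).factorization 23 :=
      ((by norm_num : Nat.Prime 23).dvd_iff_one_le_factorization Nat.card_pos.ne').mp h23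
    have h2 : (Nat.card L).factorization 23 ≤ 1 := by
      by_contra h
      exact hsq L (by rw [← pow_two]; exact ((by norm_num : Nat.Prime 23).pow_dvd_iff_le_factorization Nat.card_pos.ne').mpr (by omega))
    rw [show (Nat.card L).factorization 23 = 1 by omega, pow_one]
  set S : Sylow 23 L := Sylow.ofCard _ hP' with hS
  have hmap : (S : Subgroup L).map L.subtype = Subgroup.zpowers v := by
    show ((Subgroup.zpowers v).subgroupOf L).map L.subtype = _
    rw [Subgroup.subgroupOf_map_subtype, inf_eq_left.mpr hYL]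
  have htop := Sylow.normalizer_sup_eq_top S
  rw [hmap] at htop
  change norZ v ⊔ L = ⊤ at htop
  have hidx : L.index = L.relIndex (norZ v) := by
    rw [← Subgroup.relIndex_top_right, ← htop]
    exact Subgroup.relIndex_sup_right (norZ v) L
  have hrel : L.relIndex (norZ v) * Nat.card ↥(L ⊓ norZ v) = 253 := by
    rw [show (253 : ℕ) = Nat.card (norZ v) by rw [e1], ← (L.subgroupOf (norZ v)).index_mul_card, Subgroup.relIndex]
    congr 1
    rw [← Subgroup.inf_subgroupOf_right]
    exact (Nat.card_congr (Subgroup.subgroupOfEquivOfLe inf_le_right).toEquiv).symm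
  obtain ⟨c, hc⟩ : 23 ∣ Nat.card ↥(L ⊓ norZ v) :=
    hv ▸ Subgroup.orderOf_dvd_natCard _ (Subgroup.mem_inf.mpr ⟨hvL, Subgroup.le_normalizer (Subgroup.mem_zpowers v)⟩)
  rw [hc, ← hidx] at hrel
  have hic : L.index * c = 11 := by
    rw [mul_left_comm] at hrel; omega
  rcases (Nat.dvd_prime (by norm_num : Nat.Prime 11)).mp (Dvd.intro _ hic) with h | h
  · exact Subgroup.index_eq_one.mp h
  exfalso
  rw [h] at hic
  have hc1 : c = 1 := by omega
  have hNL : L ⊓ norZ v = Subgroup.zpowers v := (Subgroup.eq_of_le_of_card_ge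
    (le_inf hYL (fun w hw => Subgroup.le_normalizer hw)) (by rw [hc, hc1, Nat.card_zpowers, hv])).symm
  have hN : Subgroup.normalizer ((S : Subgroup L) : Set L) ≤ Subgroup.centralizer ((S : Subgroup L) : Set L) := by
    intro g hg
    have hgN : (g : MulAction.stabilizer G q) ∈ norZ v := by
      refine mem_norm ?_
      rw [← hmap]
      rintro _ ⟨k, hk, rfl⟩
      exact ⟨g * k * g⁻¹, norm_conj hg hk, rfl⟩
    obtain ⟨i, hi⟩ := Subgroup.mem_zpowers_iff.mp (hNL ▸ ⟨g.2, hgN⟩ : (g : MulAction.stabilizer G q) ∈ Subgroup.zpowers v)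
    refine Subgroup.mem_centralizer_iff.mpr fun k hk => Subtype.ext ?_
    obtain ⟨j, hj⟩ := Subgroup.mem_zpowers_iff.mp (hk : (k : MulAction.stabilizer G q) ∈ Subgroup.zpowers v)
    have hcomm : Commute (v ^ j) (v ^ i) := (Commute.refl v).zpow_zpow j i
    rw [hi, hj] at hcomm
    exact hcomm
  have hcompl := MonoidHom.ker_transferSylow_isComplement' S hN
  set K := (MonoidHom.transferSylow S hN).ker with hK
  have hS23 : Nat.card (S : Subgroup L) = 23 := by
    rw [← Subgroup.card_map_of_injective L.subtype_injective, hmap, Nat.card_zpowers, hv]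
  have hLc : Nat.card L = 927360 := by
    have := L.index_mul_card
    rw [h, hMc] at this
    omega
  have hK' : Nat.card K = 40320 := by
    have := hcompl.card_mul
    rw [hS23, hLc] at this
    omega
  have hchar : ∀ a : L, a ^ 40320 = 1 → a ∈ K := by
    intro a ha
    rw [hK, MonoidHom.mem_ker]
    have h1 : MonoidHom.transferSylow S hN a ^ 40320 = 1 := by rw [← map_pow, ha, map_one]
    have h2 := orderOf_dvd_of_pow_eq_one h1
    have h3 : orderOf (MonoidHom.transferSylow S hN a) ∣ 23 := by
      have h := orderOf_dvd_natCard (MonoidHom.transferSylow S hN a)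
      rwa [show Nat.card _ = 23 from hS23] at h
    exact orderOf_eq_one_iff.mp (Nat.dvd_one.mp (Nat.dvd_gcd h2 h3 : _ ∣ Nat.gcd 40320 23))
  haveI : (K.map L.subtype).Normal := ⟨fun a ha g => by
    obtain ⟨a, ha, rfl⟩ := ha
    refine ⟨⟨g * a * g⁻¹, hL.conj_mem _ a.2 g⟩, hchar _ (Subtype.ext ?_), rfl⟩
    rw [Subgroup.coe_pow, Subgroup.coe_one, conj_pow, ← Subgroup.coe_pow, pow_card_of_mem hK' ha,
      Subgroup.coe_one, mul_one, mul_inv_cancel]⟩
  have hKne : K.map L.subtype ≠ ⊥ := fun e => by
    have := congrArg (fun W : Subgroup _ => Nat.card W) e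
    simp only [Subgroup.card_map_of_injective L.subtype_injective, hK', Subgroup.card_bot] at this
    omega
  have := stab_normal_dvd A q (K.map L.subtype) hKne
  rw [Subgroup.card_map_of_injective L.subtype_injective, hK'] at this
  norm_num at this

/-- The fixed points among the others. -/
theorem card_fixedBy (q : X) (g : MulAction.stabilizer G q) :
    Nat.card (MulAction.fixedBy (SubMulAction.ofStabilizer G q) g) + 1 = {y : X | (g : G) • y = y}.ncard := by
  have e : {y : X | (g : G) • y = y} =
      insert q (Subtype.val '' MulAction.fixedBy (SubMulAction.ofStabilizer G q) g) := by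
    ext y
    constructor
    · intro hy
      by_cases hq : y = q
      · exact Or.inl hq
      · exact Or.inr ⟨⟨y, hq⟩, Subtype.ext hy, rfl⟩
    · rintro (rfl | ⟨w, hw, rfl⟩)
      · exact g.2
      · exact congrArg Subtype.val hw
  rw [e, Set.ncard_insert_of_notMem (SubMulAction.notMem_val_image G _) (Set.toFinite _),
    Set.ncard_image_of_injective _ Subtype.val_injective, Nat.card_coe_set_eq]

/-- The point stabiliser has the facts of M23. -/
theorem stab_facts (q : X) : M23Order.Facts (MulAction.stabilizer G q) :=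
  haveI := stab_simple A q
  M23Order.facts_of_card (card_stab A q)

/-- The fixed points of elements of small order with a fixed point. -/
theorem fix_vals {g : G} {x : X} (hx : g • x = x) :
    (orderOf g = 2 → {y : X | g • y = y}.ncard = 8) ∧ (orderOf g = 3 → {y : X | g • y = y}.ncard = 6) ∧
      (orderOf g = 5 → {y : X | g • y = y}.ncard = 4) ∧ (orderOf g = 7 → {y : X | g • y = y}.ncard = 3) := by
  haveI := stab_simple A x
  haveI := stab_trans A x
  haveI := A.trans
  set k : MulAction.stabilizer G x := ⟨g, hx⟩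
  have hX' : Nat.card (SubMulAction.ofStabilizer G x) = 23 := by
    rw [SubMulAction.nat_card_ofStabilizer_eq G x, A.card_X]
  have hp := M23Order.perm23 (card_stab A x) (SubMulAction.ofStabilizer G x) hX' k
  have ho : orderOf k = orderOf g := (Subgroup.orderOf_coe k).symm
  rw [ho] at hp
  have e : Nat.card (MulAction.fixedBy (SubMulAction.ofStabilizer G x) k) + 1 = {y : X | g • y = y}.ncard :=
    card_fixedBy A x k
  exact ⟨fun h => by rw [← e, hp.1 h], fun h => by rw [← e, hp.2.1 h], fun h => by rw [← e, hp.2.2.1 h],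
    fun h => by rw [← e, hp.2.2.2 h]⟩

end CfsgLib.M24Order
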