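import Cfsg.Agent.Lib.M24Order.Val4

/-!
# Simple groups of order 244823040: the members of the blocks, for `|N(P₇) : C(P₇)| = 3`
-/

set_option autoImplicit false
set_option linter.unusedSectionVars false
set_option linter.style.haveILetI false
set_option maxHeartbeats 1000000

namespace CfsgLib.M24Order.E3

open Cfsg
open scoped ComplexConjugate CfsgLib.Char
open CfsgLib CfsgLib.BrauerTuan CfsgLib.OrderBlocks CfsgLib.M24Order
open scoped _root_.Classical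

universe u

variable {G : Type u} [Group G] [Fintype G] [IsSimpleGroup G]
  [Fact (Nat.Prime 5)] [Fact (Nat.Prime 7)] [Fact (Nat.Prime 11)] [Fact (Nat.Prime 23)]

/-- The members of the four blocks. -/
structure Members (G : Type u) [Group G] [Fintype G] [IsSimpleGroup G] (k5 : ℕ) where
  B5 : Blk G 5 ⟨5, k5, 4, [1771, -2024, -5544, 5796], none⟩
  k7 : ℕ
  B7 : Blk G 7 ⟨7, k7, 3, [-1035, 2024], some 990⟩
  xs11 : List ℤ
  B11 : Blk G 11 ⟨11, 1, 10, xs11, none⟩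
  xs23' : List ℤ
  y : ℤ
  B23 : Blk G 23 ⟨23, 1, 11, xs23', some y⟩
  res11 : Res11 B11
  a : IrrCharacter G
  b : IrrCharacter G
  c : IrrCharacter G
  d : IrrCharacter G
  e : IrrCharacter G
  f : IrrCharacter G
  f' : IrrCharacter G
  cs : List (IrrCharacter G)
  ψ : IrrCharacter G
  ψ' : IrrCharacter G
  ms : List (IrrCharacter G)
  xl5 : B5.xl = [a, b, c, d]
  xl7 : B7.xl = [e, b]
  yl7 : B7.yl = [f, f']
  xl23 : B23.xl.Perm (c :: f :: f' :: cs)
  yl23 : B23.yl = [ψ, ψ']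
  xl11 : B11.xl.Perm (d :: e :: ((cs ++ [ψ, ψ']).filter (fun χ => decide (delta (deg χ) ≠ 0)) ++ ms))
  nd : (Blocks.trivIrr G :: ([a, b, c, d, e, f, f'] ++ (cs ++ [ψ, ψ']) ++ ms)).Nodup
  sa : B5.σ a = 1 ∧ deg a = 1771
  sb : B5.σ b = -1 ∧ B7.σ b = 1 ∧ deg b = 2024
  sc : B5.σ c = -1 ∧ B23.σ c = 1 ∧ deg c = 5544
  sd : B5.σ d = 1 ∧ B11.σ d = -1 ∧ deg d = 5796
  se : B7.σ e = -1 ∧ B11.σ e = 1 ∧ deg e = 1035
  sf : B23.σ f = 1 ∧ deg f = 990
  sf' : B23.σ f' = 1 ∧ deg f' = 990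
  len : cs.length = 7
  mem23 : ∀ χ ∈ cs, B23.σ χ * (deg χ : ℤ) ∈ xs23
  memy : y ∈ ys23
  sum23 : y = 1 + 5544 + 1980 + (cs.map fun χ => B23.σ χ * (deg χ : ℤ)).sum
  memM : ∀ χ ∈ ms, B11.σ χ * (deg χ : ℤ) ∈ free11
  lenM : ((cs ++ [ψ, ψ']).filter (fun χ => decide (delta (deg χ) ≠ 0))).length + ms.length = 8

theorem Members.σ11 {k5 : ℕ} (M : Members G k5) {χ : IrrCharacter G} (hχ : χ ∈ M.B11.xl) :
    M.B11.σ χ = delta (deg χ) :=
  (delta_mul (M.B11.σ_unit hχ) (M.res11 _ ((congrArg (fun l : List ℤ => M.B11.σ χ * (deg χ : ℤ) ∈ l)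
    M.B11.xs_eq).mpr (List.mem_map.mpr ⟨χ, hχ, rfl⟩)))).symm

theorem sgn_deg {p : ℕ} [Fact p.Prime] {o : Opt} (B : Blk G p o) {χ : IrrCharacter G} (hχ : χ ∈ B.xl) {z : ℤ}
    (h : B.σ χ * (deg χ : ℤ) = z) : B.σ χ = sgn z ∧ deg χ = z.natAbs :=
  ⟨h ▸ (B.sgn_eq hχ).1.symm, h ▸ (B.sgn_eq hχ).2.symm⟩

/-- **The members of the blocks, if no character has degree 23.** -/
theorem exists_members (hdegs : checkDegs = true) (T23 : Ctx G 23 1) (he23 : T23.D.e = 11) (T11 : Ctx G 11 1)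
    (he11 : T11.D.e = 10) {k5 k7 : ℕ} (B5 : Blk G 5 ⟨5, k5, 4, [1771, -2024, -5544, 5796], none⟩)
    (B7 : Blk G 7 ⟨7, k7, 3, [-1035, 2024], some 990⟩) {χ : IrrCharacter G} (hχ5 : χ ∈ B5.xl) (hχ7 : χ ∈ B7.xl)
    (hdeg : deg χ = 2024) (hno : ∀ ξ : IrrCharacter G, deg ξ ≠ 23) :
    Nonempty (Members G k5) := by
  have hn := B5.card_eq
  simp only [checkDegs, Bool.and_eq_true, List.all_eq_true, List.contains_iff_mem, Bool.or_eq_true,
    decide_eq_true_eq] at hdegs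
  obtain ⟨⟨hX23, hY23⟩, hX11⟩ := hdegs
  have hc11 : 1 + T11.D.n * 11 = 2225664 := by
    have h := T11.D.card_G
    rw [T11.card_C, he11, T11.card_eq] at h
    omega
  have hc23 : 1 + T23.D.n * 23 = 967680 := by
    have h := T23.D.card_G
    rw [T23.card_C, he23, T23.card_eq] at h
    omega
  obtain ⟨xs, y', hf, ⟨B11⟩⟩ := exists_blk T11 he11 hc11 kp2 fun φ _ _ s hs => kp2_of he23 he11 hs φ
  obtain ⟨rfl, hlen11, -⟩ := hf.one (by norm_num)
  have hres : Res11 B11 := fun x hx => fastX_mod (List.mem_filter.mp (hf.mem x hx)).1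
  obtain ⟨xs3, y3, hf3, ⟨B23⟩⟩ := exists_blk T23 he23 hc23 kp2 fun φ _ _ s hs => kp2_of he23 he11 hs φ
  obtain ⟨y, rfl, hy, hlen23, hys⟩ := hf3.more (by norm_num)
  have hx23 : ∀ φ ∈ B23.xl, B23.σ φ * (deg φ : ℤ) ∈ xs23 := fun φ hφ => hX23 _ (hf3.mem _
    ((congrArg (fun l : List ℤ => B23.σ φ * (deg φ : ℤ) ∈ l) B23.xs_eq).mpr (List.mem_map.mpr ⟨φ, hφ, rfl⟩)))
  have hx11 : ∀ φ ∈ B11.xl, B11.σ φ * (deg φ : ℤ) ∈ xs := fun φ hφ =>
    (congrArg (fun l : List ℤ => B11.σ φ * (deg φ : ℤ) ∈ l) B11.xs_eq).mpr (List.mem_map.mpr ⟨φ, hφ, rfl⟩)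
  have hyd : y ∈ ys23 := hY23 y hy
  -- the blocks for 5 and 7
  obtain ⟨a, l1, hl5, ha, h1⟩ := List.map_eq_cons_iff.mp (B5.xs_eq.symm : B5.xl.map _ = _)
  obtain ⟨b, l2, rfl, hb, h2⟩ := List.map_eq_cons_iff.mp h1
  obtain ⟨c, l3, rfl, hc, h3⟩ := List.map_eq_cons_iff.mp h2
  obtain ⟨d, l4, rfl, hd, h4⟩ := List.map_eq_cons_iff.mp h3
  obtain rfl := List.map_eq_nil_iff.mp h4
  obtain ⟨e, m1, hl7, he, g1⟩ := List.map_eq_cons_iff.mp (B7.xs_eq.symm : B7.xl.map _ = _)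
  obtain ⟨b7, m2, rfl, hb7, g2⟩ := List.map_eq_cons_iff.mp g1
  obtain rfl := List.map_eq_nil_iff.mp g2
  obtain ⟨sa1, sa2⟩ := sgn_deg B5 (hl5 ▸ by simp) ha
  obtain ⟨sb1, sb2⟩ := sgn_deg B5 (hl5 ▸ by simp) hb
  obtain ⟨sc1, sc2⟩ := sgn_deg B5 (hl5 ▸ by simp) hc
  obtain ⟨sd1, sd2⟩ := sgn_deg B5 (hl5 ▸ by simp) hd
  obtain ⟨se1, se2⟩ := sgn_deg B7 (hl7 ▸ by simp) he
  obtain ⟨sb71, sb72⟩ := sgn_deg B7 (hl7 ▸ by simp) hb7
  norm_num [sgn] at sa1 sa2 sb1 sb2 sc1 sc2 sd1 sd2 se1 se2 sb71 sb72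
  have hχb : χ = b := by
    rw [hl5] at hχ5
    simp only [List.mem_cons, List.not_mem_nil, or_false] at hχ5
    rcases hχ5 with rfl | h | rfl | rfl <;> first | exact h | omega
  have hb7b : b7 = b := by
    rw [hl7] at hχ7
    simp only [List.mem_cons, List.not_mem_nil, or_false] at hχ7
    rcases hχ7 with rfl | rfl
    · omega
    · exact hχb
  subst b7
  obtain ⟨hyl7, hyd7, -⟩ := B7.yl_some 990 rfl
  obtain ⟨f, f', hff⟩ := List.length_eq_two.mp (hyl7.trans (by simp [Opt.t]))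
  have sf2 : deg f = 990 := hyd7 f (hff ▸ by simp)
  have sf2' : deg f' = 990 := hyd7 f' (hff ▸ by simp)
  have hne7 : f ≠ f' ∧ f ≠ Blocks.trivIrr G ∧ f' ≠ Blocks.trivIrr G := by
    refine ⟨?_, fun e => ?_, fun e => ?_⟩
    · have h := B7.nodup
      rw [hff] at h
      have := (List.nodup_append.mp (List.nodup_cons.mp h).2).2.1
      simpa using this
    · rw [e, deg_triv] at sf2; norm_num at sf2
    · rw [e, deg_triv] at sf2'; norm_num at sf2'
  -- the block for 23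
  obtain ⟨hyl, hyd23, -⟩ := B23.yl_some y rfl
  obtain ⟨ψ, ψ', hψ⟩ := List.length_eq_two.mp (hyl.trans (by simp [Opt.t]))
  have hyb : y.natAbs ≠ 5544 ∧ y.natAbs ≠ 990 ∧ y.natAbs ≠ 1 := by
    simp only [ys23, List.mem_cons, List.not_mem_nil, or_false] at hyd
    omega
  have ntriv : ∀ φ : IrrCharacter G, deg φ ≠ 1 → φ ≠ Blocks.trivIrr G := fun φ h e => h (e ▸ deg_triv)
  have hin : ∀ φ : IrrCharacter G, deg φ = 5544 ∨ deg φ = 990 → φ ∈ B23.xl := fun φ h => by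
    rcases List.mem_append.mp (B23.mem_of_not_dvd rfl (ntriv φ (by omega)) (by omega)) with h' | h'
    · exact h'
    · have := hyd23 φ h'; omega
  have hcin := hin c (Or.inl sc2)
  have hfin := hin f (Or.inr sf2)
  have hfin' := hin f' (Or.inr sf2')
  have hs23 : ∀ φ ∈ B23.xl, (deg φ = 5544 ∨ deg φ = 990) → B23.σ φ = 1 := fun φ hφ h => by
    have hx := hx23 φ hφ
    simp only [xs23, List.mem_cons, List.not_mem_nil, or_false] at hx
    rcases B23.σ_unit hφ with e | e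
    · exact e
    · rw [e] at hx; omega
  have hnd23 := B23.nodup
  rw [hψ, List.nodup_cons, List.nodup_append] at hnd23
  obtain ⟨htriv23, hnx, hny, hdis⟩ := hnd23
  obtain ⟨cs, hcs⟩ : ∃ cs, cs = B23.xl.filter fun φ => decide (φ ≠ c ∧ φ ≠ f ∧ φ ≠ f') := ⟨_, rfl⟩
  have hcsm : ∀ φ, φ ∈ cs ↔ φ ∈ B23.xl ∧ φ ≠ c ∧ φ ≠ f ∧ φ ≠ f' := fun φ => by simp [hcs]
  have hcf : c ≠ f ∧ c ≠ f' := ⟨fun e => by rw [e] at sc2; omega, fun e => by rw [e] at sc2; omega⟩
  have hperm : B23.xl.Perm (c :: f :: f' :: cs) := by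
    refine (List.perm_ext_iff_of_nodup hnx ?_).mpr fun φ => ?_
    · simp only [List.nodup_cons, List.mem_cons, hcsm, hcs, hnx.filter, and_true]
      simp [hcf.1, hcf.2, hne7.1]
    · simp only [List.mem_cons, hcsm]
      constructor
      · intro h; by_cases e1 : φ = c <;> by_cases e2 : φ = f <;> by_cases e3 : φ = f' <;> simp [h, e1, e2, e3]
      · rintro (rfl | rfl | rfl | h) <;> [exact hcin; exact hfin; exact hfin'; exact h.1]
  have hlen : cs.length = 7 := by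
    have h := hperm.length_eq
    rw [show B23.xl.length = 10 by
      rw [← List.length_map (f := fun φ => B23.σ φ * (deg φ : ℤ)), ← B23.xs_eq]; exact hlen23] at h
    simp only [List.length_cons] at h
    omega
  -- members of 23 and the others
  have hnd7 : ∀ φ ∈ cs ++ [ψ, ψ'], ¬ 23 ∣ deg φ := fun φ hφ => by
    refine B23.not_dvd φ ?_
    rw [hψ]
    rcases List.mem_append.mp hφ with h | h
    · exact List.mem_append_left _ ((hcsm φ).mp h).1
    · exact List.mem_append_right _ h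
  have hnd23' : (cs ++ [ψ, ψ']).Nodup := List.nodup_append.mpr
    ⟨hcs ▸ hnx.filter _, hny, fun x hx y' hy' => hdis x ((hcsm x).mp hx).1 y' hy'⟩
  have hdin : d ∈ B11.xl := by
    have h := B11.mem_of_not_dvd rfl (ntriv d (by omega)) (by omega)
    rwa [B11.yl_none rfl, List.append_nil] at h
  have hein : e ∈ B11.xl := by
    have h := B11.mem_of_not_dvd rfl (ntriv e (by omega)) (by omega)
    rwa [B11.yl_none rfl, List.append_nil] at h
  have hσ11 : ∀ φ ∈ B11.xl, B11.σ φ = delta (deg φ) := fun φ hφ =>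
    (delta_mul (B11.σ_unit hφ) (hres _ (hx11 φ hφ))).symm
  have hnd11 : B11.xl.Nodup := (List.nodup_append.mp (List.nodup_cons.mp B11.nodup).2).1
  have hn11 : ∀ φ ∈ B11.xl, ¬ 11 ∣ deg φ := fun φ hφ => B11.not_dvd φ (List.mem_append_left _ hφ)
  obtain ⟨fx, hfx⟩ : ∃ l, l = (cs ++ [ψ, ψ']).filter fun φ => decide (delta (deg φ) ≠ 0) := ⟨_, rfl⟩
  have hfxm : ∀ φ, φ ∈ fx → φ ∈ B11.xl := fun φ hφ => by
    rw [hfx, List.mem_filter, decide_eq_true_eq] at hφ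
    have h23 := hnd7 φ hφ.1
    have h11 : ¬ 11 ∣ deg φ := fun h => hφ.2 (delta_zero h)
    have hne : φ ≠ Blocks.trivIrr G := fun e => htriv23 (by
      rw [← e]
      rcases List.mem_append.mp hφ.1 with h | h
      · exact List.mem_append_left _ ((hcsm φ).mp h).1
      · exact List.mem_append_right _ h)
    have h := B11.mem_of_not_dvd rfl hne h11
    rwa [B11.yl_none rfl, List.append_nil] at h
  obtain ⟨ms, hms⟩ : ∃ l, l = B11.xl.filter fun φ => decide (φ ≠ d ∧ φ ≠ e ∧ φ ∉ cs ++ [ψ, ψ']) := ⟨_, rfl⟩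
  have hmsm : ∀ φ, φ ∈ ms ↔ φ ∈ B11.xl ∧ φ ≠ d ∧ φ ≠ e ∧ φ ∉ cs ++ [ψ, ψ'] := fun φ => by simp [hms]
  have hde : ∀ φ ∈ cs ++ [ψ, ψ'], φ ≠ d ∧ φ ≠ e ∧ φ ≠ a ∧ φ ≠ b := fun φ hφ => by
    have h := hnd7 φ hφ
    refine ⟨?_, ?_, ?_, ?_⟩ <;> rintro rfl <;> omega
  have hed : d ≠ e := fun h => by rw [h] at sd2; omega
  have hp11 : B11.xl.Perm (d :: e :: (fx ++ ms)) := by
    refine (List.perm_ext_iff_of_nodup hnd11 ?_).mpr fun φ => ?_
    · simp only [List.nodup_cons, List.mem_cons, List.mem_append, not_or]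
      refine ⟨⟨hed, fun h => ?_, fun h => ((hmsm d).mp h).2.1 rfl⟩, ⟨fun h => ?_, fun h => ((hmsm e).mp h).2.2.1 rfl⟩,
        List.nodup_append.mpr ⟨hfx ▸ hnd23'.filter _, hms ▸ hnd11.filter _, fun x hx y' hy' e => ?_⟩⟩
      · exact (hde d (List.mem_filter.mp (hfx ▸ h)).1).1 rfl
      · exact (hde e (List.mem_filter.mp (hfx ▸ h)).1).2.1 rfl
      · exact ((hmsm y').mp hy').2.2.2 (e ▸ (List.mem_filter.mp (hfx ▸ hx)).1)
    · simp only [List.mem_cons, List.mem_append]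
      constructor
      · intro h
        by_cases e1 : φ = d; · exact Or.inl e1
        by_cases e2 : φ = e; · exact Or.inr (Or.inl e2)
        by_cases e3 : φ ∈ cs ++ [ψ, ψ']
        · refine Or.inr (Or.inr (Or.inl (hfx ▸ List.mem_filter.mpr ⟨e3, decide_eq_true ?_⟩)))
          intro h0
          rcases B11.σ_unit h with u | u <;> rw [hσ11 φ h, h0] at u <;> norm_num at u
        · exact Or.inr (Or.inr (Or.inr ((hmsm φ).mpr ⟨h, e1, e2, e3⟩)))
      · rintro (rfl | rfl | h | h) <;> [exact hdin; exact hein; exact hfxm φ h; exact ((hmsm φ).mp h).1]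
  have hmsd : ∀ φ ∈ ms, 23 ∣ deg φ ∧ φ ≠ a ∧ φ ≠ b ∧ φ ≠ c ∧ φ ≠ f ∧ φ ≠ f' := fun φ hφ => by
    obtain ⟨h, -, -, h4⟩ := (hmsm φ).mp hφ
    have h11 := hn11 φ h
    have hc' : φ ≠ a ∧ φ ≠ b ∧ φ ≠ c ∧ φ ≠ f ∧ φ ≠ f' := by
      refine ⟨?_, ?_, ?_, ?_, ?_⟩ <;> rintro rfl <;> omega
    refine ⟨?_, hc'⟩
    by_contra h23
    rcases List.mem_append.mp (B23.mem_of_not_dvd rfl (B11.ne_triv (List.mem_append_left _ h)) h23) with h' | h'
    · exact h4 (List.mem_append_left _ ((hcsm φ).mpr ⟨h', hc'.2.2.1, hc'.2.2.2.1, hc'.2.2.2.2⟩))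
    · exact h4 (List.mem_append_right _ (hψ ▸ h'))
  have sd11 : B11.σ d = -1 := by rw [hσ11 d hdin, sd2]; decide
  have se11 : B11.σ e = 1 := by rw [hσ11 e hein, se2]; decide
  refine ⟨⟨B5, k7, B7, xs, B11, xs3, y, B23, hres, a, b, c, d, e, f, f', cs, ψ, ψ', ms, hl5, hl7, hff, hperm, hψ,
    hfx ▸ hp11, ?_, ⟨sa1, sa2⟩, ⟨sb1, sb71, sb2⟩, ⟨sc1, hs23 c hcin (Or.inl sc2), sc2⟩, ⟨sd1, sd11, sd2⟩,
    ⟨se1, se11, se2⟩, ⟨hs23 f hfin (Or.inr sf2), sf2⟩, ⟨hs23 f' hfin' (Or.inr sf2'), sf2'⟩, hlen,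
    fun φ hφ => hx23 φ ((hcsm φ).mp hφ).1, hyd, ?_, fun φ hφ => ?_, ?_⟩⟩
  · -- distinctness
    have h7 : ([a, b, c, d, e, f, f'] : List (IrrCharacter G)).Nodup := by
      simp only [List.nodup_cons, List.mem_cons, List.not_mem_nil, or_false, not_or, List.nodup_nil, and_true,
        not_false_eq_true]
      refine ⟨⟨?_, ?_, ?_, ?_, ?_, ?_⟩, ⟨?_, ?_, ?_, ?_, ?_⟩, ⟨?_, ?_, ?_, ?_⟩, ⟨?_, ?_, ?_⟩, ⟨?_, ?_⟩, hne7.1⟩ <;>
        intro h <;> have := congrArg deg h <;> omega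
    refine List.nodup_cons.mpr ⟨?_, List.nodup_append.mpr ⟨List.nodup_append.mpr ⟨h7, hnd23', ?_⟩,
      hms ▸ hnd11.filter _, ?_⟩⟩
    · intro h
      simp only [List.mem_append] at h
      rcases h with (h | h) | h
      · simp only [List.mem_cons, List.not_mem_nil, or_false] at h
        rcases h with h | h | h | h | h | h | h <;> exact ntriv _ (by omega) h.symm
      · refine htriv23 ?_
        rcases h with h | h
        · exact List.mem_append_left _ ((hcsm _).mp h).1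
        · exact List.mem_append_right _ h
      · exact B11.ne_triv (List.mem_append_left _ ((hmsm _).mp h).1) rfl
    · intro x hx z hz
      simp only [List.mem_cons, List.not_mem_nil, or_false] at hx
      obtain ⟨n1, n2, n3, n4⟩ := hde z hz
      rcases List.mem_append.mp hz with hz' | hz'
      · obtain ⟨-, n5, n6, n7⟩ := (hcsm z).mp hz'
        rcases hx with rfl | rfl | rfl | rfl | rfl | rfl | rfl <;> intro e' <;> first
          | exact n1 e'.symm | exact n2 e'.symm | exact n3 e'.symm | exact n4 e'.symm | exact n5 e'.symm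
          | exact n6 e'.symm | exact n7 e'.symm
      · have hdz := hyd23 z (hψ ▸ hz')
        rcases hx with rfl | rfl | rfl | rfl | rfl | rfl | rfl <;> intro e' <;> subst e' <;> first
          | exact n1 rfl | exact n2 rfl | exact n3 rfl | exact n4 rfl | omega
    · intro x hx z hz e'
      subst e'
      obtain ⟨-, n1, n2, n3⟩ := (hmsm x).mp hz
      obtain ⟨-, m1, m2, m3, m4, m5⟩ := hmsd x hz
      rcases List.mem_append.mp hx with hx | hx
      · simp only [List.mem_cons, List.not_mem_nil, or_false] at hx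
        rcases hx with h | h | h | h | h | h | h <;> first
          | exact m1 h | exact m2 h | exact m3 h | exact m4 h | exact m5 h | exact n1 h | exact n2 h
      · exact n3 hx
  · have h := (hperm.map fun φ => B23.σ φ * (deg φ : ℤ)).sum_eq
    rw [← B23.xs_eq] at h
    simp only [List.map_cons, List.sum_cons, hs23 c hcin (Or.inl sc2), hs23 f hfin (Or.inr sf2),
      hs23 f' hfin' (Or.inr sf2'), sc2, sf2, sf2', one_mul] at h
    push_cast at h
    omega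
  · obtain ⟨h23, -⟩ := hmsd φ hφ
    have hin' := ((hmsm φ).mp hφ).1
    have h2 := (B11.sgn_eq hin').2
    rcases hX11 _ (hf.mem _ (hx11 φ hin')) with (h | h) | h
    · rw [h2] at h; omega
    · rw [h2] at h; exact absurd h (hno φ)
    · exact h
  · have h := hp11.length_eq
    rw [show B11.xl.length = 10 by
      rw [← List.length_map (f := fun φ => B11.σ φ * (deg φ : ℤ)), ← B11.xs_eq]; exact hlen11] at h
    simp only [List.length_cons, List.length_append, hfx] at h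
    omega

end CfsgLib.M24Order.E3
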