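import Cfsg.Agent.Lib.M24Order.CharDefs
import Cfsg.Agent.Lib.BrauerTuan.Rational

/-!
# A unique member of degree `24` of the block for `5` excludes elements of order `35`
-/

set_option autoImplicit false
set_option linter.unusedSectionVars false
set_option linter.style.haveILetI false

namespace CfsgLib.M24Order

open Cfsg
open scoped ComplexConjugate CfsgLib.Char
open CfsgLib CfsgLib.BrauerTuan CfsgLib.OrderBlocks
open scoped _root_.Classical

universe u

variable {G : Type u} [Group G] [Fintype G]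

/-- The sum over a cyclic subgroup. -/
theorem sum_zpowers (f : G → ℂ) (x : G) :
    ∑ g : Subgroup.zpowers x, f g = ∑ j : Fin (orderOf x), f (x ^ (j : ℕ)) :=
  (Fintype.sum_equiv (finEquivZPowers (isOfFinOrder_of_finite x)) (fun j => f (x ^ (j : ℕ))) (fun g => f g)
    fun j => by rw [finEquivZPowers_apply]).symm

variable [IsSimpleGroup G]

/-- A member `χ` of degree `24`, unique of its degree, with sign `-1`: `7` does not divide `|C(P) : P|`. -/
theorem not_seven_dvd [Fact (Nat.Prime 5)] {o : Opt} (B : Blk G 5 o) (hy : o.y = none) {χ : IrrCharacter G}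
    (hχ : χ ∈ B.xl) (hd : deg χ = 24) (hσ : B.σ χ = -1) (huniq : ∀ ξ ∈ B.xl, deg ξ = 24 → ξ = χ) :
    ¬ 7 ∣ o.k := by
  intro h7
  haveI : Fact (Nat.Prime 7) := ⟨by norm_num⟩
  have hχc := Char.isCharacter_of_isIrr χ.2
  obtain ⟨v, hv, hv1, hvo, -⟩ := B.exists_gen
  have hone : ∀ {g : G}, g ∈ (B.T.P : Subgroup G) → g ≠ 1 → ∀ {y : G}, y ∈ regs B.T.P →
      (χ : G → ℂ) (g * y) = -1 := fun {g} hg hg1 {y} hy => by
    rw [B.sec hχ hg hg1 (mem_regs.mp hy).1 (mem_regs.mp hy).2, hσ]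
    norm_num
  -- the values are rational
  have hfix : ∀ k : ℕ, k.Coprime (Nat.card G) → ∀ g, (χ : G → ℂ) (g ^ k) = (χ : G → ℂ) g := by
    intro k hk
    have h5k : ¬ 5 ∣ k := fun h => by
      have := Nat.dvd_gcd h (show 5 ∣ Nat.card G by rw [B.card_eq]; norm_num)
      rw [hk] at this
      norm_num at this
    obtain ⟨ξ, hξ⟩ : ∃ ξ : IrrCharacter G, ∀ g, (ξ : G → ℂ) g = (χ : G → ℂ) (g ^ k) :=
      ⟨⟨_, Char.isIrrCharacter_pow hk χ.2⟩, fun g => rfl⟩
    have hdξ : deg ξ = 24 := by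
      have h := value_one' ξ
      rw [hξ, one_pow, value_one', hd] at h
      exact_mod_cast h.symm
    have hmem : ξ ∈ Blocks.trivIrr G :: (B.xl ++ B.yl) := by
      by_contra hn
      have h0 := sum_section_eq_zero B.T.P B.T.card_P B.T.D (fun h => hn (B.cover ξ (Finset.mem_union_left _ h)))
        (fun h => hn (B.cover ξ (Finset.mem_union_right _ h))) hv hv1
      rw [Finset.sum_congr rfl (g := fun _ => (-1 : ℂ)) fun y hy => ?_, Finset.sum_const, nsmul_eq_mul] at h0
      swap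
      · rw [hξ, (show Commute v y from Subgroup.mem_centralizer_iff.mp (mem_regs.mp hy).1 v hv).mul_pow]
        refine hone (Subgroup.pow_mem _ hv k) (fun e => h5k ?_) (mem_regs.mpr
          ⟨Subgroup.pow_mem _ (mem_regs.mp hy).1 k, fun hh => (mem_regs.mp hy).2 (hh.trans (orderOf_pow_dvd k))⟩)
        rw [← hvo]
        exact orderOf_dvd_of_pow_eq_one e
      simp only [mul_neg, mul_one, neg_eq_zero, Nat.cast_eq_zero] at h0
      exact (Finset.card_pos.mpr ⟨1, one_mem_regs B.T.P⟩).ne' h0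
    rw [B.yl_none hy, List.append_nil, List.mem_cons] at hmem
    have he : ξ = χ := hmem.elim (fun e => by rw [e, deg_triv] at hdξ; norm_num at hdξ) fun h => huniq ξ h hdξ
    exact fun g => by rw [← hξ, he]
  obtain ⟨w, hwC, hwo⟩ : ∃ w ∈ Subgroup.centralizer ((B.T.P : Subgroup G) : Set G), orderOf w = 7 := by
    obtain ⟨w, hw⟩ := exists_prime_orderOf_dvd_card' (G := Subgroup.centralizer ((B.T.P : Subgroup G) : Set G)) 7
      (by rw [B.T.card_C]; exact h7.mul_left 5)
    exact ⟨w, w.2, by rw [Subgroup.orderOf_coe]; exact hw⟩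
  obtain ⟨q, hq⟩ := (Char.rat_value_iff hχc w).mpr fun k hk => hfix k hk w
  obtain ⟨A, hA⟩ := Char.exists_int_of_isIntegral_rat (q := q) (hq ▸ Char.isIntegral_value hχc w)
  have hwA : (χ : G → ℂ) w = A := by rw [hq, hA]; simp
  have hval : ∀ i : ℕ, i % 7 ≠ 0 → (χ : G → ℂ) (w ^ i) = A := by
    intro i hi
    obtain ⟨k, hk, hk7⟩ : ∃ k, k ∈ [1, 37, 17, 53, 19, 13] ∧ k % 7 = i % 7 := by
      have := Nat.mod_lt i (show 7 > 0 by norm_num)
      interval_cases h : i % 7 <;> simp_all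
    have hcop : k.Coprime (Nat.card G) := by
      rw [B.card_eq]
      simp only [List.mem_cons, List.not_mem_nil, or_false] at hk
      rcases hk with rfl | rfl | rfl | rfl | rfl | rfl <;> norm_num
    rw [← hwA, ← hfix k hcop w, pow_eq_pow_iff_modEq.mpr (show i ≡ k [MOD orderOf w] by rw [hwo]; exact hk7.symm)]
  -- the two sums
  obtain ⟨K7, hK7⟩ := M12Order.exists_nat_sum_subgroup hχc (Subgroup.zpowers w)
  rw [sum_zpowers, Nat.card_zpowers, hwo] at hK7
  have hc : Commute v w := Subgroup.mem_centralizer_iff.mp hwC v hv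
  have hvw : orderOf (v * w) = 35 := by
    rw [hc.orderOf_mul_eq_mul_orderOf_of_coprime (by rw [hvo, hwo]; norm_num), hvo, hwo]
  obtain ⟨K35, hK35⟩ := M12Order.exists_nat_sum_subgroup hχc (Subgroup.zpowers (v * w))
  rw [sum_zpowers, Nat.card_zpowers, hvw] at hK35
  have h1 : (χ : G → ℂ) 1 = ((24 : ℤ) : ℂ) := by rw [value_one', hd]; norm_num
  have e7 : ∀ j : Fin 7, (χ : G → ℂ) (w ^ (j : ℕ)) = (((if (j : ℕ) = 0 then 24 else A) : ℤ) : ℂ) := fun j => by
    split_ifs with h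
    · rw [h, pow_zero, h1]
    · exact hval j (by have := j.2; omega)
  have e35 : ∀ j : Fin 35, (χ : G → ℂ) ((v * w) ^ (j : ℕ)) =
      (((if (j : ℕ) % 5 = 0 then (if (j : ℕ) % 7 = 0 then 24 else A) else -1) : ℤ) : ℂ) := fun j => by
    rw [hc.mul_pow]
    split_ifs with h5 h77
    · rw [orderOf_dvd_iff_pow_eq_one.mp (hvo ▸ Nat.dvd_of_mod_eq_zero h5), one_mul,
        orderOf_dvd_iff_pow_eq_one.mp (hwo ▸ Nat.dvd_of_mod_eq_zero h77), h1]
    · rw [orderOf_dvd_iff_pow_eq_one.mp (hvo ▸ Nat.dvd_of_mod_eq_zero h5), one_mul, hval _ h77]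
    · rw [hone (Subgroup.pow_mem _ hv _) (fun e => h5 (Nat.mod_eq_zero_of_dvd (hvo ▸ orderOf_dvd_of_pow_eq_one e)))
        (mem_regs.mpr ⟨Subgroup.pow_mem _ hwC _, fun h => ?_⟩)]
      · norm_num
      · have := h.trans ((orderOf_pow_dvd (x := w) (j : ℕ)).trans (dvd_of_eq hwo))
        norm_num at this
  rw [Finset.sum_congr rfl fun j _ => e7 j, ← Int.cast_sum] at hK7
  rw [Finset.sum_congr rfl fun j _ => e35 j, ← Int.cast_sum] at hK35
  have i7 := Int.cast_injective (α := ℂ) (hK7.trans (by push_cast; rfl : ((7 : ℕ) : ℂ) * (K7 : ℂ) = (((7 * K7 : ℕ) : ℤ) : ℂ)))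
  have i35 := Int.cast_injective (α := ℂ) (hK35.trans (by push_cast; rfl : ((35 : ℕ) : ℂ) * (K35 : ℂ) = (((35 * K35 : ℕ) : ℤ) : ℂ)))
  simp only [Fin.sum_univ_succ, Finset.univ_unique, Fin.default_eq_zero, Finset.sum_singleton, Fin.val_zero,
    Fin.val_succ] at i7 i35
  norm_num at i7 i35
  have hb := UThreeUnique.norm_bound hwA
  rw [show charDegree (χ : G → ℂ) = 24 from hd] at hb
  have hA24 : A = 24 := by omega
  have hw1 := BrauerReynolds.faithful_of_simple (B.ne_triv (List.mem_append_left _ hχ)) (g := w)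
    (by rw [hwA, hA24, h1])
  rw [hw1, orderOf_one] at hwo
  omega

end CfsgLib.M24Order
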