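import Cfsg.Agent.Lib.M24Order.Invol11
import Cfsg.Agent.Lib.M24Order.Cases
import Cfsg.Agent.Lib.M24Order.Unique24

/-!
# Simple groups of order 244823040: two lists for the prime 5 against the prime 7
-/

set_option autoImplicit false
set_option linter.unusedSectionVars false
set_option linter.style.haveILetI false
set_option maxHeartbeats 1000000

namespace CfsgLib.M24Order

open Cfsg
open scoped ComplexConjugate CfsgLib.Char
open CfsgLib CfsgLib.BrauerTuan CfsgLib.OrderBlocks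
open scoped _root_.Classical

universe u

variable {G : Type u} [Group G] [Fintype G] [IsSimpleGroup G] {n Bd p : ℕ} [Fact p.Prime] {qs : List ℕ} {o : Opt}

theorem xl_eq_of_x (B : PBlk G n qs Bd p o) {q : List ℤ} (hq : (B.xl.map fun χ => B.σ χ * (deg χ : ℤ)).Perm q)
    (hnd : q.Nodup) {χ ξ : IrrCharacter G} (hχ : χ ∈ B.xl) (hξ : ξ ∈ B.xl)
    (h : B.σ χ * (deg χ : ℤ) = B.σ ξ * (deg ξ : ℤ)) : χ = ξ :=
  List.inj_on_of_nodup_map (hq.nodup_iff.mpr hnd) hχ hξ h

theorem x_mem (B : PBlk G n qs Bd p o) {q : List ℤ} (hq : (B.xl.map fun χ => B.σ χ * (deg χ : ℤ)).Perm q)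
    {χ : IrrCharacter G} (hχ : χ ∈ B.xl) : B.σ χ * (deg χ : ℤ) ∈ q :=
  hq.subset (List.mem_map.mpr ⟨χ, hχ, rfl⟩)

variable [Fact (Nat.Prime 5)] [Fact (Nat.Prime 7)] {o' : Opt}

/-- The residue of a common rational member. -/
theorem inX_residue {B : Blk G 5 o} {B' : Blk G 7 o'} (hX : ∀ χ ∈ B'.xl, (7 : ℤ) ∣ B'.σ χ * (deg χ : ℤ) - 1)
    {χ : IrrCharacter G} (hχ : χ ∈ inX B B') :
    (B.σ χ * B'.σ χ = 1 ∧ (B.σ χ * (deg χ : ℤ)) % 7 = 1) ∨
      (B.σ χ * B'.σ χ = -1 ∧ (B.σ χ * (deg χ : ℤ)) % 7 = 6) := by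
  obtain ⟨h1, h2⟩ := mem_inX.mp hχ
  have := hX χ h2
  rcases B.σ_unit h1 with e | e <;> rcases B'.σ_unit h2 with e' | e' <;> rw [e, e'] <;> rw [e'] at this <;> omega

/-- The two lists left for `5` are impossible against `7`. -/
theorem false_of_list57 {k : ℕ} {xs : List ℤ} {k' e' : ℕ} {xs' : List ℤ} {y' : Option ℤ}
    (B : Blk G 5 ⟨5, k, 4, xs, none⟩) {X' Y' : List ℤ} (hf' : Fits 7 k' e' X' Y' xs' y')
    (hX' : ∀ x ∈ X', (7 : ℤ) ∣ x - 1) (hY' : ∀ y ∈ Y', (7 : ℤ) ∣ y - e')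
    (B' : Blk G 7 ⟨7, k', e', xs', y'⟩) (h7 : ¬ 7 ∣ k) {q : List ℤ} (hlist : q = listA ∨ q = listB)
    (hq : (B.xl.map fun χ => B.σ χ * (deg χ : ℤ)).Perm q) : False := by
  have hxs' : xs' = B'.xl.map fun χ => B'.σ χ * (deg χ : ℤ) := B'.xs_eq
  have hX : ∀ χ ∈ B'.xl, (7 : ℤ) ∣ B'.σ χ * (deg χ : ℤ) - 1 := fun χ hχ =>
    hX' _ (hf'.mem _ ((congrArg (fun l : List ℤ => B'.σ χ * (deg χ : ℤ) ∈ l) hxs').mpr
      (List.mem_map.mpr ⟨χ, hχ, rfl⟩)))
  have hres : ∀ x ∈ q, x % 7 ≠ 6 := by rcases hlist with rfl | rfl <;> decide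
  have hnd : q.Nodup := by rcases hlist with rfl | rfl <;> decide
  have habs : ∀ x ∈ q, ∀ z ∈ q, x.natAbs = z.natAbs → x = z := by rcases hlist with rfl | rfl <;> decide
  have hone : ∀ χ ∈ inX B B', B.σ χ * B'.σ χ = 1 ∧ (B.σ χ * (deg χ : ℤ)) % 7 = 1 := fun χ hχ =>
    (inX_residue hX hχ).resolve_right fun h => hres _ (x_mem B hq (mem_inX.mp hχ).1) h.2
  have hY : inY B B' ≠ [] := by
    refine (cross_cases B rfl B' (by norm_num) h7).resolve_left ?_
    rintro ⟨χ, h1, h2, h3⟩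
    rw [(hone χ (mem_inX.mpr ⟨h1, h2⟩)).1] at h3
    norm_num at h3
  -- the block of `7` has exceptional characters
  obtain ⟨ψ, hψ⟩ := List.exists_mem_of_ne_nil _ hY
  obtain ⟨hψB, hψY⟩ := mem_inY.mp hψ
  have he' : e' + 1 ≠ 7 := fun h => by
    obtain ⟨hy, -, -⟩ := hf'.one h
    subst hy
    rw [B'.yl_none rfl] at hψY
    exact List.not_mem_nil hψY
  obtain ⟨y₀, rfl, hy₀, hlen, hys⟩ := hf'.more he'
  obtain ⟨-, hyd, -⟩ := B'.yl_some y₀ rfl
  have huniq : ∀ ξ ∈ inY B B', ξ = ψ := fun ξ hξ => by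
    obtain ⟨h1, h2⟩ := mem_inY.mp hξ
    refine xl_eq_of_x B hq hnd h1 hψB (habs _ (x_mem B hq h1) _ (x_mem B hq hψB) ?_)
    rw [(B.sgn_eq h1).2, (B.sgn_eq hψB).2, hyd ξ h2, hyd ψ hψY]
  have hsingle : inY B B' = [ψ] := by
    have hnd' : (inY B B').Nodup :=
      ((List.nodup_append.mp (List.nodup_cons.mp B.nodup).2).1).filter _
    rcases h : inY B B' with _ | ⟨a, _ | ⟨b, l⟩⟩
    · exact absurd h hY
    · rw [huniq a (h ▸ List.mem_cons_self)]
    · rw [h] at hnd' huniq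
      exact absurd ((huniq a (by simp)).trans (huniq b (by simp)).symm) (by
        intro e; subst e; simp at hnd')
  obtain ⟨hdvd, -⟩ := cross_single B rfl B' (by norm_num) h7 hsingle
  rw [show ((inX B B').map fun χ => B.σ χ * B'.σ χ).sum = ((inX B B').length : ℤ) by
    rw [List.map_congr_left (g := fun _ => (1 : ℤ)) fun χ hχ => (hone χ hχ).1]; simp] at hdvd
  have hcount : (inX B B').length ≤ q.countP fun x => decide (x % 7 = 1) := by
    rw [← hq.countP_eq, List.countP_map, inX, ← List.countP_eq_length_filter]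
    refine List.countP_mono_left fun χ hχ h => ?_
    simp only [decide_eq_true_eq] at h
    simp only [Function.comp_apply, decide_eq_true_eq]
    exact (hone χ (mem_inX.mpr ⟨hχ, h⟩)).2
  obtain ⟨x, hx⟩ : ∃ x, x = B.σ ψ * (deg ψ : ℤ) := ⟨_, rfl⟩
  have hxmem := x_mem B hq hψB
  rw [← hx] at hxmem
  have hdx : (7 : ℤ) ∣ x + (1 + ((inX B B').length : ℤ)) := by
    rcases B.σ_unit hψB with e | e <;> rw [e] at hdvd hx
    · rw [hx, one_mul]; simpa using hdvd
    · rw [hx]; omega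
  rcases hlist with rfl | rfl
  · -- the first list
    have hc : (List.countP (fun x => decide (x % 7 = 1)) listA) = 1 := by decide
    rw [hc] at hcount
    simp only [listA, List.mem_cons, List.not_mem_nil, or_false] at hxmem
    rcases hxmem with h | h | h | h <;> subst h <;> omega
  · -- the second list
    have hc : (List.countP (fun x => decide (x % 7 = 1)) listB) = 2 := by decide
    rw [hc] at hcount
    simp only [listB, List.mem_cons, List.not_mem_nil, or_false] at hxmem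
    have hx24 : x = -24 ∧ (inX B B').length = 2 := by
      rcases hxmem with h | h | h | h <;> subst h <;> omega
    -- both remaining members are rational members of the block for `7`
    have hd24 : deg ψ = 24 := by rw [← (B.sgn_eq hψB).2, ← hx, hx24.1]; rfl
    have hy24 : y₀ = 24 ∧ e' = 3 := by
      have h1 : y₀.natAbs = 24 := by rw [← hyd ψ hψY, hd24]
      have h2 := hY' y₀ hy₀
      have het := B'.T.D.het
      have h2e := B'.T.D.two_le_e
      rw [B'.e_eq] at het h2e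
      simp only at het h2e
      have hle : e' ≤ 6 := by
        have := Nat.le_mul_of_pos_right e' B'.T.D.one_le_t
        omega
      interval_cases e' <;> omega
    obtain ⟨χ₁, χ₂, hX12⟩ := List.length_eq_two.mp hx24.2
    have m₁ := mem_inX.mp (show χ₁ ∈ inX B B' by rw [hX12]; simp)
    have m₂ := mem_inX.mp (show χ₂ ∈ inX B B' by rw [hX12]; simp)
    have h12 : χ₁ ≠ χ₂ := fun e => by
      have hnd' : (inX B B').Nodup := ((List.nodup_append.mp (List.nodup_cons.mp B.nodup).2).1).filter _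
      rw [hX12, e] at hnd'
      simp at hnd'
    have hl : B'.xl.Perm [χ₁, χ₂] := by
      have hlen2 : B'.xl.length = 2 := by
        rw [show (2 : ℕ) = e' - 1 by omega, ← hlen]
        exact ((congrArg List.length hxs').trans (List.length_map _)).symm
      obtain ⟨a, b, hab⟩ := List.length_eq_two.mp hlen2
      have h1 := m₁.2
      have h2 := m₂.2
      rw [hab] at h1 h2 ⊢
      simp only [List.mem_cons, List.not_mem_nil, or_false] at h1 h2
      rcases h1 with rfl | rfl <;> rcases h2 with rfl | rfl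
      · exact absurd rfl h12
      · exact List.Perm.refl _
      · exact List.Perm.swap _ _ _
      · exact absurd rfl h12
    have hsum : xs'.sum = B'.σ χ₁ * (deg χ₁ : ℤ) + B'.σ χ₂ * (deg χ₂ : ℤ) := by
      rw [congrArg List.sum hxs', (hl.map _).sum_eq]; simp
    have r₁ := hone χ₁ (by rw [hX12]; simp)
    have r₂ := hone χ₂ (by rw [hX12]; simp)
    have x₁ := x_mem B hq m₁.1
    have x₂ := x_mem B hq m₂.1
    have hne : B.σ χ₁ * (deg χ₁ : ℤ) ≠ B.σ χ₂ * (deg χ₂ : ℤ) := fun e => h12 (xl_eq_of_x B hq hnd m₁.1 m₂.1 e)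
    have e₁ : B'.σ χ₁ = B.σ χ₁ := by
      have := r₁.1
      rcases B.σ_unit m₁.1 with e | e <;> rw [e] at this ⊢ <;> omega
    have e₂ : B'.σ χ₂ = B.σ χ₂ := by
      have := r₂.1
      rcases B.σ_unit m₂.1 with e | e <;> rw [e] at this ⊢ <;> omega
    rw [e₁, e₂] at hsum
    simp only [listB, List.mem_cons, List.not_mem_nil, or_false] at x₁ x₂
    have := r₁.2
    have := r₂.2
    have := hy24.1
    rcases x₁ with h₁ | h₁ | h₁ | h₁ <;> rcases x₂ with h₂ | h₂ | h₂ | h₂ <;> omega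

end CfsgLib.M24Order
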