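import Cfsg.Agent.Lib.M24Order.Count4
import Cfsg.Agent.Lib.M24Order.Keys4Defs
import Cfsg.Agent.Lib.M24Order.Sound11
import Cfsg.Agent.Lib.M24Order.Five
import Cfsg.Agent.Lib.M24Order.CoreOf
import Cfsg.Agent.Lib.M24Order.CharFiveSeven

/-!
# Simple groups of order 244823040: the values at involutions and at elements of order 5
-/

set_option autoImplicit false
set_option linter.unusedSectionVars false
set_option linter.style.haveILetI false

namespace CfsgLib.M24Order.E3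

open Cfsg
open scoped ComplexConjugate CfsgLib.Char
open CfsgLib CfsgLib.BrauerTuan CfsgLib.OrderBlocks CfsgLib.M24Order
open scoped _root_.Classical

universe u

theorem delta_mul {d : ℕ} {s : ℤ} (hs : s = 1 ∨ s = -1) (h : (11 : ℤ) ∣ s * (d : ℤ) - 1) : delta d = s := by
  unfold delta
  rcases hs with rfl | rfl <;> split_ifs <;> omega

theorem delta_zero {d : ℕ} (h : 11 ∣ d) : delta d = 0 := by
  unfold delta
  split_ifs <;> omega

/-- A stepped range. -/
theorem mem_steps {q m : ℕ} {A : ℤ} (hq : (q : ℤ) ∣ A) (hm : A.natAbs / q ≤ m) (hq0 : 0 < q) :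
    A ∈ (List.range (2 * m + 1)).map fun i : ℕ => (q : ℤ) * ((i : ℤ) - (m : ℤ)) := by
  obtain ⟨t, rfl⟩ := hq
  rw [Int.natAbs_mul, Int.natAbs_natCast, Nat.mul_div_cancel_left _ hq0] at hm
  simp only [List.mem_map, List.mem_range]
  exact ⟨(t + m).toNat, by omega, by rw [Int.toNat_of_nonneg (by omega)]; ring⟩

theorem mem_opts {C : ℕ} {spec : Bool} {d : ℕ} {A : ℤ} (hd : 0 < d) (hd' : d ≤ 15646)
    (h1 : A * A ≤ (C : ℤ)) (h2 : ((d : ℤ) - A) % 4 = 0) (h3 : ((order / C : ℕ) : ℤ) * A % (d : ℤ) = 0)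
    (h4 : A.natAbs < d) (h5 : C % 5 = 0 → d % 5 = 0 → A % 5 = 0)
    (h6 : spec = true → (11 : ℤ) * |A| ≤ (d : ℤ) + 10 * delta d ∧ (11 : ℤ) ∣ (d : ℤ) + 10 * delta d) :
    A ∈ opts C spec d := by
  have hq : ((d / Nat.gcd (order / C) d : ℕ) : ℤ) ∣ A := dvd_value hd (Int.dvd_of_emod_eq_zero h3)
  have hq0 : 0 < d / Nat.gcd (order / C) d :=
    Nat.div_pos (Nat.gcd_le_right _ hd) (Nat.gcd_pos_of_pos_right _ hd)
  have hl := le_lim14 h1 (by omega)
  simp only [opts, forceN_eq, forceI_eq, List.mem_filter, Bool.and_eq_true, Bool.or_eq_true, Bool.not_eq_true',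
    Bool.and_eq_false_iff, decide_eq_true_eq, decide_eq_false_iff_not]
  refine ⟨mem_steps hq (Nat.div_le_div_right ?_) hq0, ⟨h2, ?_⟩, ?_⟩
  · cases spec
    · simp only [Bool.false_eq_true, if_false]; omega
    · obtain ⟨b1, b2⟩ := h6 rfl
      simp only [if_true]
      have h1' : (A.natAbs : ℤ) = |A| := Int.natCast_natAbs A
      omega
  · cases spec
    · exact Or.inl rfl
    · obtain ⟨b1, b2⟩ := h6 rfl
      exact Or.inr (by omega)
  · by_cases hc : C % 5 = 0
    · by_cases hd5 : d % 5 = 0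
      · exact Or.inr (h5 hc hd5)
      · exact Or.inl (Or.inr hd5)
    · exact Or.inl (Or.inl hc)

theorem mem_opts5 {k d : ℕ} {A : ℤ} (hd : 0 < d) (hd' : d ≤ 15646) (h1 : A * A ≤ ((5 * k : ℕ) : ℤ))
    (h3 : ((order / (5 * k) : ℕ) : ℤ) * A % (d : ℤ) = 0) (h4 : A.natAbs < d)
    (h5 : (A - (d : ℤ)) % 5 = 0) (h5' : d % 5 = 0 → A = 0)
    (h6 : (11 : ℤ) * |A| ≤ (d : ℤ) + 10 * delta d) : A ∈ opts5 k d := by
  have hq : ((d / Nat.gcd (order / (5 * k)) d : ℕ) : ℤ) ∣ A := dvd_value hd (Int.dvd_of_emod_eq_zero h3)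
  have hq0 : 0 < d / Nat.gcd (order / (5 * k)) d :=
    Nat.div_pos (Nat.gcd_le_right _ hd) (Nat.gcd_pos_of_pos_right _ hd)
  have hl := le_lim14 h1 (by omega)
  have h1' : (A.natAbs : ℤ) = |A| := Int.natCast_natAbs A
  simp only [opts5, forceN_eq, List.mem_filter, Bool.and_eq_true, Bool.or_eq_true, decide_eq_true_eq]
  refine ⟨mem_steps hq (Nat.div_le_div_right ?_) hq0, h5, ?_⟩
  · omega
  · by_cases hd5 : d % 5 = 0
    · exact Or.inr (h5' hd5)
    · exact Or.inl hd5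

variable {G : Type u} [Group G] [Fintype G] [IsSimpleGroup G]

theorem deg_le (hn : Nat.card G = 244823040) (χ : IrrCharacter G) : deg χ ≤ 15646 := by
  have h := sum_sq_le (l := [χ]) (List.nodup_singleton χ) (g := (1 : G)) fun ξ _ => iv_spec ξ (one_mul 1)
  rw [cC_one hn] at h
  simp only [List.map_cons, List.map_nil, List.sum_cons, List.sum_nil, add_zero, iv_one] at h
  by_contra hh
  have : (15647 : ℤ) * 15647 ≤ (deg χ : ℤ) * deg χ :=
    mul_le_mul (by omega) (by omega) (by norm_num) (by omega)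
  norm_num at h this
  omega

variable [Fact (Nat.Prime 11)]

/-- What is known of the block for `11`. -/
def Res11 {xs : List ℤ} (_B : Blk G 11 ⟨11, 1, 10, xs, none⟩) : Prop := ∀ x ∈ xs, (11 : ℤ) ∣ x - 1

variable {xs : List ℤ} (B : Blk G 11 ⟨11, 1, 10, xs, none⟩) (hB : Res11 B)

include hB in
/-- A character at the non-trivial elements of `P₁₁`. -/
theorem value_P11 {χ : IrrCharacter G} (hne : χ ≠ Blocks.trivIrr G) {w : G} (hw : w ∈ (B.T.P : Subgroup G))
    (hw1 : w ≠ 1) : (χ : G → ℂ) w = (delta (deg χ) : ℂ) := by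
  by_cases hχ : χ ∈ B.xl
  · have hx : B.σ χ * (deg χ : ℤ) ∈ xs :=
      (congrArg (fun l : List ℤ => B.σ χ * (deg χ : ℤ) ∈ l) B.xs_eq).mpr (List.mem_map.mpr ⟨χ, hχ, rfl⟩)
    rw [B.value_P hχ hw hw1, delta_mul (B.σ_unit hχ) (hB _ hx)]
  · have hnot : χ ∉ Blocks.trivIrr G :: (B.xl ++ B.yl) := by simp [hne, hχ, B.yl_none rfl]
    rw [B.out rfl hnot hw hw1, delta_zero (B.dvd_deg rfl hnot)]
    simp

include hB in
/-- An element of `N(P₁₁)` outside `P₁₁`: the bound for an integer value. -/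
theorem bound11 {χ : IrrCharacter G} (hne : χ ≠ Blocks.trivIrr G) {u : G}
    (hN : u ∈ Subgroup.normalizer ((B.T.P : Subgroup G) : Set G)) (hu : u ∉ (B.T.P : Subgroup G)) {a : ℤ}
    (ha : (χ : G → ℂ) u = a) :
    (11 : ℤ) * |a| ≤ (deg χ : ℤ) + 10 * delta (deg χ) ∧ (11 : ℤ) ∣ (deg χ : ℤ) + 10 * delta (deg χ) := by
  have hc := Char.isCharacter_of_isIrr χ.2
  obtain ⟨K, hK⟩ := M12Order.exists_nat_sum_subgroup hc (B.T.P : Subgroup G)
  rw [B.T.card_P] at hK
  have hb := abs_le_of_const hc (B.T.P : Subgroup G) B.T.card_P hN (fun w => by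
    obtain ⟨s, -, hs⟩ := isConj_coset B.T.card_P (B.cent rfl) hN hu w.2
    rw [← hs, Char.isClassFunction_of_isCharacter hc u s]) hK ha
  rw [← Finset.add_sum_erase _ _ (Finset.mem_univ (1 : (B.T.P : Subgroup G))),
    Finset.sum_congr rfl (g := fun _ => (delta (deg χ) : ℂ)) (fun (w : (B.T.P : Subgroup G)) hw =>
      value_P11 B hB hne w.2 (fun e => Finset.ne_of_mem_erase hw (Subtype.ext e))),
    Finset.sum_const, Finset.card_erase_of_mem (Finset.mem_univ _), Finset.card_univ,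
    ← Nat.card_eq_fintype_card, B.T.card_P, Subgroup.coe_one, value_one', nsmul_eq_mul] at hK
  have hK' : (deg χ : ℤ) + 10 * delta (deg χ) = 11 * (K : ℤ) := by
    apply Int.cast_injective (α := ℂ)
    push_cast at hK ⊢
    linear_combination hK
  rw [hK']
  exact ⟨by linarith, dvd_mul_right _ _⟩

variable [Fact (Nat.Prime 5)] {k : ℕ} {q5 : List ℤ} (B5 : Blk G 5 ⟨5, k, 4, q5, none⟩)

include B5 in
/-- An involution with `5` in the order of its centraliser: multiples of 5 in degree give multiples of 5. -/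
theorem five_dvd {g : G} (hg : orderOf g = 2) (h5 : 5 ∣ cC g) {χ : IrrCharacter G} (hd : 5 ∣ deg χ) :
    iv χ g % 5 = 0 := by
  obtain ⟨w, hw⟩ := exists_prime_orderOf_dvd_card' (G := Subgroup.centralizer ({g} : Set G)) 5 h5
  have hc : Commute (w : G) g := Subgroup.mem_centralizer_singleton_iff.mp w.2
  have hwo : orderOf (w : G) = 5 := by rw [Subgroup.orderOf_coe]; exact hw
  have ho : orderOf ((w : G) * g) = 10 := by
    rw [hc.orderOf_mul_eq_mul_orderOf_of_coprime (by rw [hwo, hg]; norm_num), hwo, hg]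
  have hv : (χ : G → ℂ) ((w : G) * g) = ((0 : ℤ) : ℂ) := by
    rw [B5.vanish hd (by rw [ho]; norm_num)]; simp
  have hw5 : (w : G) ^ 5 = 1 := hwo ▸ pow_orderOf_eq_one _
  have hg5 : g ^ 5 = g := by
    rw [pow_succ, pow_mul g 2 2, show g ^ 2 = 1 from hg ▸ pow_orderOf_eq_one g, one_pow, one_mul]
  have hp : ((w : G) * g) ^ 5 = g := by rw [hc.mul_pow, hw5, one_mul, hg5]
  have h := pow_congr (Char.isCharacter_of_isIrr χ.2) (by norm_num : Nat.Prime 5) hv
    (b := iv χ g) (by rw [hp]; exact iv_spec χ (mul_self_of_order_two hg))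
  omega

/-- The values at an involution. -/
theorem iv_mem_opts {χ : IrrCharacter G} (hne : χ ≠ Blocks.trivIrr G) (hB : Res11 B) (B5 : Blk G 5 ⟨5, k, 4, q5, none⟩)
    {g : G} (hg : orderOf g = 2) {spec : Bool}
    (hs : spec = true → g ∈ Subgroup.normalizer ((B.T.P : Subgroup G) : Set G)) :
    iv χ g ∈ opts (cC g) spec (deg χ) := by
  obtain ⟨f1, f2, f3, f4⟩ := iv_facts B.card_eq B.T.noncomm hne hg
  refine mem_opts (deg_pos χ) (deg_le B.card_eq χ) f1 f2 f3 f4
    (fun hC hd => five_dvd B5 hg (Nat.dvd_of_mod_eq_zero hC) (Nat.dvd_of_mod_eq_zero hd)) fun h => ?_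
  refine bound11 B hB hne (hs h) (fun hm => ?_) (iv_spec χ (mul_self_of_order_two hg))
  have h' := Subgroup.orderOf_dvd_natCard _ hm
  rw [hg, B.T.card_P] at h'
  norm_num at h'

/-- An element of order `5` in `N(P₁₁)`. -/
theorem exists_five_nor (he : B.T.D.e = 10) :
    ∃ h : G, orderOf h = 5 ∧ h ∈ Subgroup.normalizer ((B.T.P : Subgroup G) : Set G) ∧ h ∉ (B.T.P : Subgroup G) := by
  obtain ⟨f, hf⟩ := exists_prime_orderOf_dvd_card'
    (G := Subgroup.normalizer ((B.T.P : Subgroup G) : Set G)) 5 (by rw [card_normalizer B.T, he]; norm_num)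
  refine ⟨f, by rw [Subgroup.orderOf_coe]; exact hf, f.2, fun hm => ?_⟩
  have h' := Subgroup.orderOf_dvd_natCard _ hm
  rw [Subgroup.orderOf_coe, hf, B.T.card_P] at h'
  norm_num at h'

/-- The values at an element of order `5`. -/
theorem iv_mem_opts5 {χ : IrrCharacter G} (hne : χ ≠ Blocks.trivIrr G) (hB : Res11 B)
    (B5 : Blk G 5 ⟨5, k, 4, q5, none⟩) (he5 : B5.T.D.e = 4) {h : G} (hh : orderOf h = 5)
    (hN : h ∈ Subgroup.normalizer ((B.T.P : Subgroup G) : Set G)) (hP : h ∉ (B.T.P : Subgroup G)) :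
    (χ : G → ℂ) h = iv χ h ∧ iv χ h ∈ opts5 k (deg χ) := by
  have hn := B.card_eq
  have hA := iv_spec_of_int (int_value_five B5.T he5 χ hh)
  have hcC : cC h = 5 * k := cC_of_ctx B5.T hh
  have hsq := sum_sq_le (l := [χ]) (List.nodup_singleton χ) (g := h) fun ξ hξ => by
    rw [List.mem_singleton] at hξ; subst hξ; exact hA
  simp only [List.map_cons, List.map_nil, List.sum_cons, List.sum_nil, add_zero] at hsq
  rw [hcC] at hsq
  have hω := Int.emod_eq_zero_of_dvd (M12Order.omega_dvd hA)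
  rw [index_eq hn, hcC] at hω
  obtain ⟨n1, n2⟩ := UThreeUnique.value_ne B.T.noncomm hne (fun e => by rw [e, orderOf_one] at hh; omega) hA
  obtain ⟨b1, b2⟩ := UThreeUnique.norm_bound hA
  rw [show charDegree (χ : G → ℂ) = deg χ from rfl] at b1 b2 n1 n2 hω
  have hc5 := pow_congr (Char.isCharacter_of_isIrr χ.2) (by norm_num : Nat.Prime 5) hA (b := (deg χ : ℤ))
    (by rw [show h ^ 5 = 1 from hh ▸ pow_orderOf_eq_one h, value_one']; push_cast; rfl)
  refine ⟨hA, mem_opts5 (deg_pos χ) (deg_le hn χ) hsq hω (by omega) (Int.emod_eq_zero_of_dvd hc5) (fun hd => ?_)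
    (bound11 B hB hne hN hP hA).1⟩
  exact iv_eq (by rw [B5.vanish (Nat.dvd_of_mod_eq_zero hd) (by rw [hh])]; simp)

end CfsgLib.M24Order.E3
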